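import Cfsg.Agent.Mrg.Omega.NO3S.FarQ.Abs
import Cfsg.Agent.Lib.GoldschmidtFusion
import Mathlib

section


/-!
# NO-3S, `q ≥ 4`, the world without `FullK`: `M_τ`, `rad`, `N⁺` (helper471 #21459, section 0)

`Flag T lam U Kh` of `FarQ/Abs.lean`; `K` is the point `p` as an abstract group, `Kh = K̂ ≤ Hom(M, K)`.

* `OnL lam Kh` : `{φ a : φ ∈ K̂} = K` for `1 ≠ a ∈ lam`;
* `Mt Kh D = {m | K̂(m) ≤ D}`, `D < K` (`M_τ`, `D = ker τ`), `rad Kh = Mt Kh ⊥`, `Np Kh = ⨆_{D < K} Mt Kh D` (`N⁺`);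
* `cq N = C_H(M / N)`;
* `Flag.cq_mt` : `C_H(M / M_τ) = C_H(M / rad)`; `Flag.mt_inf` : `M_τ ∩ lam = 1`;
* `Flag.dual` : duality.
-/

set_option autoImplicit false
set_option linter.unusedSectionVars false

namespace Cfsg.Agent.Omega.NO3S.FullQ

open Subgroup Cfsg.Agent.ZN Cfsg.Agent.Omega.NO3S.PT Cfsg.Agent.Omega.NO3S.FarQ
open Cfsg.Agent.ClassTwoFusion.Quad (cv mem_cv cv_anti)

variable {H M K : Type*} [Group H] [CommGroup M] [MulDistribMulAction H M] [CommGroup K]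

/-- `N` is `H`-invariant. -/
def HInv (H : Type*) {M : Type*} [Group H] [CommGroup M] [MulDistribMulAction H M] (N : Subgroup M) : Prop :=
  ∀ h : H, ∀ n ∈ N, h • n ∈ N

/-- `K̂` is onto `K` at every element of `lam#`. -/
def OnL (lam : Subgroup M) (Kh : Subgroup (M →* K)) : Prop := ∀ a ∈ lam, a ≠ 1 → ∀ r : K, ∃ φ ∈ Kh, φ a = r

/-- `M_τ`, `D = ker τ`. -/
def Mt (Kh : Subgroup (M →* K)) (D : Subgroup K) : Subgroup M where
  carrier := {m | ∀ φ ∈ Kh, φ m ∈ D}
  one_mem' := fun φ _ => by rw [map_one]; exact one_mem _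
  mul_mem' := fun {a b} ha hb φ hφ => by rw [map_mul]; exact mul_mem (ha φ hφ) (hb φ hφ)
  inv_mem' := fun {a} ha φ hφ => by rw [map_inv]; exact inv_mem (ha φ hφ)

theorem mem_Mt {Kh : Subgroup (M →* K)} {D : Subgroup K} {m : M} : m ∈ Mt Kh D ↔ ∀ φ ∈ Kh, φ m ∈ D := Iff.rfl

/-- `rad = N_p / p` -/
def rad (Kh : Subgroup (M →* K)) : Subgroup M := Mt Kh ⊥

theorem mem_rad {Kh : Subgroup (M →* K)} {m : M} : m ∈ rad Kh ↔ ∀ φ ∈ Kh, φ m = 1 := by
  constructor
  · intro h φ hφ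
    exact mem_bot.1 (h φ hφ)
  · intro h φ hφ
    exact mem_bot.2 (h φ hφ)

/-- `N⁺` -/
def Np (Kh : Subgroup (M →* K)) : Subgroup M := ⨆ D : {D : Subgroup K // D ≠ ⊤}, Mt Kh D

theorem Mt_mono {Kh : Subgroup (M →* K)} {D D' : Subgroup K} (h : D ≤ D') : Mt Kh D ≤ Mt Kh D' :=
  fun _ hm φ hφ => h (hm φ hφ)

theorem rad_le_Mt (Kh : Subgroup (M →* K)) (D : Subgroup K) : rad Kh ≤ Mt Kh D := Mt_mono bot_le

theorem Mt_le_Np (Kh : Subgroup (M →* K)) {D : Subgroup K} (h : D ≠ ⊤) : Mt Kh D ≤ Np Kh :=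
  le_iSup (fun D : {D : Subgroup K // D ≠ ⊤} => Mt Kh D) ⟨D, h⟩

theorem Np_le {Kh : Subgroup (M →* K)} {E : Subgroup M} (h : ∀ D : Subgroup K, D ≠ ⊤ → Mt Kh D ≤ E) :
    Np Kh ≤ E := iSup_le fun D => h D.1 D.2

/-- `C_H(M / N)` -/
def cq (N : Subgroup M) : Subgroup H where
  carrier := {h | ∀ m : M, (h • m) * m⁻¹ ∈ N}
  one_mem' := fun m => by rw [one_smul, mul_inv_cancel]; exact one_mem _
  mul_mem' := by
    intro a b ha hb m
    have e1 : (a * b) • m * m⁻¹ = (a • (b • m)) * (b • m)⁻¹ * ((b • m) * m⁻¹) := by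
      rw [mul_smul]; group
    rw [e1]
    exact mul_mem (ha _) (hb m)
  inv_mem' := by
    intro a ha m
    have h1 := inv_mem (ha (a⁻¹ • m))
    rw [smul_inv_smul, mul_inv_rev, inv_inv] at h1
    exact h1

theorem mem_cq {N : Subgroup M} {h : H} : h ∈ cq N ↔ ∀ m : M, (h • m) * m⁻¹ ∈ N := Iff.rfl

theorem cq_mono {N N' : Subgroup M} (h : N ≤ N') : cq (H := H) N ≤ cq N' := fun _ hx m => h (hx m)

/-- a map out of `HInv` -/
theorem HInv.conj_mem {N : Subgroup M} (hN : HInv H N) {h g : H} (hh : h ∈ cq N) : g * h * g⁻¹ ∈ cq N := by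
  intro m
  have h1 := hN g _ (hh (g⁻¹ • m))
  rw [smul_mul', smul_inv', smul_inv_smul] at h1
  rw [mul_smul, mul_smul]
  exact h1

theorem HInv.normal {N : Subgroup M} (hN : HInv H N) : (cq (H := H) N).Normal := ⟨fun _ hh _ => hN.conj_mem hh⟩

theorem HInv.sup {N N' : Subgroup M} (h : HInv H N) (h' : HInv H N') : HInv H (N ⊔ N') := by
  intro g m hm
  obtain ⟨a, ha, b, hb, rfl⟩ := mem_sup.1 hm
  rw [smul_mul']
  exact mem_sup.2 ⟨_, h g a ha, _, h' g b hb, rfl⟩

theorem HInv.iSup {ι : Sort*} {N : ι → Subgroup M} (h : ∀ i, HInv H (N i)) : HInv H (⨆ i, N i) := by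
  intro g
  have h1 : (⨆ i, N i) ≤ (⨆ i, N i).comap (MulDistribMulAction.toMonoidHom M g) := by
    refine iSup_le fun i m hm => ?_
    exact (le_iSup N i) (h i g m hm)
  exact fun m hm => h1 hm

/-- a line vector orbit generates: `N` contains one `a ∈ lam#` is impossible if something `≠ 1` centralises `N` -/
theorem zm_hinv {J : Subgroup H} {N : Subgroup M} (h : N ≤ zm M J) {n : M} (hn : n ∈ N) {j : H} (hj : j ∈ J) :
    j • n = n := (mem_cv.1 (h hn)) j hj

section flag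

variable {T : Subgroup H} {lam U : Subgroup M} {Kh : Subgroup (M →* K)} (F : Flag T lam U Kh)
include F

/-- `K̂` is `H`-invariant: the composition -/
theorem _root_.Cfsg.Agent.Omega.NO3S.FarQ.Flag.comp_mem {φ : M →* K} (hφ : φ ∈ Kh) (h : H) :
    φ.comp (MulDistribMulAction.toMonoidHom M h) ∈ Kh := by
  obtain ⟨ψ, hψ, e⟩ := F.kh φ hφ h
  have e1 : φ.comp (MulDistribMulAction.toMonoidHom M h) = ψ := by
    ext m
    exact (e m).symm
  rw [e1]
  exact hψ

theorem _root_.Cfsg.Agent.Omega.NO3S.FarQ.Flag.hinv_Mt (D : Subgroup K) : HInv H (Mt Kh D) := by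
  intro h m hm φ hφ
  exact hm _ (F.comp_mem hφ h)

theorem _root_.Cfsg.Agent.Omega.NO3S.FarQ.Flag.hinv_rad : HInv H (rad Kh) := F.hinv_Mt ⊥

theorem _root_.Cfsg.Agent.Omega.NO3S.FarQ.Flag.hinv_Np : HInv H (Np Kh) := HInv.iSup fun D => F.hinv_Mt D.1

/-- `φ ∈ K̂` is trivial or bijective on `lam` -/
theorem _root_.Cfsg.Agent.Omega.NO3S.FarQ.Flag.onto {φ : M →* K} (hφ : φ ∈ Kh) {a : M} (ha : a ∈ lam) (h : φ a ≠ 1)
    (r : K) : ∃ b ∈ lam, φ b = r := by
  have := F.finM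
  have hinj : Function.Injective fun x : lam => φ x := by
    intro x y hxy
    have h1 : φ ((x : M) * (y : M)⁻¹) = 1 := by
      rw [map_mul, map_inv, mul_inv_eq_one]
      exact hxy
    by_contra hne
    have h2 : (x : M) * (y : M)⁻¹ ≠ 1 := fun e => hne (Subtype.ext (mul_inv_eq_one.1 e))
    exact h (F.ti φ hφ _ (mul_mem x.2 (inv_mem y.2)) h2 h1 a ha)
  have : Finite K := by
    have h1 : Nat.card K ≠ 0 := by rw [F.cardR]; exact Nat.card_pos.ne'
    exact Nat.finite_of_card_ne_zero h1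
  have hb := (Nat.bijective_iff_injective_and_card (fun x : lam => φ x)).2 ⟨hinj, F.cardR.symm⟩
  obtain ⟨x, hx⟩ := hb.2 r
  exact ⟨x, x.2, hx⟩

/-- `φ ∈ K̂` with values in a proper subgroup on the line `g lam` is trivial on it -/
theorem _root_.Cfsg.Agent.Omega.NO3S.FarQ.Flag.eq_one_of_lam {D : Subgroup K} (hD : D ≠ ⊤) {φ : M →* K} (hφ : φ ∈ Kh)
    (g : H) (h : ∀ a ∈ lam, φ (g • a) ∈ D) : ∀ a ∈ lam, φ (g • a) = 1 := by
  intro a ha
  by_contra hne
  apply hD
  rw [eq_top_iff]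
  intro r _
  obtain ⟨b, hb, e⟩ := F.onto (F.comp_mem hφ g) ha hne r
  rw [← e]
  exact h b hb

/-- `φ ∈ K̂` with values in a proper subgroup is trivial -/
theorem _root_.Cfsg.Agent.Omega.NO3S.FarQ.Flag.eq_one_of {D : Subgroup K} (hD : D ≠ ⊤) {φ : M →* K} (hφ : φ ∈ Kh)
    (h : ∀ m, φ m ∈ D) : φ = 1 := by
  have h1 : φ.ker = ⊤ := F.gen _ fun g a ha => F.eq_one_of_lam hD hφ g (fun b _ => h _) a ha
  ext m
  have h2 : m ∈ φ.ker := by rw [h1]; exact mem_top m
  exact h2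

/-- `C_H(M / M_τ) = C_H(M / rad)` -/
theorem _root_.Cfsg.Agent.Omega.NO3S.FarQ.Flag.cq_Mt {D : Subgroup K} (hD : D ≠ ⊤) :
    cq (H := H) (Mt Kh D) = cq (rad Kh) := by
  apply le_antisymm _ (cq_mono (rad_le_Mt Kh D))
  intro h hh m
  rw [mem_rad]
  intro φ hφ
  have h1 : φ.comp (MulDistribMulAction.toMonoidHom M h) * φ⁻¹ = 1 := by
    refine F.eq_one_of hD (mul_mem (F.comp_mem hφ h) (inv_mem hφ)) fun m => ?_
    have h2 := hh m φ hφ
    rw [map_mul, map_inv] at h2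
    exact h2
  have h3 := DFunLike.congr_fun h1 m
  rw [map_mul, map_inv]
  exact h3

/-- `M_τ ∩ lam = 1` -/
theorem _root_.Cfsg.Agent.Omega.NO3S.FarQ.Flag.Mt_lam (hO : OnL lam Kh) {D : Subgroup K} (hD : D ≠ ⊤) {a : M}
    (ha : a ∈ lam) (h : a ∈ Mt Kh D) : a = 1 := by
  by_contra hne
  apply hD
  rw [eq_top_iff]
  intro r _
  obtain ⟨φ, hφ, e⟩ := hO a ha hne r
  rw [← e]
  exact h φ hφ

/-- `⊥ ≠ ⊤` in `K` -/
theorem _root_.Cfsg.Agent.Omega.NO3S.FarQ.Flag.bot_ne_top : (⊥ : Subgroup K) ≠ ⊤ := by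
  intro e
  have h1 : Nat.card (⊥ : Subgroup K) = Nat.card (⊤ : Subgroup K) := by rw [e]
  rw [card_bot, card_top, F.cardR] at h1
  have := F.four
  omega

/-- an element centralising some `a ∈ lam#` and its conjugates is trivial -/
theorem _root_.Cfsg.Agent.Omega.NO3S.FarQ.Flag.eq_one_of_cent {N : Subgroup M} (hN : HInv H N) {a : M} (ha : a ∈ lam)
    (ha1 : a ≠ 1) (haN : a ∈ N) {j : H} (hj : ∀ n ∈ N, j • n = n) : j = 1 := by
  apply F.faith
  have h1 : cv M ({j} : Set H) = ⊤ := F.gen _ fun h b hb => by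
    rw [mem_cv]
    intro x hx
    rw [Set.mem_singleton_iff.1 hx]
    have h2 : (h⁻¹ * j * h) • a = a := by
      rw [mul_smul, mul_smul, hj _ (hN h a haN), inv_smul_smul]
    have h3 := F.lin a ha ha1 _ h2 b hb
    rw [mul_smul, mul_smul, inv_smul_eq_iff] at h3
    exact h3
  intro m
  have h2 : m ∈ cv M ({j} : Set H) := by rw [h1]; exact mem_top m
  exact (mem_cv.1 h2) j rfl

/-! ### Duality -/

/-- **Duality**: `D` of index 2 in `K`, `M_τ ≤ E`, `m ∉ E`: some `φ ∈ K̂` has `φ(E) ≤ D`, `φ(m) ∉ D`. -/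
theorem _root_.Cfsg.Agent.Omega.NO3S.FarQ.Flag.dual {D : Subgroup K} (hD : D.index = 2) {E : Subgroup M}
    (hE : Mt Kh D ≤ E) {m : M} (hm : m ∉ E) : ∃ φ ∈ Kh, (∀ e ∈ E, φ e ∈ D) ∧ φ m ∉ D := by
  classical
  have := F.finM
  let _ : Module (ZMod 2) (Additive M) := AddCommGroup.zmodModule (n := 2) (fun x => by
    rw [two_nsmul]
    exact congrArg Additive.ofMul (F.sq x.toMul))
  have hKD : Nat.card (K ⧸ D) = 2 := hD
  have hex : ∃ χ : K →* Multiplicative (ZMod 2), χ.ker = D := by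
    have h1 : IsCyclic (K ⧸ D) := isCyclic_of_prime_card (p := 2) hKD
    have h2 : Nat.card (K ⧸ D) = Nat.card (Multiplicative (ZMod 2)) := by
      rw [hKD]
      exact (Nat.card_zmod 2).symm
    let e := mulEquivOfCyclicCardEq h2
    refine ⟨e.toMonoidHom.comp (QuotientGroup.mk' D), ?_⟩
    ext x
    rw [MonoidHom.mem_ker]
    constructor
    · intro h
      have h3 : e (QuotientGroup.mk' D x) = 1 := h
      rw [map_eq_one_iff e e.injective] at h3
      exact (QuotientGroup.eq_one_iff x).1 h3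
    · intro h
      have h3 : QuotientGroup.mk' D x = 1 := (QuotientGroup.eq_one_iff x).2 h
      show e (QuotientGroup.mk' D x) = 1
      rw [h3, map_one]
  obtain ⟨χ, hχ⟩ := hex
  have hχD : ∀ x : K, χ x = 1 ↔ x ∈ D := fun x => by rw [← hχ, MonoidHom.mem_ker]
  let toD : (M →* K) → Module.Dual (ZMod 2) (Additive M) := fun φ =>
    AddMonoidHom.toZModLinearMap 2 (AddMonoidHom.mk' (fun x : Additive M => (χ (φ x.toMul)).toAdd) (by
      intro a b
      show (χ (φ (a.toMul * b.toMul))).toAdd = _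
      rw [map_mul, map_mul]
      rfl))
  have htoD : ∀ φ (x : M), toD φ (Additive.ofMul x) = 0 ↔ φ x ∈ D := by
    intro φ x
    rw [← hχD]
    exact Iff.rfl
  let W : Submodule (ZMod 2) (Module.Dual (ZMod 2) (Additive M)) :=
    AddSubgroup.toZModSubmodule 2
      { carrier := {f | ∃ φ ∈ Kh, toD φ = f}
        zero_mem' := ⟨1, one_mem _, by
          ext x
          show (χ 1).toAdd = 0
          rw [map_one]
          rfl⟩
        add_mem' := by
          rintro _ _ ⟨φ, hφ, rfl⟩ ⟨ψ, hψ, rfl⟩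
          refine ⟨φ * ψ, mul_mem hφ hψ, ?_⟩
          ext x
          show (χ (φ x.toMul * ψ x.toMul)).toAdd = _
          rw [map_mul]
          rfl
        neg_mem' := by
          rintro _ ⟨φ, hφ, rfl⟩
          refine ⟨φ⁻¹, inv_mem hφ, ?_⟩
          ext x
          show (χ (φ x.toMul)⁻¹).toAdd = _
          rw [map_inv]
          rfl }
  have hW : ∀ f, f ∈ W ↔ ∃ φ ∈ Kh, toD φ = f := fun f => Iff.rfl
  let E' : Submodule (ZMod 2) (Additive M) := AddSubgroup.toZModSubmodule 2 (Subgroup.toAddSubgroup E)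
  have hE' : ∀ x : M, Additive.ofMul x ∈ E' ↔ x ∈ E := fun x => Iff.rfl
  have h1 : W.dualCoannihilator ≤ E' := by
    intro x hx
    rw [Submodule.mem_dualCoannihilator] at hx
    refine hE ?_
    intro φ hφ
    exact (htoD φ x.toMul).1 (hx _ ((hW _).2 ⟨φ, hφ, rfl⟩))
  have hm' : Additive.ofMul m ∉ E' := hm
  obtain ⟨f, hf, hfE⟩ := Submodule.exists_le_ker_of_notMem hm'
  have h2 : f ∈ W := by
    rw [← Subspace.dualCoannihilator_dualAnnihilator_eq (W := W), Submodule.mem_dualAnnihilator]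
    intro x hx
    exact hfE (h1 hx)
  obtain ⟨φ, hφ, rfl⟩ := (hW _).1 h2
  refine ⟨φ, hφ, fun e he => ?_, fun h3 => hf ((htoD φ m).2 h3)⟩
  exact (htoD φ e).1 (hfE ((hE' e).2 he))

/-- there is a subgroup of index 2 in `K` -/
theorem _root_.Cfsg.Agent.Omega.NO3S.FarQ.Flag.exists_index_two : ∃ D : Subgroup K, D.index = 2 := by
  classical
  have := F.finM
  have : Finite K := by
    have h1 : Nat.card K ≠ 0 := by rw [F.cardR]; exact Nat.card_pos.ne'
    exact Nat.finite_of_card_ne_zero h1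
  let _ : Module (ZMod 2) (Additive K) := AddCommGroup.zmodModule (n := 2) (fun x => by
    rw [two_nsmul]
    exact congrArg Additive.ofMul (F.sqR x.toMul))
  have hnt : Nontrivial K := by
    rw [← Finite.one_lt_card_iff_nontrivial, F.cardR]
    have := F.four
    omega
  obtain ⟨k, hk⟩ := exists_ne (1 : K)
  have hk' : Additive.ofMul k ∉ (⊥ : Submodule (ZMod 2) (Additive K)) := by
    rw [Submodule.mem_bot]
    exact hk
  obtain ⟨f, hf, -⟩ := Submodule.exists_le_ker_of_notMem hk'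
  let g : K →* Multiplicative (ZMod 2) := MonoidHom.mk' (fun x => Multiplicative.ofAdd (f (Additive.ofMul x)))
    (fun a b => by rw [ofMul_mul, map_add, ofAdd_add])
  have hg : g k ≠ 1 := hf
  refine ⟨g.ker, ?_⟩
  have h1 : g.range = ⊤ := by
    have h2 : Nat.card g.range ∣ Nat.card (Multiplicative (ZMod 2)) := card_subgroup_dvd_card _
    have h3 : Nat.card (Multiplicative (ZMod 2)) = 2 := Nat.card_zmod 2
    rw [h3] at h2
    rcases (Nat.dvd_prime Nat.prime_two).1 h2 with h4 | h4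
    · exfalso
      rw [card_eq_one] at h4
      have h5 : g k ∈ g.range := ⟨k, rfl⟩
      rw [h4, mem_bot] at h5
      exact hg h5
    · apply eq_top_of_card_eq
      rw [h4, h3]
  rw [index_ker, h1, card_top]
  exact Nat.card_zmod 2

omit F in
theorem ne_top_of_index {D : Subgroup K} (hD : D.index = 2) : D ≠ ⊤ := by
  rintro rfl
  rw [index_top] at hD
  omega

/-- **Duality for lines**: `μ = g lam`: `φ(μ) ≤ D` implies `φ(μ) = 1`. For `E = μ₁ μ₂ N⁺` etc. -/
theorem _root_.Cfsg.Agent.Omega.NO3S.FarQ.Flag.dual_line {E : Subgroup M} (hE : Np Kh ≤ E) {m : M} (hm : m ∉ E) :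
    ∃ φ ∈ Kh, (∀ g : H, (∀ a ∈ lam, g • a ∈ E) → ∀ a ∈ lam, φ (g • a) = 1) ∧ φ m ≠ 1 := by
  obtain ⟨D, hD⟩ := F.exists_index_two
  have hDt := ne_top_of_index hD
  obtain ⟨φ, hφ, h1, h2⟩ := F.dual hD ((Mt_le_Np Kh hDt).trans hE) hm
  refine ⟨φ, hφ, fun g hg => F.eq_one_of_lam hDt hφ g fun a ha => h1 _ (hg a ha), fun e => h2 ?_⟩
  rw [e]
  exact one_mem _

end flag

end Cfsg.Agent.Omega.NO3S.FullQ

end

section


/-!
# FULL, `q ≥ 4`: the count of class P (helper471 #21459, (2b), (2c))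

`M = W_p / p`, `Q = M / N⁺` an `F`-space on which `H` acts linearly, `π : M → Q`, `F a₀` = the image of `lam`.
`Dat π a₀ A` : `A ≤ O₂(C_H(a₀))` has exponent 2, `|M : C_M(A)| ≤ |A|`, and every `a ∈ A`, `a ≠ 1`, inverts an element
`h ≠ 1` of odd order for which the span of `h a₀`, `h⁻¹ a₀` contains `a₀` and is invariant under `A` and `h`.

* `Dat.le` : `[Q, A] ≤ F a₀`;
* `Dat.fixM` : `C_M(A)` is the full preimage of `C_Q(A)`; so `A` centralises `ker π`;
* `Dat.inj` : `A` is faithful on `Q`;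
* `Dat.all` : `A` = all homomorphisms `Q / C_Q(A) → F a₀`;
* `Dat.theta` : for `c ≠ 0` there is `θ` of odd order, trivial on `ker π`, `θ a₀ = c a₀`.
-/

set_option autoImplicit false
set_option linter.unusedSectionVars false

namespace Cfsg.Agent.Omega.NO3S.FullQ.Cnt

open Subgroup Cfsg.Agent.ZN Cfsg.Agent.Omega.NO3S.FarQ
open Cfsg.Agent.MinSimple.VModule (le_o2 o2_le o2_isPGroup le_normalizer_o2)
open Cfsg.Agent.ClassTwoFusion.Quad (cv mem_cv cv_anti)

section lin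

variable {F X : Type*} [Field F] [Finite F] [AddCommGroup X] [Module F X] [Finite X]

/-- `|Hom_F(X / W, F)| = |X : W|` -/
theorem card_annihilator (W : Submodule F X) : Nat.card W.dualAnnihilator = W.toAddSubgroup.index := by
  have e1 : Nat.card W.dualAnnihilator = Nat.card (Module.Dual F (X ⧸ W)) :=
    Nat.card_congr (W.dualQuotEquivDualAnnihilator).toEquiv.symm
  have hX : Finite (X ⧸ W) := Quotient.finite _
  have e2 : Nat.card (Module.Dual F (X ⧸ W)) = Nat.card (X ⧸ W) := by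
    have hD : Finite (Module.Dual F (X ⧸ W)) := Module.finite_of_finite F
    rw [Module.natCard_eq_pow_finrank (K := F) (V := X ⧸ W),
      Module.natCard_eq_pow_finrank (K := F) (V := Module.Dual F (X ⧸ W)), Subspace.dual_finrank_eq]
  rw [e1, e2]
  rfl

end lin

variable {F H M Q : Type*} [Field F] [AddCommGroup Q] [Module F Q] [Group H] [DistribMulAction H Q]
  [SMulCommClass H F Q] [CommGroup M] [MulDistribMulAction H M]

/-- `C_H(a₀)` -/
abbrev st (H : Type*) [Group H] [DistribMulAction H Q] (a0 : Q) : Subgroup H := MulAction.stabilizer H a0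

variable (F) in
/-- `⟨h a₀, h⁻¹ a₀⟩` -/
def pln (a0 : Q) (h : H) : Submodule F Q := Submodule.span F {h • a0, h⁻¹ • a0}

variable (F) in
/-- **The situation.** -/
structure Dat (π : M → Q) (a0 : Q) (A : Subgroup H) : Prop where
  pmul : ∀ m n, π (m * n) = π m + π n
  surj : Function.Surjective π
  act : ∀ (h : H) m, π (h • m) = h • π m
  ne : a0 ≠ 0
  sq : ∀ a ∈ A, a * a = 1
  fix : ∀ a ∈ A, a • a0 = a0
  o2 : A ≤ o2 (st H a0)
  ex : (zm M A).index ≤ Nat.card A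
  mv : ∀ a ∈ A, a ≠ 1 → ∃ h : H, h ≠ 1 ∧ Odd (orderOf h) ∧ a * h * a⁻¹ = h⁻¹ ∧ a0 ∈ pln F a0 h ∧
    (∀ b ∈ A, ∀ v ∈ pln F a0 h, b • v ∈ pln F a0 h) ∧ ∀ v ∈ pln F a0 h, h • v ∈ pln F a0 h

omit [AddCommGroup Q] [DistribMulAction H Q] in
theorem norm_o2 [Finite H] (K : Subgroup H) {g : H} (hg : ∀ x, x ∈ K ↔ g * x * g⁻¹ ∈ K) {a : H}
    (ha : a ∈ ZN.o2 K) : g * a * g⁻¹ ∈ ZN.o2 K := by
  have h1 : ∀ x, x ∈ K ↔ g⁻¹ * x * g ∈ K := by
    intro x
    rw [hg (g⁻¹ * x * g)]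
    have e : g * (g⁻¹ * x * g) * g⁻¹ = x := by group
    rw [e]
  have key : (ZN.o2 K).map (MulAut.conj g).toMonoidHom ≤ ZN.o2 K := by
    refine le_o2 ?_ ((o2_isPGroup K).map _) ?_
    · rintro _ ⟨x, hx, rfl⟩
      exact (hg x).1 (o2_le K hx)
    · intro k hk
      rw [mem_normalizer_iff]
      have hk' := le_normalizer_o2 K ((h1 k).1 hk)
      rw [mem_normalizer_iff] at hk'
      intro y
      have hm : ∀ z : H, z ∈ (ZN.o2 K).map (MulAut.conj g).toMonoidHom ↔ g⁻¹ * z * g ∈ ZN.o2 K := by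
        intro z
        constructor
        · rintro ⟨x, hx, rfl⟩
          have e : g⁻¹ * ((MulAut.conj g).toMonoidHom x) * g = x := by
            show g⁻¹ * (g * x * g⁻¹) * g = x
            group
          rw [e]
          exact hx
        · intro h
          refine ⟨_, h, ?_⟩
          show g * (g⁻¹ * z * g) * g⁻¹ = z
          group
      rw [hm, hm, hk' (g⁻¹ * y * g)]
      have e : g⁻¹ * k * g * (g⁻¹ * y * g) * (g⁻¹ * k * g)⁻¹ = g⁻¹ * (k * y * k⁻¹) * g := by group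
      rw [e]
  exact key ⟨a, ha, rfl⟩

namespace Dat

variable {π : M → Q} {a0 : Q} {A : Subgroup H}

/-! ### (2b): the plane -/

/-- `h²` does not normalise `F a₀` -/
theorem sq_ne [Finite H] (D : Dat F π a0 A) {a h : H} (ha : a ∈ A) (h1 : h ≠ 1) (ho : Odd (orderOf h))
    (hi : a * h * a⁻¹ = h⁻¹) (c : F) (hc : (h * h) • a0 = c • a0) : False := by
  have hc0 : c ≠ 0 := by
    rintro rfl
    rw [zero_smul, smul_eq_zero_iff_eq] at hc
    exact D.ne hc
  set g := h * h with hg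
  have hg' : g⁻¹ • a0 = c⁻¹ • a0 := by
    rw [inv_smul_eq_iff, smul_comm, hc, smul_smul, inv_mul_cancel₀ hc0, one_smul]
  have hn : ∀ x, x ∈ st H a0 ↔ g * x * g⁻¹ ∈ st H a0 := by
    intro x
    rw [MulAction.mem_stabilizer_iff, MulAction.mem_stabilizer_iff, mul_smul, mul_smul, hg']
    constructor
    · intro hx
      rw [smul_comm x, hx, smul_comm g, hc, smul_smul, inv_mul_cancel₀ hc0, one_smul]
    · intro hx
      rw [smul_comm x, smul_comm g, inv_smul_eq_iff₀ hc0, ← hc, smul_left_cancel_iff] at hx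
      exact hx
  have h2 : g * a * g⁻¹ ∈ ZN.o2 (st H a0) := norm_o2 _ hn (D.o2 ha)
  have h3 : g * g ∈ ZN.o2 (st H a0) := by
    have h4 := mul_mem h2 (inv_mem (D.o2 ha))
    have e1 : a * g⁻¹ * a⁻¹ = g := by
      have e2 : a * g⁻¹ * a⁻¹ = (a * h * a⁻¹)⁻¹ * (a * h * a⁻¹)⁻¹ := by rw [hg]; group
      rw [e2, hi, inv_inv]
    have e3 : g * a * g⁻¹ * a⁻¹ = g * g := by
      rw [mul_assoc, mul_assoc, ← mul_assoc a, e1]
    rwa [e3] at h4
  obtain ⟨k, hk⟩ := (o2_isPGroup (st H a0)) ⟨g * g, h3⟩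
  have h5 : (g * g) ^ 2 ^ k = 1 := congrArg Subtype.val hk
  have h6 : h ^ (4 * 2 ^ k) = 1 := by
    rw [pow_mul]
    have e : h ^ 4 = g * g := by rw [hg, ← pow_two, ← pow_two, ← pow_mul]
    rw [e, h5]
  have h7 : orderOf h ∣ 4 * 2 ^ k := orderOf_dvd_of_pow_eq_one h6
  have h8 : Nat.Coprime (orderOf h) (4 * 2 ^ k) := by
    have : (4 * 2 ^ k) = 2 ^ (k + 2) := by rw [pow_add]; ring
    rw [this]
    exact (Nat.coprime_two_right.2 ho).pow_right _
  have h9 := Nat.Coprime.eq_one_of_dvd h8 h7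
  exact h1 (orderOf_eq_one_iff.1 h9)

section plane

variable [Finite H] (D : Dat F π a0 A) {a h : H} (ha : a ∈ A) (h1 : h ≠ 1) (ho : Odd (orderOf h))
  (hi : a * h * a⁻¹ = h⁻¹)
include D ha h1 ho hi

/-- `h a₀ ∉ F a₀` -/
theorem notMem (c : F) : h • a0 ≠ c • a0 := by
  intro hc
  refine D.sq_ne ha h1 ho hi (c * c) ?_
  rw [mul_smul, hc, smul_comm, hc, smul_smul]

/-- `h a₀ ∉ F h⁻¹ a₀` -/
theorem notMem' (c : F) : h • a0 ≠ c • h⁻¹ • a0 := by
  intro hc
  refine D.sq_ne ha h1 ho hi c ?_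
  rw [mul_smul, hc, smul_comm, smul_inv_smul]

/-- `a h a₀ = h⁻¹ a₀` -/
theorem act_h : a • h • a0 = h⁻¹ • a0 := by
  have e : a * h = h⁻¹ * a := by rw [← hi]; group
  rw [← mul_smul, e, mul_smul, D.fix a ha]

theorem act_h' : a • h⁻¹ • a0 = h • a0 := by
  rw [← D.act_h ha h1 ho hi, ← mul_smul, D.sq a ha, one_smul]

/-- the plane is spanned by `a₀`, `h a₀` -/
theorem exists_of_mem (h0 : a0 ∈ pln F a0 h) {v : Q} (hv : v ∈ pln F a0 h) :
    ∃ x y : F, v = x • a0 + y • h • a0 := by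
  obtain ⟨x, y, hxy⟩ := Submodule.mem_span_pair.1 h0
  have hy : y ≠ 0 := by
    rintro rfl
    rw [zero_smul, add_zero] at hxy
    have hx : x ≠ 0 := by
      rintro rfl
      rw [zero_smul] at hxy
      exact D.ne hxy.symm
    refine D.notMem ha h1 ho hi x⁻¹ ?_
    rw [← smul_right_injective Q hx |>.eq_iff]
    change x • h • a0 = x • x⁻¹ • a0
    rw [hxy, smul_smul, mul_inv_cancel₀ hx, one_smul]
  have e : h⁻¹ • a0 = y⁻¹ • a0 - (y⁻¹ * x) • h • a0 := by
    have e1 : y • h⁻¹ • a0 = a0 - x • h • a0 := by rw [eq_sub_iff_add_eq, add_comm, hxy]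
    have e2 : h⁻¹ • a0 = y⁻¹ • y • h⁻¹ • a0 := by rw [smul_smul, inv_mul_cancel₀ hy, one_smul]
    rw [e2, e1, smul_sub, smul_smul]
  obtain ⟨r, s, hrs⟩ := Submodule.mem_span_pair.1 hv
  refine ⟨s * y⁻¹, r - s * (y⁻¹ * x), ?_⟩
  rw [← hrs, e, smul_sub, smul_smul, smul_smul, sub_smul]
  abel

theorem act_plane [CharP F 2] (h0 : a0 ∈ pln F a0 h) (hA : ∀ b ∈ A, ∀ v ∈ pln F a0 h, b • v ∈ pln F a0 h)
    {b : H} (hb : b ∈ A) : ∃ x : F, b • h • a0 = h • a0 + x • a0 := by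
  obtain ⟨x, y, hxy⟩ := D.exists_of_mem ha h1 ho hi h0 (hA b hb _ (Submodule.subset_span (Set.mem_insert _ _)))
  have h2 : h • a0 = (x + y * x) • a0 + (y * y) • h • a0 := by
    calc h • a0 = b • b • h • a0 := by rw [← mul_smul, D.sq b hb, one_smul]
      _ = (x + y * x) • a0 + (y * y) • h • a0 := by
        rw [hxy, smul_add, smul_comm b x, D.fix b hb, smul_comm b y, hxy, smul_add, smul_smul, smul_smul,
          ← add_assoc, ← add_smul]
  have hy : y * y = 1 := by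
    by_contra hne
    have h3 : (1 - y * y) • h • a0 = (x + y * x) • a0 := by
      rw [sub_smul, one_smul]
      nth_rewrite 1 [h2]
      abel
    have h4 : (1 - y * y) ≠ 0 := sub_ne_zero.2 (Ne.symm hne)
    refine D.notMem ha h1 ho hi ((1 - y * y)⁻¹ * (x + y * x)) ?_
    rw [mul_smul, ← h3, smul_smul, inv_mul_cancel₀ h4, one_smul]
  have hy1 : y = 1 := by
    have h5 : (y - 1) ^ 2 = 0 := by
      have h6 : (2 : F) = 0 := CharTwo.two_eq_zero
      have : (y - 1) ^ 2 = y * y - 1 - 2 * (y - 1) := by ring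
      rw [this, hy, h6]
      ring
    exact sub_eq_zero.1 (pow_eq_zero_iff (two_ne_zero) |>.1 h5)
  refine ⟨x, ?_⟩
  rw [hxy, hy1, one_smul, add_comm]

end plane

/-! ### the functionals -/

variable (F a0 A) in
/-- `{v | [v, A] ≤ F a₀}` -/
def V1 : Submodule F Q where
  carrier := {v | ∀ b ∈ A, b • v - v ∈ Submodule.span F {a0}}
  zero_mem' := fun b _ => by rw [smul_zero, sub_zero]; exact zero_mem _
  add_mem' := fun {v w} hv hw b hb => by
    have e : b • (v + w) - (v + w) = (b • v - v) + (b • w - w) := by rw [smul_add]; abel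
    rw [e]
    exact add_mem (hv b hb) (hw b hb)
  smul_mem' := fun c v hv b hb => by
    have e : b • c • v - c • v = c • (b • v - v) := by rw [smul_comm, smul_sub]
    rw [e]
    exact Submodule.smul_mem _ _ (hv b hb)

variable (F Q A) in
/-- `C_Q(A)` -/
def CQ : Submodule F Q where
  carrier := {v | ∀ b ∈ A, b • v = v}
  zero_mem' := fun b _ => smul_zero b
  add_mem' := fun {v w} hv hw b hb => by rw [smul_add, hv b hb, hw b hb]
  smul_mem' := fun c v hv b hb => by rw [smul_comm, hv b hb]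

theorem mem_V1 {v : Q} : v ∈ V1 F a0 A ↔ ∀ b ∈ A, b • v - v ∈ Submodule.span F {a0} := Iff.rfl

theorem mem_CQ {v : Q} : v ∈ CQ F Q A ↔ ∀ b ∈ A, b • v = v := Iff.rfl

theorem CQ_le : CQ F Q A ≤ V1 F a0 A := fun v hv b hb => by rw [hv b hb, sub_self]; exact zero_mem _

variable (F) in
/-- `v ↦ ℓ [v, b]` -/
def fn (l : Module.Dual F Q) (b : H) : Module.Dual F Q :=
  l.comp (DistribSMul.toLinearMap F Q b - LinearMap.id)

theorem fn_apply (l : Module.Dual F Q) (b : H) (v : Q) : fn F l b v = l (b • v - v) := rfl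

/-- `b v = v + ℓ([v, b]) a₀` on `V₁` -/
theorem eq_add {l : Module.Dual F Q} (hl : l a0 = 1) {b : H} {v : Q}
    (hv : b • v - v ∈ Submodule.span F {a0}) : b • v = v + fn F l b v • a0 := by
  obtain ⟨c, hc⟩ := Submodule.mem_span_singleton.1 hv
  have h1 : fn F l b v = c := by rw [fn_apply, ← hc, map_smul, hl, smul_eq_mul, mul_one]
  rw [h1, hc]
  abel

section main

variable [Finite F] [CharP F 2] [Finite H] [Finite M]

theorem finQ (D : Dat F π a0 A) : Finite Q := Finite.of_surjective π D.surj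

/-- every `a ≠ 1` moves a vector of `V₁` -/
theorem moves (D : Dat F π a0 A) {a : H} (ha : a ∈ A) (ha1 : a ≠ 1) : ∃ v ∈ V1 F a0 A, a • v ≠ v := by
  obtain ⟨h, h1, ho, hi, h0, hA, -⟩ := D.mv a ha ha1
  refine ⟨h • a0, fun b hb => ?_, fun e => ?_⟩
  · obtain ⟨x, hx⟩ := D.act_plane ha h1 ho hi h0 hA hb
    rw [hx, add_sub_cancel_left]
    exact Submodule.smul_mem _ _ (Submodule.mem_span_singleton_self _)
  · rw [D.act_h ha h1 ho hi] at e
    exact D.notMem' ha h1 ho hi 1 (by rw [one_smul]; exact e.symm)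

/-- `|A| ≤ |V₁ : C_Q(A)|` -/
theorem card_le (D : Dat F π a0 A) {l : Module.Dual F Q} (hl : l a0 = 1) :
    Nat.card A ≤ (CQ F Q A).toAddSubgroup.relIndex (V1 F a0 A).toAddSubgroup := by
  have hQ := D.finQ
  have e1 : (CQ F Q A).toAddSubgroup.relIndex (V1 F a0 A).toAddSubgroup =
      Nat.card ((CQ F Q A).comap (V1 F a0 A).subtype).dualAnnihilator := by
    rw [card_annihilator]
    rfl
  rw [e1]
  have hf : Finite (Module.Dual F (V1 F a0 A)) := Module.finite_of_finite F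
  let Φ : A → ((CQ F Q A).comap (V1 F a0 A).subtype).dualAnnihilator := fun b =>
    ⟨(fn F l (b : H)).comp (V1 F a0 A).subtype, by
      rw [Submodule.mem_dualAnnihilator]
      intro w hw
      show fn F l (b : H) (w : Q) = 0
      rw [fn_apply, show (b : H) • (w : Q) = w from hw b b.2, sub_self, map_zero]⟩
  refine Nat.card_le_card_of_injective Φ fun b b' hbb => ?_
  have h1 : ∀ v ∈ V1 F a0 A, (b : H) • v = (b' : H) • v := by
    intro v hv
    have h2 : (fn F l (b : H)) v = fn F l (b' : H) v :=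
      congrArg (fun t : ((CQ F Q A).comap (V1 F a0 A).subtype).dualAnnihilator =>
        (t : Module.Dual F (V1 F a0 A)) ⟨v, hv⟩) hbb
    rw [eq_add hl (hv b b.2), eq_add hl (hv b' b'.2), h2]
  by_contra hne
  have h3 : (b' : H)⁻¹ * b ≠ 1 := by
    intro e
    exact hne (Subtype.ext (inv_mul_eq_one.1 e).symm)
  obtain ⟨v, hv, h4⟩ := D.moves (mul_mem (inv_mem b'.2) b.2) h3
  apply h4
  rw [mul_smul, h1 v hv, inv_smul_smul]

/-- the preimage of `C_Q(A)` -/
def pre (D : Dat F π a0 A) : Subgroup M where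
  carrier := {m | π m ∈ CQ F Q A}
  one_mem' := by
    have h1 := D.pmul 1 1
    rw [mul_one] at h1
    have h2 : π 1 = 0 := by
      have := h1.symm
      rwa [add_eq_left] at this
    show π 1 ∈ CQ F Q A
    rw [h2]
    exact zero_mem _
  mul_mem' := fun {m n} hm hn => by
    show π (m * n) ∈ CQ F Q A
    rw [D.pmul]
    exact add_mem hm hn
  inv_mem' := fun {m} hm => by
    have h1 := D.pmul 1 1
    rw [mul_one] at h1
    have h2 : π 1 = 0 := by
      have := h1.symm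
      rwa [add_eq_left] at this
    have h3 := D.pmul m m⁻¹
    rw [mul_inv_cancel, h2] at h3
    show π m⁻¹ ∈ CQ F Q A
    rw [(neg_eq_of_add_eq_zero_right h3.symm).symm]
    exact neg_mem hm

theorem zm_le (D : Dat F π a0 A) : zm M A ≤ D.pre := by
  intro m hm b hb
  rw [← D.act, hm b hb]

theorem index_pre (D : Dat F π a0 A) : D.pre.index = (CQ F Q A).toAddSubgroup.index := by
  let φ : M →* Multiplicative Q := MonoidHom.mk' (fun m => Multiplicative.ofAdd (π m)) fun m n => by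
    rw [D.pmul]; rfl
  have h1 : D.pre = (AddSubgroup.toSubgroup (CQ F Q A).toAddSubgroup).comap φ := rfl
  have h2 : Function.Surjective φ := fun x => D.surj x
  rw [h1, Subgroup.index_comap_of_surjective _ h2]
  rfl

theorem exists_l (D : Dat F π a0 A) : ∃ l : Module.Dual F Q, l a0 = 1 := by
  obtain ⟨f, hf⟩ := Module.Projective.exists_dual_eq_one F D.ne
  exact ⟨f, hf⟩

/-- all the numbers are equal -/
theorem eqs (D : Dat F π a0 A) : V1 F a0 A = ⊤ ∧ D.pre = zm M A ∧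
    Nat.card A = (CQ F Q A).toAddSubgroup.index := by
  have hQ := D.finQ
  obtain ⟨l, hl⟩ := D.exists_l
  have i1 := D.card_le hl
  have i2 := AddSubgroup.relIndex_mul_index (H := (CQ F Q A).toAddSubgroup) (K := (V1 F a0 A).toAddSubgroup) CQ_le
  have i3 : D.pre.index ≤ (zm M A).index := Subgroup.index_antitone D.zm_le
  rw [D.index_pre] at i3
  have i4 := D.ex
  have p1 : 0 < (V1 F a0 A).toAddSubgroup.index := Nat.pos_of_ne_zero AddSubgroup.index_ne_zero_of_finite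
  have p2 : 0 < Nat.card A := Nat.card_pos
  have i5 : (V1 F a0 A).toAddSubgroup.index = 1 := by
    by_contra hne
    have h2 : 2 ≤ (V1 F a0 A).toAddSubgroup.index := by omega
    nlinarith
  refine ⟨?_, ?_, ?_⟩
  · have h3 := AddSubgroup.index_eq_one.1 i5
    exact Submodule.toAddSubgroup_injective h3
  · rw [i5, mul_one] at i2
    have h4 : (zm M A).index = D.pre.index := by
      rw [D.index_pre]
      omega
    have h5 := Subgroup.relIndex_mul_index D.zm_le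
    have h6 : (zm M A).relIndex D.pre = 1 := by
      rw [h4] at h5
      have h7 : 0 < D.pre.index := Nat.pos_of_ne_zero Subgroup.index_ne_zero_of_finite
      exact Nat.eq_of_mul_eq_mul_right h7 (by rw [h5, one_mul])
    exact le_antisymm (Subgroup.relIndex_eq_one.1 h6) D.zm_le
  · rw [i5, mul_one] at i2
    omega

/-- `[Q, A] ≤ F a₀` -/
theorem le (D : Dat F π a0 A) {b : H} (hb : b ∈ A) (v : Q) : b • v - v ∈ Submodule.span F {a0} := by
  have h1 : v ∈ V1 F a0 A := by rw [D.eqs.1]; exact Submodule.mem_top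
  exact h1 b hb

/-- `C_M(A)` is the full preimage of `C_Q(A)` -/
theorem fixM (D : Dat F π a0 A) {m : M} (hm : ∀ b ∈ A, b • π m = π m) : m ∈ zm M A := by
  rw [← D.eqs.2.1]
  exact hm

theorem fixK (D : Dat F π a0 A) {m : M} (hm : π m = 0) {b : H} (hb : b ∈ A) : b • m = m :=
  D.fixM (fun b _ => by rw [hm, smul_zero]) b hb

/-- `A` is faithful on `Q` -/
theorem inj (D : Dat F π a0 A) {b : H} (hb : b ∈ A) (h : ∀ v : Q, b • v = v) : b = 1 := by
  by_contra h1
  obtain ⟨v, -, hv⟩ := D.moves hb h1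
  exact hv (h v)

/-- `A` = all homomorphisms `Q / C_Q(A) → F a₀` -/
theorem all (D : Dat F π a0 A) (φ : Module.Dual F Q) (hφ : ∀ v, (∀ b ∈ A, b • v = v) → φ v = 0) :
    ∃ a ∈ A, ∀ v : Q, a • v = v + φ v • a0 := by
  have hQ := D.finQ
  obtain ⟨l, hl⟩ := D.exists_l
  have hf : Finite (Module.Dual F Q) := Module.finite_of_finite F
  let Φ : A → (CQ F Q A).dualAnnihilator := fun b => ⟨fn F l (b : H), by
      rw [Submodule.mem_dualAnnihilator]
      intro w hw
      rw [fn_apply, show (b : H) • (w : Q) = w from hw b b.2, sub_self, map_zero]⟩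
  have hinj : Function.Injective Φ := by
    intro b b' hbb
    have h1 : ∀ v : Q, (b : H) • v = (b' : H) • v := by
      intro v
      have h2 : (fn F l (b : H)) v = fn F l (b' : H) v :=
        congrArg (fun t : (CQ F Q A).dualAnnihilator => (t : Module.Dual F Q) v) hbb
      rw [eq_add hl (D.le b.2 v), eq_add hl (D.le b'.2 v), h2]
    have h3 : (b' : H)⁻¹ * b = 1 := D.inj (mul_mem (inv_mem b'.2) b.2) fun v => by
      rw [mul_smul, h1 v, inv_smul_smul]
    exact Subtype.ext (inv_mul_eq_one.1 h3).symm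
  have hcard : Nat.card A = Nat.card (CQ F Q A).dualAnnihilator := by rw [card_annihilator, D.eqs.2.2]
  have hb : Function.Bijective Φ := (Nat.bijective_iff_injective_and_card Φ).2 ⟨hinj, hcard⟩
  obtain ⟨a, ha⟩ := hb.2 ⟨φ, by
    rw [Submodule.mem_dualAnnihilator]
    exact fun w hw => hφ w hw⟩
  refine ⟨a, a.2, fun v => ?_⟩
  have h4 : fn F l (a : H) = φ := congrArg Subtype.val ha
  rw [eq_add hl (D.le a.2 v), h4]

/-! ### `θ` -/

theorem theta0 (D : Dat F π a0 A) (hA : A ≠ ⊥) {c : F} (hc : c ≠ 0) :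
    ∃ θ : H, (∀ m, π m = 0 → θ • m = m) ∧ θ • a0 = c • a0 := by
  obtain ⟨l, hl⟩ := D.exists_l
  obtain ⟨⟨a, ha⟩, ha1⟩ := Subgroup.ne_bot_iff_exists_ne_one.1 hA
  have ha1' : a ≠ 1 := fun e => ha1 (Subtype.ext e)
  obtain ⟨h, h1, ho, hi, h0, hP, hh⟩ := D.mv a ha ha1'
  set φ := fn F l a with hφd
  have hφ : ∀ v, a • v = v + φ v • a0 := fun v => eq_add hl (D.le ha v)
  have hφ0 : φ a0 = 0 := by rw [hφd, fn_apply, D.fix a ha, sub_self, map_zero]
  have hφ1 : φ (h • a0) ≠ 0 := by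
    intro e
    have h2 := hφ (h • a0)
    rw [e, zero_smul, add_zero, D.act_h ha h1 ho hi] at h2
    exact D.notMem' ha h1 ho hi 1 (by rw [one_smul]; exact h2.symm)
  have hφ2 : φ (h⁻¹ • a0) ≠ 0 := by
    intro e
    have h2 := hφ (h⁻¹ • a0)
    rw [e, zero_smul, add_zero, D.act_h' ha h1 ho hi] at h2
    exact D.notMem' ha h1 ho hi 1 (by rw [one_smul]; exact h2)
  have hu : ∀ x : F, ∃ b ∈ A, ∀ v : Q, b • v = v + (x * φ v) • a0 := fun x =>
    D.all (x • φ) fun v hv => by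
      show x • φ v = 0
      rw [hφd, fn_apply, hv a ha, sub_self, map_zero, smul_zero]
  -- `u(s) : h a₀ ↦ h a₀ + s a₀`
  have hU : ∀ s : F, ∃ u : H, (∀ m, π m = 0 → u • m = m) ∧ u • a0 = a0 ∧ u • h • a0 = h • a0 + s • a0 := by
    intro s
    obtain ⟨b, hb, hb'⟩ := hu (s * (φ (h • a0))⁻¹)
    refine ⟨b, fun m hm => D.fixK hm hb, D.fix b hb, ?_⟩
    rw [hb', mul_assoc, inv_mul_cancel₀ hφ1, mul_one]
  -- `w(t) : a₀ ↦ a₀ + t h a₀`
  have hL : ∀ t : F, ∃ w : H, (∀ m, π m = 0 → w • m = m) ∧ w • a0 = a0 + t • h • a0 ∧ w • h • a0 = h • a0 := by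
    intro t
    obtain ⟨b, hb, hb'⟩ := hu (t * (φ (h⁻¹ • a0))⁻¹)
    refine ⟨h * b * h⁻¹, fun m hm => ?_, ?_, ?_⟩
    · have h3 : π (h⁻¹ • m) = 0 := by rw [D.act, hm, smul_zero]
      rw [mul_smul, mul_smul, D.fixK h3 hb, smul_inv_smul]
    · rw [mul_smul, mul_smul, hb', mul_assoc, inv_mul_cancel₀ hφ2, mul_one, smul_add, smul_inv_smul, smul_comm h t]
    · rw [mul_smul, mul_smul, inv_smul_smul, hb', hφ0, mul_zero, zero_smul, add_zero]
  obtain ⟨w1, hw1, hw2, hw3⟩ := hL 1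
  obtain ⟨u, hu1, hu2, hu3⟩ := hU (c - 1)
  obtain ⟨w2, hw4, hw5, hw6⟩ := hL (-c⁻¹)
  refine ⟨w2 * u * w1, fun m hm => ?_, ?_⟩
  · rw [mul_smul, mul_smul, hw1 m hm, hu1 m hm, hw4 m hm]
  · have e1 : (w2 * u * w1) • a0 = w2 • ((1 + (c - 1)) • a0 + h • a0) := by
      rw [mul_smul, mul_smul, hw2, smul_add, one_smul, hu2, hu3, add_smul, one_smul]
      congr 1
      abel
    rw [e1, smul_add, hw6, smul_comm w2, hw5, add_sub_cancel, smul_add, smul_smul, mul_neg, mul_inv_cancel₀ hc,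
      neg_smul, one_smul, neg_add_cancel_right]

theorem pow_smul_eq {g : H} {c : F} (hg : g • a0 = c • a0) (n : ℕ) : g ^ n • a0 = c ^ n • a0 := by
  induction n with
  | zero => rw [pow_zero, pow_zero, one_smul, one_smul]
  | succ n ih => rw [pow_succ', mul_smul, ih, smul_comm, hg, smul_smul, pow_succ]

/-- **`θ`** : for `c ≠ 0` there is `θ` of odd order, trivial on `ker π`, with `θ a₀ = c a₀`. -/
theorem theta (D : Dat F π a0 A) (hA : A ≠ ⊥) {c : F} (hc : c ≠ 0) :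
    ∃ θ : H, Odd (orderOf θ) ∧ (∀ m, π m = 0 → θ • m = m) ∧ θ • a0 = c • a0 := by
  obtain ⟨k, m, hm, hkm⟩ := Nat.exists_eq_two_pow_mul_odd (n := Nat.card H) Nat.card_pos.ne'
  obtain ⟨c0, hc0⟩ := (bijective_iterateFrobenius F 2 k).2 c
  rw [iterateFrobenius_def] at hc0
  have hc1 : c0 ≠ 0 := by
    rintro rfl
    apply hc
    rw [← hc0, zero_pow (pow_ne_zero _ two_ne_zero)]
  obtain ⟨θ, h1, h2⟩ := D.theta0 hA hc1
  refine ⟨θ ^ 2 ^ k, ?_, fun n hn => ?_, ?_⟩
  · have h3 : (θ ^ 2 ^ k) ^ m = 1 := by rw [← pow_mul, ← hkm, pow_card_eq_one']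
    exact hm.of_dvd_nat (orderOf_dvd_of_pow_eq_one h3)
  · have : ∀ j : ℕ, θ ^ j • n = n := by
      intro j
      induction j with
      | zero => rw [pow_zero, one_smul]
      | succ j ih => rw [pow_succ', mul_smul, ih, h1 n hn]
    exact this _
  · rw [pow_smul_eq h2, hc0]

end main

end Dat

end Cfsg.Agent.Omega.NO3S.FullQ.Cnt

end

section


/-!
# FULL, `q ≥ 4`: class P on the level of `M` (helper471 #21459, (2b), (2c), section 3)

* `Qm F π a₀ N lam` : `π : M → Q = M / N`, `π(lam) = F a₀`, `N ∩ lam = 1`;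
* `stN N lam = C_H(lam mod N)` (`stN_eq : = st H a₀`);
* `Mv N lam A a` : the mover: `h` of odd order inverted by `a`, `P⁺ = h(lam) h⁻¹(lam) N` contains `lam` and is invariant
  under `A` and `h`;
* `dat` : `Dat` for `A ≤ O₂(stN N lam)` exact with movers;
* `exists_theta` : the input of LEMMA TOR;
* `Dat.comm_mem : [M, A] ≤ lam N`, `Dat.N_le : [N, A] = 1`, `Dat.mem_zm : [m, A] ≤ N → m ∈ C_M(A)`;
* `smul_eq_of_mem` : two line vectors congruent modulo `N` are equal (after TOR).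
-/

set_option autoImplicit false
set_option linter.unusedSectionVars false

namespace Cfsg.Agent.Omega.NO3S.FullQ.Cnt

open Subgroup Cfsg.Agent.ZN Cfsg.Agent.Omega.NO3S.FarQ
open Cfsg.Agent.MinSimple.VModule (le_o2 o2_le o2_isPGroup le_normalizer_o2)
open Cfsg.Agent.ClassTwoFusion.Quad (cv mem_cv cv_anti)
open scoped Pointwise

variable {F H M Q : Type*} [Field F] [AddCommGroup Q] [Module F Q] [Group H] [DistribMulAction H Q]
  [SMulCommClass H F Q] [CommGroup M] [MulDistribMulAction H M]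

/-- `C_H(lam mod N)` for `H`-invariant `N` -/
def stN (N lam : Subgroup M) (hN : ∀ (h : H), ∀ n ∈ N, h • n ∈ N) : Subgroup H where
  carrier := {h | ∀ a ∈ lam, (h • a) * a⁻¹ ∈ N}
  one_mem' := fun a _ => by rw [one_smul, mul_inv_cancel]; exact one_mem _
  mul_mem' := fun {x y} hx hy a ha => by
    have e : (x * y) • a * a⁻¹ = (x • ((y • a) * a⁻¹)) * ((x • a) * a⁻¹) := by
      rw [mul_smul, smul_mul', smul_inv', mul_assoc, ← mul_assoc (x • a)⁻¹, inv_mul_cancel, one_mul]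
    rw [e]
    exact mul_mem (hN x _ (hy a ha)) (hx a ha)
  inv_mem' := fun {x} hx a ha => by
    have h1 := hN x⁻¹ _ (inv_mem (hx a ha))
    rwa [mul_inv_rev, inv_inv, smul_mul', smul_inv', inv_smul_smul] at h1

variable (F) in
/-- **The `F`-module `Q = M / N`.** -/
structure Qm (H : Type*) [Group H] [DistribMulAction H Q] [MulDistribMulAction H M] (π : M → Q) (a0 : Q)
    (N lam : Subgroup M) : Prop where
  pmul : ∀ m n, π (m * n) = π m + π n
  surj : Function.Surjective π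
  act : ∀ (h : H) m, π (h • m) = h • π m
  ker : ∀ m, π m = 0 ↔ m ∈ N
  lam : ∀ v : Q, (∃ a ∈ lam, π a = v) ↔ v ∈ Submodule.span F {a0}
  ne : a0 ≠ 0

namespace Qm

variable {π : M → Q} {a0 : Q} {N lam : Subgroup M} (D : Qm F H π a0 N lam)
include D

theorem map_one : π 1 = 0 := (D.ker 1).2 (one_mem _)

theorem map_inv (m : M) : π m⁻¹ = -π m := by
  have h3 := D.pmul m m⁻¹
  rw [mul_inv_cancel, D.map_one] at h3
  exact (neg_eq_of_add_eq_zero_right h3.symm).symm

theorem map_comm (h : H) (m : M) : π ((h • m) * m⁻¹) = h • π m - π m := by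
  rw [D.pmul, D.act, D.map_inv, sub_eq_add_neg]

theorem inv (h : H) : ∀ n ∈ N, h • n ∈ N := fun n hn => by
  rw [← D.ker, D.act, (D.ker n).2 hn, smul_zero]

theorem mul_inv_mem {m n : M} (h : π m = π n) : m * n⁻¹ ∈ N := by
  rw [← D.ker, D.pmul, D.map_inv, h, add_neg_cancel]

/-- `C_H(lam mod N) = C_H(a₀)` -/
theorem stN_eq : stN N lam D.inv = st H a0 := by
  ext h
  rw [MulAction.mem_stabilizer_iff]
  constructor
  · intro hh
    obtain ⟨a, ha, hπ⟩ := (D.lam a0).2 (Submodule.mem_span_singleton_self _)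
    have h1 := (D.ker _).2 (hh a ha)
    rw [D.map_comm, hπ, sub_eq_zero] at h1
    exact h1
  · intro hh a ha
    obtain ⟨c, hc⟩ := Submodule.mem_span_singleton.1 ((D.lam (π a)).1 ⟨a, ha, rfl⟩)
    rw [← D.ker, D.map_comm, ← hc, smul_comm, hh, sub_self]

/-- the plane -/
theorem mem_pln (h : H) (m : M) : m ∈ (h • lam) ⊔ (h⁻¹ • lam) ⊔ N ↔ π m ∈ pln F a0 h := by
  constructor
  · intro hm
    obtain ⟨x, hx, n, hn, rfl⟩ := Subgroup.mem_sup.1 hm
    obtain ⟨y, hy, z, hz, rfl⟩ := Subgroup.mem_sup.1 hx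
    obtain ⟨a, ha, rfl⟩ := Subgroup.mem_smul_pointwise_iff_exists _ _ _ |>.1 hy
    obtain ⟨b, hb, rfl⟩ := Subgroup.mem_smul_pointwise_iff_exists _ _ _ |>.1 hz
    obtain ⟨c, hc⟩ := Submodule.mem_span_singleton.1 ((D.lam (π a)).1 ⟨a, ha, rfl⟩)
    obtain ⟨d, hd⟩ := Submodule.mem_span_singleton.1 ((D.lam (π b)).1 ⟨b, hb, rfl⟩)
    rw [D.pmul, D.pmul, (D.ker n).2 hn, add_zero, D.act, D.act, ← hc, ← hd, smul_comm h, smul_comm h⁻¹]
    exact Submodule.mem_span_pair.2 ⟨c, d, rfl⟩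
  · intro hm
    obtain ⟨c, d, hcd⟩ := Submodule.mem_span_pair.1 hm
    obtain ⟨a, ha, hπa⟩ := (D.lam (c • a0)).2 (Submodule.smul_mem _ _ (Submodule.mem_span_singleton_self _))
    obtain ⟨b, hb, hπb⟩ := (D.lam (d • a0)).2 (Submodule.smul_mem _ _ (Submodule.mem_span_singleton_self _))
    have h1 : π m = π ((h • a) * (h⁻¹ • b)) := by
      rw [D.pmul, D.act, D.act, hπa, hπb, smul_comm h, smul_comm h⁻¹, hcd]
    have h2 := D.mul_inv_mem h1
    have e : m = ((h • a) * (h⁻¹ • b)) * (m * ((h • a) * (h⁻¹ • b))⁻¹) := by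
      rw [mul_comm m, mul_inv_cancel_left]
    rw [e]
    refine mul_mem (Subgroup.mem_sup_left (mul_mem (Subgroup.mem_sup_left ?_) (Subgroup.mem_sup_right ?_)))
      (Subgroup.mem_sup_right h2)
    · exact Subgroup.smul_mem_pointwise_smul _ _ _ ha
    · exact Subgroup.smul_mem_pointwise_smul _ _ _ hb

end Qm

/-- **The mover** (output of (2a)). -/
def Mv (N lam : Subgroup M) (A : Subgroup H) (a : H) : Prop :=
  ∃ h : H, h ≠ 1 ∧ Odd (orderOf h) ∧ a * h * a⁻¹ = h⁻¹ ∧ lam ≤ (h • lam) ⊔ (h⁻¹ • lam) ⊔ N ∧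
    (∀ b ∈ A, ∀ m ∈ (h • lam) ⊔ (h⁻¹ • lam) ⊔ N, b • m ∈ (h • lam) ⊔ (h⁻¹ • lam) ⊔ N) ∧
    ∀ m ∈ (h • lam) ⊔ (h⁻¹ • lam) ⊔ N, h • m ∈ (h • lam) ⊔ (h⁻¹ • lam) ⊔ N

section dat

variable {π : M → Q} {a0 : Q} {N lam : Subgroup M} {A : Subgroup H}

/-- a mover of `A` is a mover of `A₁ ≤ A` -/
theorem Mv.mono {A1 : Subgroup H} (h : A1 ≤ A) {a : H} (hm : Mv N lam A a) : Mv N lam A1 a := by
  obtain ⟨h', h1, h2, h3, h4, h5, h6⟩ := hm
  exact ⟨h', h1, h2, h3, h4, fun b hb => h5 b (h hb), h6⟩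

/-- **`Dat`** -/
theorem dat (D : Qm F H π a0 N lam) (hsq : ∀ a ∈ A, a * a = 1) (ho : A ≤ ZN.o2 (stN N lam D.inv))
    (hex : (zm M A).index ≤ Nat.card A) (hmv : ∀ a ∈ A, a ≠ 1 → Mv N lam A a) : Dat F π a0 A where
  pmul := D.pmul
  surj := D.surj
  act := D.act
  ne := D.ne
  sq := hsq
  fix := fun a ha => by
    have h1 := o2_le _ (ho ha)
    rw [D.stN_eq] at h1
    exact h1
  o2 := by rw [← D.stN_eq]; exact ho
  ex := hex
  mv := fun a ha ha1 => by
    obtain ⟨h, h1, h2, h3, h4, h5, h6⟩ := hmv a ha ha1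
    obtain ⟨x, hx, hπ⟩ := (D.lam a0).2 (Submodule.mem_span_singleton_self _)
    refine ⟨h, h1, h2, h3, ?_, fun b hb v hv => ?_, fun v hv => ?_⟩
    · have h7 := (D.mem_pln h x).1 (h4 hx)
      rwa [hπ] at h7
    · obtain ⟨m, rfl⟩ := D.surj v
      rw [← D.act, ← D.mem_pln h]
      exact h5 b hb m ((D.mem_pln h m).2 hv)
    · obtain ⟨m, rfl⟩ := D.surj v
      rw [← D.act, ← D.mem_pln h]
      exact h6 m ((D.mem_pln h m).2 hv)

variable [Finite F] [CharP F 2] [Finite H] [Finite M]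

/-- **Input of LEMMA TOR.** -/
theorem exists_theta (D : Qm F H π a0 N lam) (E : Dat F π a0 A) (hA : A ≠ ⊥) (h4 : 4 ≤ Nat.card F)
    (hd : N ⊓ lam = ⊥) : ∃ θ : H, Odd (orderOf θ) ∧ (∀ n ∈ N, θ • n = n) ∧ (∀ a ∈ lam, θ • a ∈ lam ⊔ N) ∧
      ∀ a ∈ lam, (θ • a) * a⁻¹ ∈ N → a = 1 := by
  have hF : 1 < Nat.card Fˣ := by
    have h1 : Nat.card F = Nat.card Fˣ + 1 := by
      classical
      let _ := Fintype.ofFinite F
      rw [Nat.card_eq_fintype_card, Nat.card_eq_fintype_card, Fintype.card_units]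
      have := Fintype.card_pos (α := F)
      omega
    omega
  have := (Finite.one_lt_card_iff_nontrivial (α := Fˣ)).1 hF
  obtain ⟨u, hu⟩ := exists_ne (1 : Fˣ)
  obtain ⟨θ, h1, h2, h3⟩ := E.theta hA u.ne_zero
  have hc : (u : F) - 1 ≠ 0 := by
    rw [sub_ne_zero]
    exact fun e => hu (Units.ext e)
  have key : ∀ a ∈ lam, ∃ c : F, c • a0 = π a := fun a ha =>
    Submodule.mem_span_singleton.1 ((D.lam (π a)).1 ⟨a, ha, rfl⟩)
  refine ⟨θ, h1, fun n hn => h2 n ((D.ker n).2 hn), fun a ha => ?_, fun a ha h5 => ?_⟩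
  · obtain ⟨c, hc1⟩ := key a ha
    obtain ⟨b, hb, hπ⟩ := (D.lam ((c * u) • a0)).2 (Submodule.smul_mem _ _ (Submodule.mem_span_singleton_self _))
    have e1 : π (θ • a) = π b := by rw [D.act, ← hc1, smul_comm, h3, smul_smul, hπ]
    have h6 := D.mul_inv_mem e1
    have e : θ • a = b * ((θ • a) * b⁻¹) := by rw [mul_comm (θ • a), mul_inv_cancel_left]
    rw [e]
    exact mul_mem (Subgroup.mem_sup_left hb) (Subgroup.mem_sup_right h6)
  · obtain ⟨c, hc1⟩ := key a ha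
    rw [← D.ker, D.map_comm, ← hc1, smul_comm, h3, smul_smul, ← sub_smul] at h5
    have h6 : c * (u : F) - c = 0 := by
      by_contra hne
      exact D.ne ((smul_eq_zero_iff_right hne).1 h5)
    have h7 : c = 0 := by
      have : c * ((u : F) - 1) = 0 := by rw [mul_sub, mul_one, h6]
      exact (mul_eq_zero.1 this).resolve_right hc
    rw [h7, zero_smul] at hc1
    have h8 : a ∈ N ⊓ lam := ⟨(D.ker a).1 hc1.symm, ha⟩
    rw [hd] at h8
    exact Subgroup.mem_bot.1 h8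

/-- **`[M, A] ≤ lam N`** -/
theorem comm_mem (D : Qm F H π a0 N lam) (E : Dat F π a0 A) {b : H} (hb : b ∈ A) (m : M) :
    (b • m) * m⁻¹ ∈ lam ⊔ N := by
  obtain ⟨a, ha, hπ⟩ := (D.lam _).2 (E.le hb (π m))
  rw [← D.map_comm] at hπ
  have h6 := D.mul_inv_mem hπ.symm
  have e : (b • m) * m⁻¹ = a * ((b • m) * m⁻¹ * a⁻¹) := by rw [mul_comm _ a⁻¹, mul_inv_cancel_left]
  rw [e]
  exact mul_mem (Subgroup.mem_sup_left ha) (Subgroup.mem_sup_right h6)

/-- **`[m, A] ≤ N` implies `m ∈ C_M(A)`** -/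
theorem mem_zm (D : Qm F H π a0 N lam) (E : Dat F π a0 A) {m : M} (hm : ∀ b ∈ A, (b • m) * m⁻¹ ∈ N) :
    m ∈ zm M A :=
  E.fixM fun b hb => by
    have h1 := (D.ker _).2 (hm b hb)
    rw [D.map_comm, sub_eq_zero] at h1
    exact h1

/-- **`[N, A] = 1`** -/
theorem N_le (D : Qm F H π a0 N lam) (E : Dat F π a0 A) : N ≤ zm M A :=
  fun n hn => mem_zm D E fun b _ => mul_mem (D.inv b n hn) (inv_mem hn)

/-- An element of `A` centralising `M / N` is trivial. -/
theorem eq_one (D : Qm F H π a0 N lam) (E : Dat F π a0 A) {b : H} (hb : b ∈ A) (h : ∀ m : M, (b • m) * m⁻¹ ∈ N) :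
    b = 1 :=
  E.inj hb fun v => by
    obtain ⟨m, rfl⟩ := D.surj v
    have h1 := (D.ker _).2 (h m)
    rw [D.map_comm, sub_eq_zero] at h1
    exact h1

end dat

/-- **Two line vectors congruent modulo `N` are equal**: `h(lam) ≤ lam N` implies `h(lam) ≤ lam` (TOR). -/
theorem smul_eq_of_mem [Finite H] {π : M → Q} {a0 : Q} {N lam : Subgroup M} (D : Qm F H π a0 N lam) (hd : N ⊓ lam = ⊥)
    (tor : ∀ h : H, (∀ a ∈ lam, h • a ∈ lam ⊔ N) → ∀ a ∈ lam, h • a ∈ lam) {g g' : H} {a b : M} (ha : a ∈ lam)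
    (hb : b ∈ lam) (hab : (g • a) * (g' • b)⁻¹ ∈ N) : g • a = g' • b := by
  by_cases ha1 : a = 1
  · subst ha1
    rw [smul_one, one_mul, ← smul_inv'] at hab
    have h1 := D.inv g'⁻¹ _ hab
    rw [inv_smul_smul] at h1
    have h2 : b⁻¹ ∈ N ⊓ lam := ⟨h1, lam.inv_mem hb⟩
    rw [hd, Subgroup.mem_bot, inv_eq_one] at h2
    rw [h2, smul_one, smul_one]
  have key : ∀ x ∈ lam, ∃ c : F, c • a0 = π x := fun x hx =>
    Submodule.mem_span_singleton.1 ((D.lam (π x)).1 ⟨x, hx, rfl⟩)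
  obtain ⟨c, hc⟩ := key a ha
  obtain ⟨d, hd'⟩ := key b hb
  have hc0 : c ≠ 0 := by
    rintro rfl
    rw [zero_smul] at hc
    have h2 : a ∈ N ⊓ lam := ⟨(D.ker a).1 hc.symm, ha⟩
    rw [hd, Subgroup.mem_bot] at h2
    exact ha1 h2
  obtain ⟨k, hk⟩ : ∃ k, k = g'⁻¹ * g := ⟨_, rfl⟩
  -- `k a ≡ b`
  have h1 : c • k • a0 = d • a0 := by
    have h2 := D.inv g'⁻¹ _ hab
    rw [smul_mul', smul_inv', inv_smul_smul, ← mul_smul, ← D.ker, D.pmul, D.map_inv, D.act, ← hc, ← hd', ← hk,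
      smul_comm, add_neg_eq_zero] at h2
    exact h2
  have h2 : k • a0 = (c⁻¹ * d) • a0 := by
    rw [mul_smul, ← h1, smul_smul, inv_mul_cancel₀ hc0, one_smul]
  have h3 : ∀ x ∈ lam, k • x ∈ lam ⊔ N := by
    intro x hx
    obtain ⟨e, he⟩ := key x hx
    have h4 : π (k • x) ∈ Submodule.span F {a0} := by
      rw [D.act, ← he, smul_comm, h2, smul_smul]
      exact Submodule.smul_mem _ _ (Submodule.mem_span_singleton_self _)
    obtain ⟨y, hy, hπ⟩ := (D.lam _).2 h4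
    have h6 := D.mul_inv_mem hπ.symm
    have e : k • x = y * ((k • x) * y⁻¹) := by rw [mul_comm (k • x), mul_inv_cancel_left]
    rw [e]
    exact mul_mem (Subgroup.mem_sup_left hy) (Subgroup.mem_sup_right h6)
  have h5 := tor k h3 a ha
  have h7 : (k • a) * b⁻¹ ∈ N := by
    have h2 := D.inv g'⁻¹ _ hab
    rwa [smul_mul', smul_inv', inv_smul_smul, ← mul_smul, ← hk] at h2
  have h6 : (k • a) * b⁻¹ ∈ N ⊓ lam := ⟨h7, lam.mul_mem h5 (lam.inv_mem hb)⟩
  rw [hd, Subgroup.mem_bot, mul_inv_eq_one] at h6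
  rw [← h6, hk, mul_smul, smul_inv_smul]

end Cfsg.Agent.Omega.NO3S.FullQ.Cnt

end

section


/-!
# NO-3S, `q ≥ 4`: sums of orbits (helper471 #21459, (2d), (7.0))

`C ≥ C_H(lam)`, `T ≤ C_H(lam)`: `ov C lam a = ∏ d • a`, `d ∈ C / C_H(lam)` (an odd number of factors).

* `ov_mul` : additive in `a`; `smul_ov` : `C` fixes `ov C lam a`; `ov_conj` : `N_H(C) ∩ N_H(lam)`-equivariant;
* `Flag.ov_mem` : if `C` centralises `lam` modulo `N`, then `ov C lam a ∈ a N`;
* `cmod N lam = C_H(lam mod N)`, `n0 N lam a = ov (cmod N lam) lam a * a⁻¹ ∈ N`: `n0_mul`, `n0_smul`, `fix_of_n0`,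
  `Flag.n0_mem`.
-/

set_option autoImplicit false
set_option linter.unusedSectionVars false

namespace Cfsg.Agent.Omega.NO3S.FullQ

open Subgroup Cfsg.Agent.ZN Cfsg.Agent.Omega.NO3S.PT Cfsg.Agent.Omega.NO3S.FarQ
open Cfsg.Agent.ClassTwoFusion.Quad (cv mem_cv cv_anti)

variable {H M K : Type*} [Group H] [CommGroup M] [MulDistribMulAction H M] [CommGroup K]

theorem mem_fixer {lam : Subgroup M} {h : H} : h ∈ fixer lam ↔ ∀ a ∈ lam, h • a = a := Iff.rfl

/-- `∏_{d ∈ C / C_H(lam)} d • a` -/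
noncomputable def ov [Finite H] (C : Subgroup H) (lam : Subgroup M) (a : M) : M :=
  letI := Fintype.ofFinite (C ⧸ (fixer (H := H) lam).subgroupOf C)
  ∏ q : C ⧸ (fixer (H := H) lam).subgroupOf C, ((q.out : C) : H) • a

section ov

variable [Finite H] {C : Subgroup H} {lam : Subgroup M}

theorem ov_mul (C : Subgroup H) (lam : Subgroup M) (a b : M) : ov C lam (a * b) = ov C lam a * ov C lam b := by
  unfold ov
  rw [← Finset.prod_mul_distrib]
  exact Finset.prod_congr rfl fun q _ => smul_mul' _ _ _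

theorem ov_one (C : Subgroup H) (lam : Subgroup M) : ov C lam (1 : M) = 1 := by
  unfold ov
  exact Finset.prod_eq_one fun q _ => smul_one _

/-- `c • a` depends only on the coset of `c` -/
theorem out_smul {c : H} (hc : c ∈ C) {a : M} (ha : a ∈ lam) :
    (((QuotientGroup.mk (⟨c, hc⟩ : C) : C ⧸ (fixer (H := H) lam).subgroupOf C).out : C) : H) • a = c • a := by
  have h1 : (⟨c, hc⟩ : C)⁻¹ * ((QuotientGroup.mk (⟨c, hc⟩ : C) : C ⧸ (fixer (H := H) lam).subgroupOf C).out) ∈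
      (fixer (H := H) lam).subgroupOf C := by
    rw [← QuotientGroup.eq, QuotientGroup.out_eq']
  rw [mem_subgroupOf] at h1
  have h2 := mem_fixer.1 h1 a ha
  rw [Subgroup.coe_mul, Subgroup.coe_inv, mul_smul, inv_smul_eq_iff] at h2
  exact h2

/-- `C` fixes `ov` -/
theorem smul_ov {c : H} (hc : c ∈ C) {a : M} (ha : a ∈ lam) : c • ov C lam a = ov C lam a := by
  let _ := Fintype.ofFinite (C ⧸ (fixer (H := H) lam).subgroupOf C)
  show c • (∏ q : C ⧸ (fixer (H := H) lam).subgroupOf C, ((q.out : C) : H) • a) =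
    ∏ q : C ⧸ (fixer (H := H) lam).subgroupOf C, ((q.out : C) : H) • a
  rw [Finset.smul_prod']
  refine Fintype.prod_equiv (MulAction.toPerm (⟨c, hc⟩ : C)) _ _ fun q => ?_
  obtain ⟨⟨d, hd⟩, rfl⟩ := QuotientGroup.mk_surjective q
  have h1 : (MulAction.toPerm (⟨c, hc⟩ : C)) (QuotientGroup.mk (⟨d, hd⟩ : C) :
      C ⧸ (fixer (H := H) lam).subgroupOf C) = QuotientGroup.mk (⟨c * d, mul_mem hc hd⟩ : C) := rfl
  rw [h1, out_smul hd ha, out_smul (mul_mem hc hd) ha, mul_smul]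

/-- equivariance -/
theorem ov_conj {g : H} (hgC : ∀ c, c ∈ C ↔ g * c * g⁻¹ ∈ C) (hgl : ∀ a, a ∈ lam ↔ g • a ∈ lam) {a : M}
    (ha : a ∈ lam) : g • ov C lam a = ov C lam (g • a) := by
  let _ := Fintype.ofFinite (C ⧸ (fixer (H := H) lam).subgroupOf C)
  show g • (∏ q : C ⧸ (fixer (H := H) lam).subgroupOf C, ((q.out : C) : H) • a) =
    ∏ q : C ⧸ (fixer (H := H) lam).subgroupOf C, ((q.out : C) : H) • g • a
  rw [Finset.smul_prod']
  have hfix : ∀ h : H, h ∈ fixer lam ↔ g * h * g⁻¹ ∈ fixer lam := by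
    intro h
    rw [mem_fixer, mem_fixer]
    constructor
    · intro h1 b hb
      have hb' : g⁻¹ • b ∈ lam := by rw [hgl, smul_inv_smul]; exact hb
      rw [mul_smul, mul_smul, h1 _ hb', smul_inv_smul]
    · intro h1 b hb
      have h2 := h1 _ ((hgl b).1 hb)
      rw [mul_smul, mul_smul, inv_smul_smul] at h2
      exact smul_left_cancel g h2
  let e : C ≃* C :=
    { toFun := fun c => ⟨g * c * g⁻¹, (hgC c).1 c.2⟩
      invFun := fun c => ⟨g⁻¹ * c * g, by
        rw [hgC]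
        have e1 : g * (g⁻¹ * (c : H) * g) * g⁻¹ = c := by group
        rw [e1]
        exact c.2⟩
      left_inv := fun c => Subtype.ext (by show g⁻¹ * (g * (c : H) * g⁻¹) * g = c; group)
      right_inv := fun c => Subtype.ext (by show g * (g⁻¹ * (c : H) * g) * g⁻¹ = c; group)
      map_mul' := fun c d => Subtype.ext (by
        show g * ((c : H) * d) * g⁻¹ = g * (c : H) * g⁻¹ * (g * (d : H) * g⁻¹)
        group) }
  let E : C ⧸ (fixer (H := H) lam).subgroupOf C ≃ C ⧸ (fixer (H := H) lam).subgroupOf C :=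
    Quotient.congr e.toEquiv (by
      intro c d
      rw [← @Quotient.eq'' _ (QuotientGroup.leftRel _) c d, ← @Quotient.eq'' _ (QuotientGroup.leftRel _) (e.toEquiv c) (e.toEquiv d)]
      change (QuotientGroup.mk c : C ⧸ (fixer (H := H) lam).subgroupOf C) = QuotientGroup.mk d ↔
        (QuotientGroup.mk (e c) : C ⧸ (fixer (H := H) lam).subgroupOf C) = QuotientGroup.mk (e d)
      rw [QuotientGroup.eq, QuotientGroup.eq, ← map_inv, ← map_mul, mem_subgroupOf, mem_subgroupOf]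
      exact hfix _)
  refine Fintype.prod_equiv E _ _ fun q => ?_
  obtain ⟨⟨d, hd⟩, rfl⟩ := QuotientGroup.mk_surjective q
  have h1 : E (QuotientGroup.mk (⟨d, hd⟩ : C)) = QuotientGroup.mk (⟨g * d * g⁻¹, (hgC d).1 hd⟩ : C) := rfl
  rw [h1, out_smul hd ha, out_smul _ ((hgl a).1 ha), mul_smul, mul_smul, inv_smul_smul]

end ov

/-- `C_H(lam mod N)` -/
def cmod (N lam : Subgroup M) (hN : HInv H N) : Subgroup H where
  carrier := {h | ∀ a ∈ lam, (h • a) * a⁻¹ ∈ N}
  one_mem' := fun a _ => by rw [one_smul, mul_inv_cancel]; exact one_mem _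
  mul_mem' := by
    intro x y hx hy a ha
    have e : (x * y) • a * a⁻¹ = (x • ((y • a) * a⁻¹)) * ((x • a) * a⁻¹) := by
      rw [smul_mul', smul_inv', mul_smul]
      group
    rw [e]
    exact mul_mem (hN x _ (hy a ha)) (hx a ha)
  inv_mem' := by
    intro x hx a ha
    have h1 := inv_mem (hN x⁻¹ _ (hx a ha))
    rw [smul_mul', inv_smul_smul, smul_inv', mul_inv_rev, inv_inv] at h1
    exact h1

theorem mem_cmod {N lam : Subgroup M} {hN : HInv H N} {h : H} :
    h ∈ cmod N lam hN ↔ ∀ a ∈ lam, (h • a) * a⁻¹ ∈ N := Iff.rfl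

theorem fixer_le_cmod {N lam : Subgroup M} {hN : HInv H N} : fixer lam ≤ cmod N lam hN := by
  intro h hh a ha
  rw [mem_fixer.1 hh a ha, mul_inv_cancel]
  exact one_mem _

theorem cq_le_cmod {N lam : Subgroup M} {hN : HInv H N} : cq N ≤ cmod N lam hN := fun _ hh a _ => hh a

section flag

variable {T : Subgroup H} {lam U : Subgroup M} {Kh : Subgroup (M →* K)} (F : Flag T lam U Kh)
include F

/-- a subgroup containing `T` has odd index -/
theorem _root_.Cfsg.Agent.Omega.NO3S.FarQ.Flag.odd_relIndex {A C : Subgroup H} (hT : T ≤ A) (hAC : A ≤ C) :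
    Odd (A.relIndex C) := by
  rw [← Nat.not_even_iff_odd, even_iff_two_dvd]
  intro h
  apply F.ndvd
  have h1 : A.relIndex C * C.index = A.index := relIndex_mul_index hAC
  have h2 : T.relIndex A * A.index = T.index := relIndex_mul_index hT
  rw [← h2, ← h1]
  exact Dvd.dvd.mul_left (Dvd.dvd.mul_right h _) _

theorem _root_.Cfsg.Agent.Omega.NO3S.FarQ.Flag.T_le : T ≤ fixer lam := fun t ht a ha => F.fix t ht a ha

theorem _root_.Cfsg.Agent.Omega.NO3S.FarQ.Flag.odd_pow {n : ℕ} (hn : Odd n) (a : M) : a ^ n = a := by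
  obtain ⟨k, rfl⟩ := hn
  rw [pow_succ, pow_mul, pow_two, F.sq, one_pow, one_mul]

theorem _root_.Cfsg.Agent.Omega.NO3S.FarQ.Flag.inv_eq (a : M) : a⁻¹ = a := inv_eq_of_mul_eq_one_left (F.sq a)

/-- `ov C lam a ∈ a N` if `C` centralises `lam` modulo `N` -/
theorem _root_.Cfsg.Agent.Omega.NO3S.FarQ.Flag.ov_mem [Finite H] {C : Subgroup H} (hC : fixer lam ≤ C) {N : Subgroup M}
    (hCN : ∀ c ∈ C, ∀ a ∈ lam, (c • a) * a⁻¹ ∈ N) {a : M} (ha : a ∈ lam) : ov C lam a * a⁻¹ ∈ N := by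
  let _ := Fintype.ofFinite (C ⧸ (fixer (H := H) lam).subgroupOf C)
  have h1 : ov C lam a * a⁻¹ = ∏ q : C ⧸ (fixer (H := H) lam).subgroupOf C, (((q.out : C) : H) • a) * a⁻¹ := by
    rw [Finset.prod_mul_distrib, Finset.prod_const, Finset.card_univ, inv_pow]
    have h2 : Fintype.card (C ⧸ (fixer (H := H) lam).subgroupOf C) = (fixer (H := H) lam).relIndex C := by
      rw [← Nat.card_eq_fintype_card]
      rfl
    rw [h2, F.odd_pow (F.odd_relIndex F.T_le hC)]
    rfl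
  rw [h1]
  exact prod_mem fun q _ => hCN _ (q.out : C).2 a ha

end flag

/-- `n₀(a) = a + v(a)` -/
noncomputable def n0 [Finite H] (N lam : Subgroup M) (hN : HInv H N) (a : M) : M := ov (cmod N lam hN) lam a * a⁻¹

section n0

variable [Finite H] {N lam : Subgroup M} {hN : HInv H N}

theorem n0_mul (a b : M) : n0 N lam hN (a * b) = n0 N lam hN a * n0 N lam hN b := by
  unfold n0
  rw [ov_mul, mul_inv]
  exact mul_mul_mul_comm _ _ _ _

theorem n0_one : n0 N lam hN (1 : M) = 1 := by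
  unfold n0
  rw [ov_one, inv_one, mul_one]

/-- `n₀` is equivariant for `N_H(lam)` -/
theorem n0_smul {g : H} (hg : ∀ a, a ∈ lam ↔ g • a ∈ lam) {a : M} (ha : a ∈ lam) :
    n0 N lam hN (g • a) = g • n0 N lam hN a := by
  unfold n0
  rw [smul_mul', smul_inv', ← ov_conj _ hg ha]
  intro c
  rw [mem_cmod, mem_cmod]
  constructor
  · intro h b hb
    have hb' : g⁻¹ • b ∈ lam := by rw [hg, smul_inv_smul]; exact hb
    have h1 := hN g _ (h _ hb')
    rw [smul_mul', smul_inv', smul_inv_smul] at h1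
    rw [mul_smul, mul_smul]
    exact h1
  · intro h b hb
    have h1 := hN g⁻¹ _ (h _ ((hg b).1 hb))
    rw [smul_mul', smul_inv', inv_smul_smul, mul_smul, mul_smul, inv_smul_smul, inv_smul_smul] at h1
    exact h1

/-- `n₀(a) = 1`: `C_H(lam mod N)` fixes `a` -/
theorem fix_of_n0 {a : M} (ha : a ∈ lam) (h : n0 N lam hN a = 1) {c : H} (hc : c ∈ cmod N lam hN) : c • a = a := by
  have h1 : ov (cmod N lam hN) lam a = a := mul_inv_eq_one.1 h
  have h2 := smul_ov hc ha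
  rwa [h1] at h2

end n0

theorem _root_.Cfsg.Agent.Omega.NO3S.FarQ.Flag.n0_mem {T : Subgroup H} {lam U : Subgroup M} {Kh : Subgroup (M →* K)}
    (F : Flag T lam U Kh) [Finite H] {N : Subgroup M} {hN : HInv H N} {a : M} (ha : a ∈ lam) : n0 N lam hN a ∈ N :=
  F.ov_mem fixer_le_cmod (fun _ hc => mem_cmod.1 hc) ha

end Cfsg.Agent.Omega.NO3S.FullQ

end

section


/-!
# NO-3S, `q ≥ 4`: LEMMA TOR (helper471 #21459, (2d))

`N` an `H`-invariant subgroup of `M`; `θ ∈ C_H(N)` normalises `lam N` and acts without fixed points on `lam N / N`.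
Then `C_H(lam mod N) = C_H(lam)` (`Flag.tor`) and `N_H(lam N) = N_H(lam)` (`Flag.tor_norm`).

PROOF. `K₁ = C_H(N) ∩ C_H(lam mod N)` contains `[θ, T]`; by Sylow in `K₁ T` some `g ∈ K₁ θ` normalises `T`, so `g`
normalises `lam` (UNIQ). `n₀ : lam → N` (`Orb.lean`) satisfies `n₀(g a) = g n₀(a) = n₀(a)`, so `n₀((g - 1) a) = 0`.
-/

set_option autoImplicit false
set_option linter.unusedSectionVars false

namespace Cfsg.Agent.Omega.NO3S.FullQ

open Subgroup Cfsg.Agent.ZN Cfsg.Agent.Omega.NO3S.PT Cfsg.Agent.Omega.NO3S.FarQ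
open Cfsg.Agent.ClassTwoFusion.Quad (cv mem_cv cv_anti)

variable {H M K : Type*} [Group H] [CommGroup M] [MulDistribMulAction H M] [CommGroup K]
variable {T : Subgroup H} {lam U : Subgroup M} {Kh : Subgroup (M →* K)}

theorem fixer_conj {N : Subgroup M} (hN : HInv H N) {g h : H} (hh : h ∈ fixer N) : g * h * g⁻¹ ∈ fixer N := by
  intro n hn
  rw [mul_smul, mul_smul, hh _ (hN g⁻¹ n hn), smul_inv_smul]

/-- injective on a finite subgroup: `g lam ≤ lam` gives equality -/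
theorem mem_iff_of_le [Finite M] {lam : Subgroup M} {g : H} (h : ∀ a ∈ lam, g • a ∈ lam) (a : M) :
    a ∈ lam ↔ g • a ∈ lam := by
  constructor
  · exact h a
  · intro h1
    have hinj : Function.Injective fun x : lam => (⟨g • (x : M), h x x.2⟩ : lam) := by
      intro x y hxy
      exact Subtype.ext (smul_left_cancel g (Subtype.ext_iff.1 hxy))
    obtain ⟨x, hx⟩ := (Finite.injective_iff_surjective.1 hinj) ⟨g • a, h1⟩
    have h2 := Subtype.ext_iff.1 hx
    have h3 : (x : M) = a := smul_left_cancel g h2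
    rw [← h3]
    exact x.2

/-- an element normalising `lam N` normalises `C_H(lam mod N)` -/
theorem cmod_conj [Finite M] {N lam : Subgroup M} {hN : HInv H N} {g : H} (hg : ∀ a ∈ lam, g • a ∈ lam ⊔ N) {c : H}
    (hc : c ∈ cmod N lam hN) : g * c * g⁻¹ ∈ cmod N lam hN := by
  have h1 : ∀ a ∈ lam ⊔ N, g • a ∈ lam ⊔ N := by
    intro a ha
    obtain ⟨b, hb, n, hn, rfl⟩ := mem_sup.1 ha
    rw [smul_mul']
    exact mul_mem (hg b hb) (mem_sup_right (hN g n hn))
  have h2 : ∀ a ∈ lam ⊔ N, (c • a) * a⁻¹ ∈ N := by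
    intro a ha
    obtain ⟨b, hb, n, hn, rfl⟩ := mem_sup.1 ha
    have e : c • (b * n) * (b * n)⁻¹ = ((c • b) * b⁻¹) * ((c • n) * n⁻¹) := by
      rw [smul_mul', mul_inv]
      exact mul_mul_mul_comm _ _ _ _
    rw [e]
    exact mul_mem (hc b hb) (mul_mem (hN c n hn) (inv_mem hn))
  intro a ha
  have h3 : g⁻¹ • a ∈ lam ⊔ N := by
    rw [mem_iff_of_le h1, smul_inv_smul]
    exact mem_sup_left ha
  have h4 := hN g _ (h2 _ h3)
  rw [smul_mul', smul_inv', smul_inv_smul] at h4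
  rw [mul_smul, mul_smul]
  exact h4

section flag

variable (F : Flag T lam U Kh)
include F

/-- **Frattini**: `θ` normalises `K₁`, `K₁` contains `[θ, T]` and is normalised by `T`: some `g ∈ K₁ θ` normalises `T`. -/
theorem _root_.Cfsg.Agent.Omega.NO3S.FarQ.Flag.frattini {K₁ : Subgroup H} {θ : H}
    (hT : ∀ t ∈ T, ∀ k ∈ K₁, t * k * t⁻¹ ∈ K₁) (hc : ∀ t ∈ T, θ * t * θ⁻¹ * t⁻¹ ∈ K₁) :
    ∃ k ∈ K₁, k * θ ∈ normalizer (T : Set H) := by
  have := F.finH
  have hf : Fact (Nat.Prime 2) := ⟨Nat.prime_two⟩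
  have hTn : T ≤ normalizer (K₁ : Set H) := by
    intro t ht
    rw [mem_normalizer_iff]
    intro k
    constructor
    · exact hT t ht k
    · intro h
      have h1 := hT t⁻¹ (inv_mem ht) _ h
      have e : t⁻¹ * (t * k * t⁻¹) * t⁻¹⁻¹ = k := by group
      rwa [e] at h1
  have hD : T.map (MulAut.conj θ).toMonoidHom ≤ K₁ ⊔ T := by
    rintro _ ⟨t, ht, rfl⟩
    show θ * t * θ⁻¹ ∈ K₁ ⊔ T
    have e : θ * t * θ⁻¹ = (θ * t * θ⁻¹ * t⁻¹) * t := by group
    rw [e]
    exact mul_mem (mem_sup_left (hc t ht)) (mem_sup_right ht)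
  have hidx : ¬ 2 ∣ T.relIndex (K₁ ⊔ T) := by
    intro h
    apply F.ndvd
    have h1 : T.relIndex (K₁ ⊔ T) * (K₁ ⊔ T).index = T.index := relIndex_mul_index le_sup_right
    rw [← h1]
    exact h.mul_right _
  obtain ⟨n, hn, hle⟩ := Cfsg.Agent.Lib.GoldschmidtFusion.exists_conj_le_in F.two hidx hD (F.two.map _)
  have hn' : n ∈ ((T ⊔ K₁ : Subgroup H) : Set H) := by rwa [sup_comm] at hn
  rw [coe_mul_of_left_le_normalizer_right T K₁ hTn] at hn'
  obtain ⟨t, ht, k, hk, rfl⟩ := Set.mem_mul.1 hn'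
  refine ⟨k, hk, ?_⟩
  have h1 : ∀ s ∈ T, (k * θ) * s * (k * θ)⁻¹ ∈ T := by
    intro s hs
    have h2 : t * k * (θ * s * θ⁻¹) * (t * k)⁻¹ ∈ T := hle ⟨θ * s * θ⁻¹, ⟨s, hs, rfl⟩, rfl⟩
    have h3 := mul_mem (mul_mem (inv_mem ht) h2) ht
    have e : t⁻¹ * (t * k * (θ * s * θ⁻¹) * (t * k)⁻¹) * t = (k * θ) * s * (k * θ)⁻¹ := by group
    rwa [e] at h3
  rw [mem_normalizer_iff]
  intro s
  constructor
  · exact h1 s
  · intro hs
    have hinj : Function.Injective fun x : T => (⟨(k * θ) * x * (k * θ)⁻¹, h1 x x.2⟩ : T) := by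
      intro x y hxy
      have h4 := Subtype.ext_iff.1 hxy
      exact Subtype.ext (mul_left_cancel (mul_right_cancel h4))
    obtain ⟨x, hx⟩ := (Finite.injective_iff_surjective.1 hinj) ⟨_, hs⟩
    have h4 := Subtype.ext_iff.1 hx
    have h5 : (x : H) = s := mul_left_cancel (mul_right_cancel h4)
    rw [← h5]
    exact x.2

/-- **LEMMA TOR** -/
theorem _root_.Cfsg.Agent.Omega.NO3S.FarQ.Flag.tor {N : Subgroup M} (hN : HInv H N) {θ : H} (hθ : ∀ n ∈ N, θ • n = n)
    (hθl : ∀ a ∈ lam, θ • a ∈ lam ⊔ N) (hθf : ∀ a ∈ lam, (θ • a) * a⁻¹ ∈ N → a = 1) {h : H}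
    (hh : ∀ a ∈ lam, (h • a) * a⁻¹ ∈ N) : h ∈ fixer lam := by
  have := F.finH
  have := F.finM
  have hθ' : θ ∈ fixer N := hθ
  obtain ⟨k, hk, hg⟩ := F.frattini (K₁ := fixer N ⊓ cmod N lam hN) (θ := θ) (fun t ht k hk => by
    have ht' : t ∈ cmod N lam hN := fixer_le_cmod (F.T_le ht)
    exact Subgroup.mem_inf.2 ⟨fixer_conj hN hk.1, mul_mem (mul_mem ht' hk.2) (inv_mem ht')⟩) (fun t ht => by
    have ht' : t ∈ cmod N lam hN := fixer_le_cmod (F.T_le ht)
    refine Subgroup.mem_inf.2 ⟨?_, mul_mem (cmod_conj hθl ht') (inv_mem ht')⟩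
    have e : θ * t * θ⁻¹ * t⁻¹ = θ * (t * θ⁻¹ * t⁻¹) := by group
    rw [e]
    exact mul_mem hθ' (fixer_conj hN (inv_mem hθ')))
  have hgl : ∀ a ∈ lam, (k * θ) • a ∈ lam := F.norm _ hg
  have hgN : ∀ n ∈ N, (k * θ) • n = n := fun n hn => by rw [mul_smul, hθ n hn, hk.1 n hn]
  have hgf : ∀ a ∈ lam, (k * θ) • a = a → a = 1 := by
    intro a ha hfix
    refine hθf a ha ?_
    obtain ⟨b, hb, n, hn, e⟩ := mem_sup.1 (hθl a ha)
    -- `k • (θ • a) ≡ θ • a` modulo `N`
    have h1 : (k • (θ • a)) * (θ • a)⁻¹ ∈ N := by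
      rw [← e]
      have e2 : k • (b * n) * (b * n)⁻¹ = ((k • b) * b⁻¹) * ((k • n) * n⁻¹) := by
        rw [smul_mul', mul_inv]
        exact mul_mul_mul_comm _ _ _ _
      rw [e2]
      exact mul_mem (hk.2 b hb) (mul_mem (hN k n hn) (inv_mem hn))
    rw [← mul_smul, hfix] at h1
    have h2 := inv_mem h1
    rwa [mul_inv_rev, inv_inv] at h2
  have key : ∀ a ∈ lam, n0 N lam hN a = 1 := by
    -- `a ↦ (g a) a⁻¹` is onto `lam`
    have hinj : Function.Injective fun x : lam => (⟨((k * θ) • (x : M)) * (x : M)⁻¹, mul_mem (hgl x x.2) (inv_mem x.2)⟩ : lam) := by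
      intro x y hxy
      have h4 := Subtype.ext_iff.1 hxy
      have h5 : (k * θ) • ((x : M) * (y : M)⁻¹) = (x : M) * (y : M)⁻¹ := by
        rw [smul_mul', smul_inv']
        have h6 : ((k * θ) • (x : M)) * (x : M)⁻¹ = ((k * θ) • (y : M)) * (y : M)⁻¹ := h4
        rw [mul_inv_eq_iff_eq_mul] at h6
        rw [h6]
        have h7 : (k * θ) • (y : M) * (y : M)⁻¹ * (x : M) * ((k * θ) • (y : M))⁻¹ = (x : M) * (y : M)⁻¹ := by
          rw [mul_comm ((k * θ) • (y : M)) (y : M)⁻¹, mul_assoc, mul_assoc, mul_left_comm ((k * θ) • (y : M)),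
            mul_inv_cancel, mul_one, mul_comm]
        exact h7
      have h8 := hgf _ (mul_mem x.2 (inv_mem y.2)) h5
      exact Subtype.ext (mul_inv_eq_one.1 h8)
    intro b hb
    obtain ⟨x, hx⟩ := (Finite.injective_iff_surjective.1 hinj) ⟨b, hb⟩
    have h4 : ((k * θ) • (x : M)) * (x : M)⁻¹ = b := Subtype.ext_iff.1 hx
    have hiff := mem_iff_of_le hgl
    have h5 := n0_smul (hN := hN) hiff x.2
    rw [hgN _ (F.n0_mem x.2)] at h5
    have h6 : n0 N lam hN ((k * θ) • (x : M)) * n0 N lam hN (x : M)⁻¹ = 1 := by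
      rw [h5, ← n0_mul, mul_inv_cancel, n0_one]
    rw [← h4, n0_mul, h6]
  intro a ha
  exact fix_of_n0 ha (key a ha) (mem_cmod.2 hh)

/-- **LEMMA TOR**, the normaliser -/
theorem _root_.Cfsg.Agent.Omega.NO3S.FarQ.Flag.tor_norm {N : Subgroup M} (hN : HInv H N)
    (htor : ∀ h : H, (∀ a ∈ lam, (h • a) * a⁻¹ ∈ N) → h ∈ fixer lam) {h : H} (hh : ∀ a ∈ lam, h • a ∈ lam ⊔ N) :
    ∀ a ∈ lam, h • a ∈ lam := by
  have := F.finM
  obtain ⟨k, hk, hg⟩ := F.frattini (K₁ := cmod N lam hN) (θ := h) (fun t ht k hk => by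
    have ht' : t ∈ cmod N lam hN := fixer_le_cmod (F.T_le ht)
    exact mul_mem (mul_mem ht' hk) (inv_mem ht')) (fun t ht => by
    have ht' : t ∈ cmod N lam hN := fixer_le_cmod (F.T_le ht)
    exact mul_mem (cmod_conj hh ht') (inv_mem ht'))
  intro a ha
  have h1 := F.norm _ hg a ha
  have h2 : k⁻¹ • ((k * h) • a) = (k * h) • a := inv_mem (htor k hk) _ h1
  rw [mul_smul, inv_smul_smul, ← mul_smul] at h2
  rw [h2]
  exact h1

end flag

end Cfsg.Agent.Omega.NO3S.FullQ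

end

section


/-!
# FullB, `q ≥ 4`: the `F`-module `Q = M / N⁺` (helper471 #21459, section 0; helper973)

* `FS F lam Kh` : `K` is an `F`-line, and `c • (a ∈ lam)` exists modulo `rad` (`FSOf.exists_fs`);
* `FS.all`, `FS.np` : `M / rad` is an `F`-space, `N⁺ / rad` an `F`-subspace;
* `KhP Kh` : the elements of `Kh` trivial on `N⁺`;
* `exists_qm` : **`Qm F H π a₀ N⁺ lam`**, if `lam` is not in `N⁺`, and every `F`-linear `Q → K` is in `Kh`.
-/

set_option autoImplicit false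
set_option linter.unusedSectionVars false

namespace Cfsg.Agent.Omega.NO3S.FullQ.QF

open Subgroup Cfsg Cfsg.Agent.ZN Cfsg.Agent.Omega.NO3S.PT Cfsg.Agent.Omega.NO3S.FarQ
open scoped Pointwise

universe u

variable {F H M K : Type*} [Field F] [Group H] [CommGroup M] [MulDistribMulAction H M] [CommGroup K]
  [Module F (Additive K)]

variable (F) in
/-- **FS**: `K` is an `F`-line and `c • a` exists modulo `rad`. -/
structure FS (lam : Subgroup M) (Kh : Subgroup (M →* K)) : Prop where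
  card : Nat.card F = Nat.card K
  smul : ∀ c : F, ∀ a ∈ lam, ∃ b ∈ lam, ∀ φ ∈ Kh, Additive.ofMul (φ b) = c • Additive.ofMul (φ a)

/-- if `F x ≤ D < K`, then `x = 1` -/
theorem eq_one_of_smul [Finite K] (hc : Nat.card F = Nat.card K) {D : Subgroup K} (hD : D ≠ ⊤) {x : K}
    (h : ∀ c : F, (c • Additive.ofMul x).toMul ∈ D) : x = 1 := by
  by_contra hx
  have hx' : Additive.ofMul x ≠ 0 := hx
  have hinj : Function.Injective (fun c : F => (c • Additive.ofMul x).toMul) := smul_left_injective F hx'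
  have hb := (Nat.bijective_iff_injective_and_card (fun c : F => (c • Additive.ofMul x).toMul)).2 ⟨hinj, hc⟩
  apply hD
  rw [eq_top_iff]
  intro y _
  obtain ⟨c, hc⟩ := hb.2 y
  rw [← hc]
  exact h c

theorem _root_.Cfsg.Agent.Omega.NO3S.FarQ.Flag.finK {T : Subgroup H} {lam U : Subgroup M} {Kh : Subgroup (M →* K)}
    (Fl : Flag T lam U Kh) : Finite K := by
  have := Fl.finM
  have h1 : Nat.card K ≠ 0 := by rw [Fl.cardR]; exact Nat.card_pos.ne'
  exact Nat.finite_of_card_ne_zero h1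

/-- the elements of `Kh` trivial on `N⁺` -/
def KhP (Kh : Subgroup (M →* K)) : Subgroup (M →* K) where
  carrier := {φ | φ ∈ Kh ∧ ∀ n ∈ Np Kh, φ n = 1}
  one_mem' := ⟨one_mem _, fun n _ => rfl⟩
  mul_mem' := fun {a b} ha hb => ⟨mul_mem ha.1 hb.1, fun n hn => by
    rw [MonoidHom.mul_apply, ha.2 n hn, hb.2 n hn, mul_one]⟩
  inv_mem' := fun {a} ha => ⟨inv_mem ha.1, fun n hn => by rw [MonoidHom.inv_apply, ha.2 n hn, inv_one]⟩

section flag

variable {T : Subgroup H} {lam U : Subgroup M} {Kh : Subgroup (M →* K)} (Fl : Flag T lam U Kh)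
include Fl

/-- `M / rad` is closed under `F` -/
theorem FS.all (h : FS F lam Kh) (c : F) (m : M) : ∃ m' : M, ∀ φ ∈ Kh, Additive.ofMul (φ m') = c • Additive.ofMul (φ m) := by
  let N : Subgroup M :=
    { carrier := {m | ∃ m' : M, ∀ φ ∈ Kh, Additive.ofMul (φ m') = c • Additive.ofMul (φ m)}
      one_mem' := ⟨1, fun φ _ => by rw [map_one φ, ofMul_one, smul_zero]⟩
      mul_mem' := by
        rintro a b ⟨a', ha⟩ ⟨b', hb⟩
        exact ⟨a' * b', fun φ hφ => by rw [map_mul φ, map_mul φ, ofMul_mul, ofMul_mul, smul_add, ha φ hφ, hb φ hφ]⟩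
      inv_mem' := by
        rintro a ⟨a', ha⟩
        exact ⟨a'⁻¹, fun φ hφ => by rw [map_inv φ, map_inv φ, ofMul_inv, ofMul_inv, smul_neg, ha φ hφ]⟩ }
  have h1 : N = ⊤ := Fl.gen N fun g a ha => by
    obtain ⟨b, -, hb⟩ := h.smul c a ha
    refine ⟨g • b, fun φ hφ => ?_⟩
    exact hb _ (Fl.comp_mem hφ g)
  have h2 : m ∈ N := by rw [h1]; exact mem_top m
  exact h2

/-- `N⁺ / rad` is closed under `F` -/
theorem FS.np (h : FS F lam Kh) (c : F) {m : M} (hm : m ∈ Np Kh) :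
    ∃ m' ∈ Np Kh, ∀ φ ∈ Kh, Additive.ofMul (φ m') = c • Additive.ofMul (φ m) := by
  let N : Subgroup M :=
    { carrier := {m | ∃ m' ∈ Np Kh, ∀ φ ∈ Kh, Additive.ofMul (φ m') = c • Additive.ofMul (φ m)}
      one_mem' := ⟨1, one_mem _, fun φ _ => by rw [map_one φ, ofMul_one, smul_zero]⟩
      mul_mem' := by
        rintro a b ⟨a', ha', ha⟩ ⟨b', hb', hb⟩
        exact ⟨a' * b', mul_mem ha' hb', fun φ hφ => by
          rw [map_mul φ, map_mul φ, ofMul_mul, ofMul_mul, smul_add, ha φ hφ, hb φ hφ]⟩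
      inv_mem' := by
        rintro a ⟨a', ha', ha⟩
        exact ⟨a'⁻¹, inv_mem ha', fun φ hφ => by rw [map_inv φ, map_inv φ, ofMul_inv, ofMul_inv, smul_neg, ha φ hφ]⟩ }
  have h1 : Np Kh ≤ N := by
    refine Np_le fun D hD x hx => ?_
    obtain ⟨m', hm'⟩ := h.all Fl c x
    refine ⟨m', ?_, hm'⟩
    by_cases hc : c = 0
    · refine (Mt_le_Np Kh Fl.bot_ne_top) (mem_rad.2 fun φ hφ => ?_)
      have h2 := hm' φ hφ
      rw [hc, zero_smul] at h2
      exact h2
    · let D' : Subgroup K :=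
        { carrier := {y | (c⁻¹ • Additive.ofMul y).toMul ∈ D}
          one_mem' := by
            show (c⁻¹ • Additive.ofMul (1 : K)).toMul ∈ D
            rw [ofMul_one, smul_zero]
            exact one_mem _
          mul_mem' := by
            intro a b ha hb
            show (c⁻¹ • Additive.ofMul (a * b)).toMul ∈ D
            rw [ofMul_mul, smul_add, toMul_add]
            exact mul_mem ha hb
          inv_mem' := by
            intro a ha
            show (c⁻¹ • Additive.ofMul (a⁻¹)).toMul ∈ D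
            rw [ofMul_inv, smul_neg, toMul_neg]
            exact inv_mem ha }
      have hD' : D' ≠ ⊤ := by
        intro e
        apply hD
        rw [eq_top_iff]
        intro y _
        have h3 : (c • Additive.ofMul y).toMul ∈ D' := by rw [e]; exact mem_top _
        have h4 : (c⁻¹ • Additive.ofMul ((c • Additive.ofMul y).toMul)).toMul ∈ D := h3
        rw [ofMul_toMul, smul_smul, inv_mul_cancel₀ hc, one_smul] at h4
        exact h4
      refine (Mt_le_Np Kh hD') fun φ hφ => ?_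
      show (c⁻¹ • Additive.ofMul (φ m')).toMul ∈ D
      rw [hm' φ hφ, smul_smul, inv_mul_cancel₀ hc, one_smul]
      exact hx φ hφ
  exact h1 hm

/-- `φ ∈ Kh` with `φ(N⁺) ≤ D < K` is trivial on `N⁺` -/
theorem FS.triv (h : FS F lam Kh) {D : Subgroup K} (hD : D ≠ ⊤) {φ : M →* K} (hφ : φ ∈ Kh)
    (h1 : ∀ n ∈ Np Kh, φ n ∈ D) : φ ∈ KhP Kh := by
  have := Fl.finK
  refine ⟨hφ, fun n hn => eq_one_of_smul h.card hD fun c => ?_⟩
  obtain ⟨n', hn', h2⟩ := h.np Fl c hn
  rw [← h2 φ hφ]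
  exact h1 n' hn'

theorem KhP_comp {φ : M →* K} (hφ : φ ∈ KhP Kh) (h : H) : φ.comp (MulDistribMulAction.toMonoidHom M h) ∈ KhP Kh :=
  ⟨Fl.comp_mem hφ.1 h, fun n hn => hφ.2 _ (Fl.hinv_Np h n hn)⟩

/-- `N⁺` is the intersection of the kernels of `KhP` -/
theorem FS.mem_np (h : FS F lam Kh) {m : M} (hm : ∀ φ ∈ KhP Kh, φ m = 1) : m ∈ Np Kh := by
  by_contra hn
  obtain ⟨D, hD⟩ := Fl.exists_index_two
  have hDt := ne_top_of_index hD
  obtain ⟨φ, hφ, h1, h2⟩ := Fl.dual hD (Mt_le_Np Kh hDt) hn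
  apply h2
  rw [hm φ (h.triv Fl hDt hφ h1)]
  exact one_mem _

end flag

/-- evaluation -/
def evQ (Kh : Subgroup (M →* K)) (m : M) : KhP Kh → Additive K := fun φ => Additive.ofMul ((φ : M →* K) m)

/-- `Q` as an `F`-space -/
def QS {T : Subgroup H} {lam U : Subgroup M} {Kh : Subgroup (M →* K)} (Fl : Flag T lam U Kh) (h : FS F lam Kh) :
    Submodule F (KhP Kh → Additive K) where
  carrier := {f | ∃ m, evQ Kh m = f}
  zero_mem' := ⟨1, by
    funext φ
    show Additive.ofMul ((φ : M →* K) 1) = 0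
    rw [map_one, ofMul_one]⟩
  add_mem' := by
    rintro _ _ ⟨m, rfl⟩ ⟨n, rfl⟩
    refine ⟨m * n, ?_⟩
    funext φ
    show Additive.ofMul ((φ : M →* K) (m * n)) = _
    rw [map_mul, ofMul_mul]
    rfl
  smul_mem' := by
    rintro c _ ⟨m, rfl⟩
    obtain ⟨m', hm'⟩ := h.all Fl c m
    refine ⟨m', ?_⟩
    funext φ
    exact hm' φ φ.2.1

/-- the action of `H` on `Q` -/
@[reducible] def qact {T : Subgroup H} {lam U : Subgroup M} {Kh : Subgroup (M →* K)} (Fl : Flag T lam U Kh)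
    (h : FS F lam Kh) : DistribMulAction H (QS Fl h) where
  smul g f := ⟨fun φ => f.1 ⟨_, KhP_comp Fl φ.2 g⟩, by
    obtain ⟨m, hm⟩ := f.2
    refine ⟨g • m, ?_⟩
    rw [← hm]
    rfl⟩
  one_smul f := by
    obtain ⟨f, m, rfl⟩ := f
    refine Subtype.ext (funext fun φ => ?_)
    show Additive.ofMul ((φ : M →* K) ((1 : H) • m)) = Additive.ofMul ((φ : M →* K) m)
    rw [one_smul]
  mul_smul a b f := by
    obtain ⟨f, m, rfl⟩ := f
    refine Subtype.ext (funext fun φ => ?_)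
    show Additive.ofMul ((φ : M →* K) ((a * b) • m)) = Additive.ofMul ((φ : M →* K) (a • b • m))
    rw [mul_smul]
  smul_zero g := rfl
  smul_add g a b := rfl

/-- **`Q`.** -/
theorem exists_qm {F : Type*} [Field F] {H : Type*} {M K : Type u} [Group H] [CommGroup M] [MulDistribMulAction H M]
    [CommGroup K] [Module F (Additive K)] {T : Subgroup H} {lam U : Subgroup M} {Kh : Subgroup (M →* K)}
    (Fl : Flag T lam U Kh) (h : FS F lam Kh) (hne : ¬ lam ≤ Np Kh) :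
    ∃ (Q : Type u) (_ : AddCommGroup Q) (_ : Module F Q) (_ : DistribMulAction H Q) (_ : SMulCommClass H F Q)
      (π' : M → Q) (a0 : Q), Cnt.Qm F H π' a0 (Np Kh) lam ∧
      (∀ g : Q →ₗ[F] Additive K, ∃ φ ∈ Kh, ∀ m, Additive.ofMul (φ m) = g (π' m)) ∧
      ∀ (c : F) (m m' : M), (∀ φ ∈ Kh, Additive.ofMul (φ m') = c • Additive.ofMul (φ m)) → π' m' = c • π' m := by
  classical
  have := Fl.finK
  have := Fl.finM
  let _ := qact Fl h
  have hcomm : SMulCommClass H F (QS Fl h) := ⟨fun g c f => rfl⟩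
  let π' : M → QS Fl h := fun m => ⟨evQ Kh m, m, rfl⟩
  obtain ⟨a, ha, han⟩ := SetLike.not_le_iff_exists.1 hne
  have hpm : ∀ m n, π' (m * n) = π' m + π' n := by
    intro m n
    refine Subtype.ext (funext fun φ => ?_)
    show Additive.ofMul ((φ : M →* K) (m * n)) = Additive.ofMul ((φ : M →* K) m) + Additive.ofMul ((φ : M →* K) n)
    rw [map_mul, ofMul_mul]
  have hker : ∀ m, π' m = 0 ↔ m ∈ Np Kh := by
    intro m
    constructor
    · intro h1
      refine h.mem_np Fl fun φ hφ => ?_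
      have h2 := congrFun (congrArg Subtype.val h1) ⟨φ, hφ⟩
      exact h2
    · intro h1
      refine Subtype.ext (funext fun φ => ?_)
      exact φ.2.2 m h1
  have hsmul : ∀ (c : F) (m m' : M), (∀ φ ∈ Kh, Additive.ofMul (φ m') = c • Additive.ofMul (φ m)) → π' m' = c • π' m :=
    fun c m m' h1 => Subtype.ext (funext fun φ => h1 φ φ.2.1)
  have ha0 : π' a ≠ 0 := fun e => han ((hker a).1 e)
  -- `lam` is onto `F a₀`
  choose b hb hb2 using fun c : F => h.smul c a ha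
  have hbinj : Function.Injective fun c : F => (⟨b c, hb c⟩ : lam) := by
    intro c d hcd
    have h1 : b c = b d := congrArg Subtype.val hcd
    have h2 : c • π' a = d • π' a := by rw [← hsmul c a (b c) (hb2 c), ← hsmul d a (b d) (hb2 d), h1]
    exact smul_left_injective F ha0 h2
  have hbb := (Nat.bijective_iff_injective_and_card fun c : F => (⟨b c, hb c⟩ : lam)).2
    ⟨hbinj, h.card.trans Fl.cardR⟩
  refine ⟨QS Fl h, inferInstance, inferInstance, inferInstance, hcomm, π', π' a,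
    ⟨hpm, ?_, fun g m => rfl, hker, ?_, ha0⟩, ?_, hsmul⟩
  · rintro ⟨_, m, rfl⟩
    exact ⟨m, rfl⟩
  · intro v
    rw [Submodule.mem_span_singleton]
    constructor
    · rintro ⟨x, hx, rfl⟩
      obtain ⟨c, hc⟩ := hbb.2 ⟨x, hx⟩
      have hc' : b c = x := congrArg Subtype.val hc
      exact ⟨c, by rw [← hsmul c a (b c) (hb2 c), hc']⟩
    · rintro ⟨c, rfl⟩
      exact ⟨b c, hb c, hsmul c a (b c) (hb2 c)⟩
  · intro g
    obtain ⟨D, hD⟩ := Fl.exists_index_two
    have hDt := ne_top_of_index hD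
    let gm : M →* K := MonoidHom.mk' (fun m => (g (π' m)).toMul) (by
      intro m n
      rw [hpm, map_add, toMul_add])
    have hgm : ∀ m, Additive.ofMul (gm m) = g (π' m) := fun m => rfl
    by_cases hg : gm = 1
    · refine ⟨1, one_mem _, fun m => ?_⟩
      rw [← hgm, hg]
    -- `E = {m | g (π m) ∈ D}`
    obtain ⟨m₀, hm₀⟩ : ∃ m, gm m ∉ D := by
      by_contra hcon
      push Not at hcon
      apply hg
      ext m
      refine eq_one_of_smul h.card hDt (fun c => ?_)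
      obtain ⟨m', hm'⟩ := h.all Fl c m
      have h1 : c • Additive.ofMul (gm m) = Additive.ofMul (gm m') := by
        rw [hgm, hgm, hsmul c m m' hm', map_smul]
      rw [h1]
      exact hcon m'
    have hE : Mt Kh D ≤ D.comap gm := by
      intro m hm
      have h1 : m ∈ Np Kh := Mt_le_Np Kh hDt hm
      show gm m ∈ D
      have h2 : gm m = 1 := by
        have h3 := hgm m
        rw [(hker m).2 h1, map_zero] at h3
        exact h3
      rw [h2]
      exact one_mem _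
    obtain ⟨φ, hφ, h1, h2⟩ := Fl.dual hD hE (m := m₀) hm₀
    -- the two homomorphisms agree modulo `D`
    have h3 : ∀ m, φ m * (gm m)⁻¹ ∈ D := by
      intro m
      have hidx : (D.comap gm).index = 2 := by
        have h4 : (D.comap gm).index ∣ D.index := by
          rw [index_comap]
          exact relIndex_dvd_index_of_normal D gm.range
        rw [hD, Nat.dvd_prime Nat.prime_two, index_eq_one] at h4
        rcases h4 with h4 | h4
        · exfalso
          have h5 : m₀ ∈ D.comap gm := by rw [h4]; exact mem_top _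
          exact hm₀ h5
        · exact h4
      by_cases hm : gm m ∈ D
      · exact mul_mem (h1 m hm) (inv_mem hm)
      · have h4 : φ m ∉ D := by
          intro h5
          have h6 : m₀ * m⁻¹ ∈ D.comap gm := by
            have h7 := Subgroup.mul_mem_iff_of_index_two hidx (a := m₀) (b := m⁻¹)
            rw [h7]
            constructor
            · intro h8
              exact absurd h8 hm₀
            · intro h8
              exact absurd ((inv_mem_iff).1 h8) hm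
          have h8 := mul_mem (h1 _ h6) h5
          rw [← map_mul, inv_mul_cancel_right] at h8
          exact h2 h8
        have h7 := Subgroup.mul_mem_iff_of_index_two hD (a := φ m) (b := (gm m)⁻¹)
        rw [h7]
        constructor
        · intro h8
          exact absurd h8 h4
        · intro h8
          exact absurd ((inv_mem_iff).1 h8) hm
    refine ⟨φ, hφ, fun m => ?_⟩
    have h4 : φ m * (gm m)⁻¹ = 1 := by
      refine eq_one_of_smul h.card hDt (fun c => ?_)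
      obtain ⟨m', hm'⟩ := h.all Fl c m
      have h5 : Additive.ofMul (gm m') = c • Additive.ofMul (gm m) := by
        rw [hgm, hgm, hsmul c m m' hm', map_smul]
      rw [ofMul_mul, ofMul_inv, smul_add, smul_neg, ← hm' φ hφ, ← h5]
      exact h3 m'
    rw [← hgm, mul_inv_eq_one.1 h4]

end Cfsg.Agent.Omega.NO3S.FullQ.QF

end

section


/-!
# NO-3S, `FullB`, `q ≥ 4`, class P (helper471 #21459, section 5): the count

`R = [W_p, W_q]` (written additively); `a : R →+ F` is the coordinate of `R` modulo `N⁺` on `λ`, `b : R →+ M` the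
`C₀`-part (`b r = r̄ + s(a r)`), `a'`, `b'` the same for the other side. A commutator `β x y` (`x ∈ W_p`, `y ∈ W_q`) has
`a = φ x · ψ y`, `b = k ((φ x)² · ψ y)`.

* `exists_u` : some `u ≠ 0` in `R` has `b' u = 0` (`u ∈ V_ln`) and `a u = 0` (`ū ∈ N⁺`);
* `no_mover` : the end for `n ≥ 3`.
-/

set_option autoImplicit false
set_option linter.unusedSectionVars false

namespace Cfsg.Agent.Omega.NO3S.FullQ

section Count

variable {F : Type*} [Field F] [Finite F] {R M M' X Y : Type*} [AddCommGroup R] [Finite R] [AddCommGroup M]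
  [AddCommGroup M']

theorem exists_split (h4 : 4 ≤ Nat.card F) (t : F) : ∃ t₁ t₂ : F, t₁ ≠ 0 ∧ t₂ ≠ 0 ∧ t₁ + t₂ = t := by
  obtain ⟨c, hc0, hc1⟩ : ∃ c : F, c ≠ 0 ∧ c ≠ t := by
    by_contra hc
    push Not at hc
    have h5 : (Set.univ : Set F) ⊆ {0, t} := fun x _ => by
      by_cases hx : x = 0
      · exact Or.inl hx
      · exact Or.inr (hc x hx)
    have h6 := Set.ncard_le_ncard h5 (Set.toFinite _)
    rw [Set.ncard_univ] at h6
    have h7 := Set.ncard_insert_le (0 : F) {t}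
    rw [Set.ncard_singleton] at h7
    omega
  exact ⟨c, t - c, hc0, fun e => hc1 (sub_eq_zero.mp e).symm, by ring⟩

/-- `(a, b)` is onto `F × im k` -/
theorem ab_surj (h4 : 4 ≤ Nat.card F) (a : R →+ F) (b : R →+ M) (k : F →+ M) (β : X → Y → R) (φ : X → F) (ψ : Y → F)
    (hs : ∀ x y : F, ∃ p q, φ p = x ∧ ψ q = y) (ha : ∀ p q, a (β p q) = φ p * ψ q)
    (hb : ∀ p q, b (β p q) = k (φ p ^ 2 * ψ q)) (t r : F) : ∃ u, a u = t ∧ b u = k r := by
  have key : ∀ t r : F, t ≠ 0 → r ≠ 0 → ∃ u, a u = t ∧ b u = k r := by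
    intro t r ht hr
    obtain ⟨p, q, hp, hq⟩ := hs (r / t) (t ^ 2 / r)
    refine ⟨β p q, ?_, ?_⟩
    · rw [ha, hp, hq]; field_simp
    · rw [hb, hp, hq]; congr 1; field_simp
  obtain ⟨t₁, t₂, h1, h2, h3⟩ := exists_split h4 t
  obtain ⟨r₁, r₂, g1, g2, g3⟩ := exists_split h4 r
  obtain ⟨u₁, a1, b1⟩ := key t₁ r₁ h1 g1
  obtain ⟨u₂, a2, b2⟩ := key t₂ r₂ h2 g2
  exact ⟨u₁ + u₂, by rw [map_add, a1, a2, h3], by rw [map_add, b1, b2, ← map_add, g3]⟩

/-- `|F| |im k| ≤ |R|`, with equality only if `(a, b)` is injective -/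
theorem card_ge (h4 : 4 ≤ Nat.card F) (a : R →+ F) (b : R →+ M) (k : F →+ M) (β : X → Y → R) (φ : X → F) (ψ : Y → F)
    (hs : ∀ x y : F, ∃ p q, φ p = x ∧ ψ q = y) (ha : ∀ p q, a (β p q) = φ p * ψ q)
    (hb : ∀ p q, b (β p q) = k (φ p ^ 2 * ψ q)) (hgen : ∀ u, ∃ r, b u = k r) :
    Nat.card F * Nat.card k.range ≤ Nat.card R ∧
      (Nat.card R ≤ Nat.card F * Nat.card k.range → ∀ u, a u = 0 → b u = 0 → u = 0) := by
  let g : R → F × k.range := fun u => (a u, ⟨b u, by obtain ⟨r, hr⟩ := hgen u; exact ⟨r, hr.symm⟩⟩)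
  have hgs : Function.Surjective g := by
    rintro ⟨t, ⟨_, r, rfl⟩⟩
    obtain ⟨u, h1, h2⟩ := ab_surj h4 a b k β φ ψ hs ha hb t r
    exact ⟨u, Prod.ext h1 (Subtype.ext h2)⟩
  have : Finite k.range := Set.finite_range k
  refine ⟨?_, fun hle u hu hu' => ?_⟩
  · rw [← Nat.card_prod]
    exact Nat.card_le_card_of_surjective g hgs
  · have hcard : Nat.card R = Nat.card (F × k.range) := by
      rw [Nat.card_prod]
      refine le_antisymm hle ?_
      rw [← Nat.card_prod]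
      exact Nat.card_le_card_of_surjective g hgs
    have hb' : Function.Bijective g :=
      (Nat.bijective_iff_surjective_and_card g).mpr ⟨hgs, hcard⟩
    apply hb'.1
    refine Prod.ext ?_ (Subtype.ext ?_)
    · show a u = a 0
      rw [hu, map_zero]
    · show b u = b 0
      rw [hu', map_zero]

/-- **section 5 of #21459**: `R ∩ V_ln` contains `u ≠ 1` with `ū ∈ N⁺` -/
theorem exists_u (h4 : 4 ≤ Nat.card F) (a a' : R →+ F) (b : R →+ M) (b' : R →+ M') (k : F →+ M) (k' : F →+ M')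
    (β : X → Y → R) (φ ψ' : X → F) (ψ φ' : Y → F)
    (hgen : AddSubgroup.closure {u | ∃ x y, u = β x y} = ⊤)
    (hs : ∀ x y : F, ∃ p q, φ p = x ∧ ψ q = y) (ha : ∀ p q, a (β p q) = φ p * ψ q)
    (hb : ∀ p q, b (β p q) = k (φ p ^ 2 * ψ q))
    (hs' : ∀ x y : F, ∃ q p, φ' q = x ∧ ψ' p = y) (ha' : ∀ p q, a' (β p q) = φ' q * ψ' p)
    (hb' : ∀ p q, b' (β p q) = k' (φ' q ^ 2 * ψ' p))
    (inj : ∀ u, b u = 0 → b' u = 0 → u = 0) : ∃ u, u ≠ 0 ∧ b' u = 0 ∧ a u = 0 := by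
  have gb : ∀ u, ∃ r, b u = k r := by
    intro u
    have hu : u ∈ AddSubgroup.closure {u | ∃ x y, u = β x y} := by rw [hgen]; trivial
    refine AddSubgroup.closure_induction (p := fun u _ => ∃ r, b u = k r) ?_ ?_ ?_ ?_ hu
    · rintro _ ⟨x, y, rfl⟩; exact ⟨_, hb x y⟩
    · exact ⟨0, by rw [map_zero, map_zero]⟩
    · rintro x y - - ⟨r, hr⟩ ⟨r', hr'⟩; exact ⟨r + r', by rw [map_add, map_add, hr, hr']⟩
    · rintro x - ⟨r, hr⟩; exact ⟨-r, by rw [map_neg, map_neg, hr]⟩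
  have gb' : ∀ u, ∃ r, b' u = k' r := by
    intro u
    have hu : u ∈ AddSubgroup.closure {u | ∃ x y, u = β x y} := by rw [hgen]; trivial
    refine AddSubgroup.closure_induction (p := fun u _ => ∃ r, b' u = k' r) ?_ ?_ ?_ ?_ hu
    · rintro _ ⟨x, y, rfl⟩; exact ⟨_, hb' x y⟩
    · exact ⟨0, by rw [map_zero, map_zero]⟩
    · rintro x y - - ⟨r, hr⟩ ⟨r', hr'⟩; exact ⟨r + r', by rw [map_add, map_add, hr, hr']⟩
    · rintro x - ⟨r, hr⟩; exact ⟨-r, by rw [map_neg, map_neg, hr]⟩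
  let β' : Y → X → R := fun y x => β x y
  obtain ⟨c1, i1⟩ := card_ge h4 a b k β φ ψ hs ha hb gb
  obtain ⟨c2, i2⟩ := card_ge h4 a' b' k' β' φ' ψ' hs' (fun p q => ha' q p) (fun p q => hb' q p) gb'
  have : Finite k.range := Set.finite_range k
  have : Finite k'.range := Set.finite_range k'
  -- `|R| ≤ |im k| |im k'|`
  have c3 : Nat.card R ≤ Nat.card k.range * Nat.card k'.range := by
    rw [← Nat.card_prod]
    let g : R → k.range × k'.range := fun u =>
      (⟨b u, by obtain ⟨r, hr⟩ := gb u; exact ⟨r, hr.symm⟩⟩, ⟨b' u, by obtain ⟨r, hr⟩ := gb' u; exact ⟨r, hr.symm⟩⟩)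
    refine Nat.card_le_card_of_injective g fun u v huv => ?_
    have h1 : b u = b v := congrArg (fun z : k.range × k'.range => (z.1 : M)) huv
    have h2 : b' u = b' v := congrArg (fun z : k.range × k'.range => (z.2 : M')) huv
    rw [← sub_eq_zero]
    exact inj _ (by rw [map_sub, h1, sub_self]) (by rw [map_sub, h2, sub_self])
  have c4 : Nat.card k.range ≤ Nat.card F :=
    Nat.card_le_card_of_surjective k.rangeRestrict k.rangeRestrict_surjective
  have c5 : Nat.card k'.range ≤ Nat.card F :=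
    Nat.card_le_card_of_surjective k'.rangeRestrict k'.rangeRestrict_surjective
  have p1 : 0 < Nat.card k.range := Nat.card_pos
  have p2 : 0 < Nat.card k'.range := Nat.card_pos
  have p3 : 0 < Nat.card F := by omega
  have e1 : Nat.card k.range = Nat.card F := by
    refine le_antisymm c4 ?_
    have : Nat.card F * Nat.card k'.range ≤ Nat.card k.range * Nat.card k'.range := c2.trans c3
    exact Nat.le_of_mul_le_mul_right this p2
  have e2 : Nat.card k'.range = Nat.card F := by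
    refine le_antisymm c5 ?_
    have : Nat.card F * Nat.card k.range ≤ Nat.card k.range * Nat.card k'.range := c1.trans c3
    rw [mul_comm] at this
    exact Nat.le_of_mul_le_mul_left this p1
  have j1 := i1 (by rw [e1, e2] at c3; rw [e1]; exact c3)
  have j2 := i2 (by rw [e1, e2] at c3; rw [e2]; exact c3)
  have kinj : ∀ r, k' r = 0 → r = 0 := by
    have hb2 : Function.Bijective k'.rangeRestrict :=
      (Nat.bijective_iff_surjective_and_card _).mpr ⟨k'.rangeRestrict_surjective, e2.symm⟩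
    intro r hr
    apply hb2.1
    apply Subtype.ext
    show k' r = k' 0
    rw [hr, map_zero]
  obtain ⟨u, hu1, hu2⟩ := ab_surj h4 a' b' k' β' φ' ψ' hs' (fun p q => ha' q p) (fun p q => hb' q p) 1 0
  rw [map_zero] at hu2
  refine ⟨u, fun e => ?_, hu2, ?_⟩
  · rw [e, map_zero] at hu1
    exact zero_ne_one hu1
  · by_contra ht
    obtain ⟨r, hr⟩ := gb u
    have hr0 : r ≠ 0 := by
      rintro rfl
      rw [map_zero] at hr
      have h0 := inj u hr hu2
      rw [h0, map_zero] at ht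
      exact ht rfl
    obtain ⟨p, q, hp, hq⟩ := hs (r / a u) (a u ^ 2 / r)
    have h1 : u = β p q := by
      rw [← sub_eq_zero]
      apply j1
      · rw [map_sub, ha, hp, hq, sub_eq_zero]; field_simp
      · rw [map_sub, hb, hp, hq, hr, sub_eq_zero]; congr 1; field_simp
    rw [h1, hb'] at hu2
    rw [h1, ha'] at hu1
    have h2 := kinj _ hu2
    rcases mul_eq_zero.mp h2 with h3 | h3
    · rw [pow_eq_zero_iff two_ne_zero] at h3
      rw [h3, zero_mul] at hu1; exact zero_ne_one hu1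
    · rw [h3, mul_zero] at hu1; exact zero_ne_one hu1

end Count

section End

variable {G : Type*} [Group G]

/-- the end of class P (`n ≥ 3`): `u ∈ R ∩ V_ln`, `ū ∈ N⁺`, `f` a mover inverting `h` -/
theorem no_mover {f h u : G} (hf2 : f * f = 1) (ho : Odd (orderOf h)) (hi : f * h * f⁻¹ = h⁻¹)
    (hfu : f * u = u * f) (hup : ∃ r, h * u * h⁻¹ = u * r ∧ (h * f * h⁻¹) * r = r * (h * f * h⁻¹))
    (hcom : h * u * h⁻¹ = u → f * (h * f * h⁻¹) = (h * f * h⁻¹) * f) : h = 1 := by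
  have hfi : f⁻¹ = f := inv_eq_of_mul_eq_one_left hf2
  -- `(h f h⁻¹) f = h²`
  have e1 : (h * f * h⁻¹) * f = h * h := by
    have : f * h⁻¹ * f = h := by
      have h1 : f * h⁻¹ * f⁻¹ = h := by
        have h2 := congrArg (·⁻¹) hi
        simp only [mul_inv_rev, inv_inv] at h2
        rw [mul_assoc]; exact h2
      rw [hfi] at h1; exact h1
    calc (h * f * h⁻¹) * f = h * (f * h⁻¹ * f) := by group
      _ = h * h := by rw [this]
  obtain ⟨r, hr1, hr2⟩ := hup
  -- `h f h⁻¹` centralises `u`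
  have h3 : (h * f * h⁻¹) * u = u * (h * f * h⁻¹) := by
    have h4 : (h * f * h⁻¹) * (h * u * h⁻¹) = (h * u * h⁻¹) * (h * f * h⁻¹) := by
      calc (h * f * h⁻¹) * (h * u * h⁻¹) = h * (f * u) * h⁻¹ := by group
        _ = h * (u * f) * h⁻¹ := by rw [hfu]
        _ = _ := by group
    rw [hr1, ← mul_assoc, mul_assoc u r, ← hr2, ← mul_assoc] at h4
    exact mul_right_cancel h4
  have h5 : (h * h) * u = u * (h * h) := by
    rw [← e1, mul_assoc, hfu, ← mul_assoc, h3, mul_assoc]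
  have key : ∀ x : G, (h * h) * x = x * (h * h) → h * x = x * h := by
    intro x hx
    obtain ⟨m, hm⟩ := ho
    have h6 : h = (h * h) ^ (m + 1) := by
      rw [← pow_two, ← pow_mul, show 2 * (m + 1) = orderOf h + 1 by omega, pow_succ, pow_orderOf_eq_one, one_mul]
    have h7 : Commute (h * h) x := hx
    have h8 := h7.pow_left (m + 1)
    rw [← h6] at h8
    exact h8
  have h9 := key u h5
  have h10 := hcom (by rw [h9, mul_inv_cancel_right])
  have h11 : f * (h * h) = (h * h) * f := by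
    calc f * (h * h) = f * ((h * f * h⁻¹) * f) := by rw [e1]
      _ = (f * (h * f * h⁻¹)) * f := by group
      _ = ((h * f * h⁻¹) * f) * f := by rw [h10]
      _ = (h * h) * f := by rw [e1]
  have h12 := key f h11.symm
  rw [← h12, mul_inv_cancel_right] at hi
  -- `h = h⁻¹`
  have h13 : h * h = 1 := by
    nth_rw 1 [hi]; exact inv_mul_cancel h
  have h14 := orderOf_dvd_of_pow_eq_one (x := h) (n := 2) (by rw [pow_two]; exact h13)
  have h15 : orderOf h = 1 := by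
    rcases (Nat.dvd_prime Nat.prime_two).mp h14 with e | e
    · exact e
    · rw [e] at ho; exact absurd ho (by decide)
  exact orderOf_eq_one_iff.mp h15

end End

end Cfsg.Agent.Omega.NO3S.FullQ

end

section


/-!
# NO-3S, `FullB`, class P (helper471 #21459, section 5): two sides

`SO Wp Wq a b k φ ψ` : `a`, `b` are additive on `W_p`; `a [w,f] = φ w · ψ f`, `b [w,f] = k ((φ w)² · ψ f)`.

* `SO.exists_u` : both sides, `b u = b' u = 0 ⟹ u = 1` on `W_p ∩ W_q` : some `u ≠ 1` of `[W_p, W_q]` has `a u = 0`,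
  `b' u = 0`.
-/

set_option autoImplicit false
set_option linter.unusedSectionVars false

namespace Cfsg.Agent.Omega.NO3S.FullQ

open Subgroup

variable {G F M M' : Type*} [Group G] [Field F] [AddCommGroup M] [AddCommGroup M']

/-- one side -/
structure SO (Wp Wq : Subgroup G) (a : G → F) (b : G → M) (k : F →+ M) (φ ψ : G → F) : Prop where
  amul : ∀ u ∈ Wp, ∀ v ∈ Wp, a (u * v) = a u + a v
  bmul : ∀ u ∈ Wp, ∀ v ∈ Wp, b (u * v) = b u + b v
  surj : ∀ x y : F, ∃ w ∈ Wp, ∃ f ∈ Wq, φ w = x ∧ ψ f = y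
  ca : ∀ w ∈ Wp, ∀ f ∈ Wq, a (f * w * f⁻¹ * w⁻¹) = φ w * ψ f
  cb : ∀ w ∈ Wp, ∀ f ∈ Wq, b (f * w * f⁻¹ * w⁻¹) = k (φ w ^ 2 * ψ f)

/-- `[W_p, W_q]` -/
def CR (Wp Wq : Subgroup G) : Subgroup G := closure {c | ∃ w ∈ Wp, ∃ f ∈ Wq, c = f * w * f⁻¹ * w⁻¹}

theorem CR_le {Wp Wq N : Subgroup G} (h : ∀ w ∈ Wp, ∀ f ∈ Wq, f * w * f⁻¹ * w⁻¹ ∈ N) : CR Wp Wq ≤ N := by
  rw [CR, closure_le]
  rintro _ ⟨w, hw, f, hf, rfl⟩
  exact h w hw f hf

theorem SO.exists_u [Finite F] [Finite G] {Wp Wq : Subgroup G} {a a' : G → F} {b : G → M} {b' : G → M'} {k : F →+ M}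
    {k' : F →+ M'} {φ ψ φ' ψ' : G → F} (h4 : 4 ≤ Nat.card F) (S : SO Wp Wq a b k φ ψ) (S' : SO Wq Wp a' b' k' φ' ψ')
    (comm : ∀ u ∈ Wp, ∀ v ∈ Wp, u * v = v * u) (sq : ∀ u ∈ Wp, u * u = 1)
    (h1 : ∀ w ∈ Wp, ∀ f ∈ Wq, f * w * f⁻¹ * w⁻¹ ∈ Wp) (h2 : ∀ w ∈ Wp, ∀ f ∈ Wq, f * w * f⁻¹ * w⁻¹ ∈ Wq)
    (inj : ∀ u ∈ CR Wp Wq, b u = 0 → b' u = 0 → u = 1) :
    ∃ u ∈ CR Wp Wq, u ≠ 1 ∧ a u = 0 ∧ b' u = 0 := by
  have hRp : CR Wp Wq ≤ Wp := CR_le h1
  have hRq : CR Wp Wq ≤ Wq := CR_le h2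
  let _ : CommGroup (CR Wp Wq) :=
    { (inferInstance : Group (CR Wp Wq)) with
      mul_comm := fun u v => Subtype.ext (comm u (hRp u.2) v (hRp v.2)) }
  have hfin : Finite (Additive (CR Wp Wq)) := inferInstanceAs (Finite (CR Wp Wq))
  let aA : Additive (CR Wp Wq) →+ F :=
    AddMonoidHom.mk' (fun u => a (u.toMul : G)) fun u v => S.amul _ (hRp u.toMul.2) _ (hRp v.toMul.2)
  let bA : Additive (CR Wp Wq) →+ M :=
    AddMonoidHom.mk' (fun u => b (u.toMul : G)) fun u v => S.bmul _ (hRp u.toMul.2) _ (hRp v.toMul.2)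
  let aA' : Additive (CR Wp Wq) →+ F :=
    AddMonoidHom.mk' (fun u => a' (u.toMul : G)) fun u v => S'.amul _ (hRq u.toMul.2) _ (hRq v.toMul.2)
  let bA' : Additive (CR Wp Wq) →+ M' :=
    AddMonoidHom.mk' (fun u => b' (u.toMul : G)) fun u v => S'.bmul _ (hRq u.toMul.2) _ (hRq v.toMul.2)
  let β : Wp → Wq → Additive (CR Wp Wq) := fun w f => Additive.ofMul
    ⟨(f : G) * w * (f : G)⁻¹ * (w : G)⁻¹, subset_closure ⟨w, w.2, f, f.2, rfl⟩⟩
  have hinv : ∀ (w : Wp) (f : Wq), (w : G) * f * (w : G)⁻¹ * (f : G)⁻¹ = (f : G) * w * (f : G)⁻¹ * (w : G)⁻¹ := by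
    intro w f
    have e1 : (w : G) * f * (w : G)⁻¹ * (f : G)⁻¹ = ((f : G) * w * (f : G)⁻¹ * (w : G)⁻¹)⁻¹ := by group
    rw [e1]
    exact inv_eq_of_mul_eq_one_left (sq _ (h1 w w.2 f f.2))
  have hgen : AddSubgroup.closure {u | ∃ x y, u = β x y} = ⊤ := by
    rw [eq_top_iff]
    rintro ⟨u, hu⟩ -
    refine closure_induction (p := fun u hu => (Additive.ofMul (⟨u, hu⟩ : CR Wp Wq)) ∈
      AddSubgroup.closure {u | ∃ x y, u = β x y}) ?_ ?_ ?_ ?_ hu
    · rintro _ ⟨w, hw, f, hf, rfl⟩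
      exact AddSubgroup.subset_closure ⟨⟨w, hw⟩, ⟨f, hf⟩, rfl⟩
    · exact zero_mem _
    · intro x y hx hy h3 h4
      exact add_mem h3 h4
    · intro x hx h3
      exact neg_mem h3
  have hs1 : ∀ x y : F, ∃ (p : Wp) (q : Wq), φ p = x ∧ ψ q = y := by
    intro x y
    obtain ⟨w, hw, f, hf, h3, h4⟩ := S.surj x y
    exact ⟨⟨w, hw⟩, ⟨f, hf⟩, h3, h4⟩
  have hs2 : ∀ x y : F, ∃ (q : Wq) (p : Wp), φ' q = x ∧ ψ' p = y := by
    intro x y
    obtain ⟨w, hw, f, hf, h3, h4⟩ := S'.surj x y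
    exact ⟨⟨w, hw⟩, ⟨f, hf⟩, h3, h4⟩
  have ha' : ∀ (w : Wp) (f : Wq), aA' (β w f) = φ' f * ψ' w := by
    intro w f
    have h3 := S'.ca f f.2 w w.2
    rw [hinv] at h3
    exact h3
  have hb' : ∀ (w : Wp) (f : Wq), bA' (β w f) = k' (φ' f ^ 2 * ψ' w) := by
    intro w f
    have h3 := S'.cb f f.2 w w.2
    rw [hinv] at h3
    exact h3
  have hinj : ∀ u, bA u = 0 → bA' u = 0 → u = 0 := by
    intro u h3 h4
    have h5 := inj u.toMul u.toMul.2 h3 h4
    exact congrArg Additive.ofMul (Subtype.ext h5)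
  obtain ⟨u, hu, hu1, hu2⟩ := FullQ.exists_u h4 aA aA' bA bA' k k' β (fun w => φ w) (fun w => ψ' w) (fun f => ψ f)
    (fun f => φ' f) hgen hs1 (fun w f => S.ca w w.2 f f.2) (fun w f => S.cb w w.2 f f.2) hs2 ha' hb' hinj
  refine ⟨(u.toMul : G), u.toMul.2, fun e => hu ?_, hu2, hu1⟩
  exact congrArg Additive.ofMul (Subtype.ext e)

end Cfsg.Agent.Omega.NO3S.FullQ

end

section


/-!
# FullB, `q ≥ 4`, class P, one functional: transitivity (helper298 #21966, (3.3))

`H` acts `F`-linearly on `Q`, `L₀` is a normal subgroup which contains the root group `v ↦ v + c φ₀(v) a₀` (`c : F`), and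
`C_H(a₀)` acts on `F φ₀` (`dim Φ_{a₀} = 1`).

* `Tv.sym` : joined is symmetric: `φ₀(g a₀) = 0 → φ₀(g⁻¹ a₀) = 0`;
* `Tv.trans` : line vectors `x`, `y` (multiples of conjugates of `a₀`) with `φ₀ x = φ₀ y ≠ 0` are conjugate under
  `C_{L₀}(a₀)`;
* `Tv.two_fix` : an element of `C_H(a₀)` of 2-power order fixes `φ₀`.
-/

set_option autoImplicit false
set_option linter.unusedSectionVars false

namespace Cfsg.Agent.Omega.NO3S.FullQ.Trv

variable {F H Q : Type*} [Field F] [CharP F 2] [AddCommGroup Q] [Module F Q] [Group H] [DistribMulAction H Q]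
  [SMulCommClass H F Q]

/-- **The situation.** -/
structure Tv (L0 : Subgroup H) (a0 : Q) (φ0 : Module.Dual F Q) : Prop where
  norm : ∀ g : H, ∀ e ∈ L0, g * e * g⁻¹ ∈ L0
  root : ∀ c : F, ∃ e ∈ L0, ∀ v : Q, e • v = v + (c * φ0 v) • a0
  zero : φ0 a0 = 0
  ne : φ0 ≠ 0
  sc : ∀ g : H, g • a0 = a0 → ∃ c : F, ∀ v, φ0 (g • v) = c * φ0 v

namespace Tv

variable {L0 : Subgroup H} {a0 : Q} {φ0 : Module.Dual F Q}

omit [CharP F 2] in
/-- the root group of the line vector `k g a₀` -/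
theorem root_at (D : Tv L0 a0 φ0) (g : H) (k c : F) :
    ∃ e ∈ L0, ∀ v : Q, e • v = v + (c * φ0 (g⁻¹ • v)) • (k • g • a0) := by
  obtain ⟨e, he, h1⟩ := D.root (c * k)
  refine ⟨g * e * g⁻¹, D.norm g e he, fun v => ?_⟩
  rw [mul_smul, mul_smul, h1, smul_add, smul_inv_smul, smul_comm g, smul_smul, mul_right_comm, mul_right_comm c]

omit [CharP F 2] in
/-- **joined is symmetric** -/
theorem sym (D : Tv L0 a0 φ0) {g : H} (h : φ0 (g • a0) = 0) : φ0 (g⁻¹ • a0) = 0 := by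
  by_contra hne
  obtain ⟨e, -, h1⟩ := D.root_at g⁻¹ 1 1
  simp only [one_smul, one_mul, inv_inv] at h1
  have h2 : e • a0 = a0 := by rw [h1, h, zero_smul, add_zero]
  obtain ⟨c, hc⟩ := D.sc e h2
  have h3 : c = 1 := by
    have h4 := hc (g⁻¹ • a0)
    rw [h1, smul_inv_smul, D.zero, zero_smul, add_zero] at h4
    exact (mul_right_cancel₀ hne (by rw [one_mul]; exact h4)).symm
  apply D.ne
  ext v
  have h4 := hc (g⁻¹ • v)
  rw [h1, smul_inv_smul, h3, one_mul, LinearMap.map_add, LinearMap.map_smul, smul_eq_mul, add_eq_left] at h4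
  exact (mul_eq_zero.1 h4).resolve_right hne

/-- the joined case -/
theorem trans_joined (D : Tv L0 a0 φ0) {g g' : H} {k k' : F} (hk : k ≠ 0) (hk' : k' ≠ 0)
    (h : φ0 (k • g • a0) = φ0 (k' • g' • a0)) (hj : φ0 (g⁻¹ • k' • g' • a0) ≠ 0) :
    ∃ ℓ ∈ L0, ℓ • a0 = a0 ∧ ℓ • (k • g • a0) = k' • g' • a0 := by
  have two : ∀ v : Q, v + v = 0 := fun v => by
    rw [← two_smul F v, CharTwo.two_eq_zero, zero_smul]
  set y := k' • g' • a0 with hy
  obtain ⟨e, he, h1⟩ := D.root_at g k (φ0 (g⁻¹ • y))⁻¹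
  have hx0 : φ0 (g⁻¹ • k • g • a0) = 0 := by
    rw [smul_comm g⁻¹, inv_smul_smul, LinearMap.map_smul, D.zero, smul_zero]
  set x := k • g • a0 with hx
  have h2 : e • y = y + x := by rw [h1, inv_mul_cancel₀ hj, one_smul]
  have hz : y + x = k' • (e * g') • a0 := by rw [← h2, hy, smul_comm e, mul_smul]
  have h3 : φ0 ((e * g') • a0) = 0 := by
    have h4 : φ0 (y + x) = 0 := by rw [LinearMap.map_add, h, CharTwo.add_self_eq_zero]
    rw [hz, LinearMap.map_smul, smul_eq_mul] at h4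
    exact (mul_eq_zero.1 h4).resolve_left hk'
  have h4 := D.sym h3
  have h5 : φ0 ((e * g')⁻¹ • x) ≠ 0 := by
    intro h6
    have h7 : φ0 ((g⁻¹ * (e * g'))⁻¹ • a0) = 0 := by
      rw [hx, smul_comm, LinearMap.map_smul, smul_eq_mul] at h6
      have h8 := (mul_eq_zero.1 h6).resolve_left hk
      rwa [← mul_smul, show (e * g')⁻¹ * g = (g⁻¹ * (e * g'))⁻¹ by group] at h8
    have h8 := D.sym h7
    rw [inv_inv, mul_smul] at h8
    apply hj
    have h9 : φ0 (g⁻¹ • (y + x)) = 0 := by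
      rw [hz, smul_comm, LinearMap.map_smul, h8, smul_zero]
    rwa [smul_add, LinearMap.map_add, hx0, add_zero] at h9
  obtain ⟨e', he', h6⟩ := D.root_at (e * g') k' (φ0 ((e * g')⁻¹ • x))⁻¹
  rw [← hz] at h6
  refine ⟨e', he', ?_, ?_⟩
  · rw [h6, h4, mul_zero, zero_smul, add_zero]
  · rw [h6, inv_mul_cancel₀ h5, one_smul, add_comm y x, ← add_assoc, two, zero_add]

/-- **`C_{L₀}(a₀)` is transitive** on the line vectors with the same value `φ₀ ≠ 0`. -/
theorem trans (D : Tv L0 a0 φ0) {g g' : H} {k k' : F} (hk' : k' ≠ 0)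
    (h : φ0 (k • g • a0) = φ0 (k' • g' • a0)) (hne : φ0 (k • g • a0) ≠ 0) :
    ∃ ℓ ∈ L0, ℓ • a0 = a0 ∧ ℓ • (k • g • a0) = k' • g' • a0 := by
  have hk : k ≠ 0 := by
    rintro rfl
    rw [zero_smul, LinearMap.map_zero] at hne
    exact hne rfl
  by_cases hj : φ0 (g⁻¹ • k' • g' • a0) = 0
  · obtain ⟨b, hb, h1⟩ := D.root 1
    simp only [one_mul] at h1
    have hba : b • a0 = a0 := by rw [h1, D.zero, zero_smul, add_zero]
    have hy2 : b • k' • g' • a0 = k' • (b * g') • a0 := by rw [smul_comm b, mul_smul]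
    have hv : φ0 (k' • (b * g') • a0) = φ0 (k' • g' • a0) := by
      rw [← hy2, h1, LinearMap.map_add, LinearMap.map_smul φ0 (φ0 _), D.zero, smul_zero, add_zero]
    have hga : φ0 (g⁻¹ • a0) ≠ 0 := by
      intro h2
      have h3 := D.sym h2
      rw [inv_inv] at h3
      rw [LinearMap.map_smul, h3, smul_zero] at hne
      exact hne rfl
    have hj' : φ0 (g⁻¹ • k' • (b * g') • a0) ≠ 0 := by
      rw [← hy2, h1, smul_add, LinearMap.map_add, hj, zero_add, smul_comm, LinearMap.map_smul, smul_eq_mul, ← h]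
      exact mul_ne_zero hne hga
    obtain ⟨ℓ, hl, h2, h3⟩ := D.trans_joined hk hk' (h.trans hv.symm) hj'
    refine ⟨b⁻¹ * ℓ, mul_mem (inv_mem hb) hl, ?_, ?_⟩
    · rw [mul_smul, h2, inv_smul_eq_iff, hba]
    · rw [mul_smul, h3, inv_smul_eq_iff, hy2]
  · exact D.trans_joined hk hk' h hj

/-- an element of `C_H(a₀)` of 2-power order fixes `φ₀` -/
theorem two_fix (D : Tv L0 a0 φ0) {t : H} (h : t • a0 = a0) {n : ℕ} (hn : t ^ 2 ^ n = 1) (v : Q) :
    φ0 (t • v) = φ0 v := by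
  obtain ⟨c, hc⟩ := D.sc t h
  have h1 : ∀ (i : ℕ) (v : Q), φ0 (t ^ i • v) = c ^ i * φ0 v := by
    intro i
    induction i with
    | zero => intro v; rw [pow_zero, pow_zero, one_smul, one_mul]
    | succ i ih => intro v; rw [pow_succ, mul_smul, ih, hc, pow_succ, mul_assoc]
  obtain ⟨w, hw⟩ : ∃ w, φ0 w ≠ 0 := by
    by_contra hcon
    push Not at hcon
    exact D.ne (LinearMap.ext hcon)
  have h2 := h1 (2 ^ n) w
  rw [hn, one_smul] at h2
  have h3 : c ^ 2 ^ n = 1 := (mul_right_cancel₀ hw (by rw [one_mul]; exact h2)).symm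
  have h4 : (c - 1) ^ 2 ^ n = 0 := by
    rw [sub_pow_char_pow, h3, one_pow, sub_self]
  have h5 : c = 1 := by
    have := (pow_eq_zero_iff (M₀ := F) (pow_ne_zero n (two_ne_zero (α := ℕ)))).1 h4
    rwa [sub_eq_zero] at this
  rw [hc, h5, one_mul]

end Tv

end Cfsg.Agent.Omega.NO3S.FullQ.Trv

end
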