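import Cfsg.Agent.Mrg.Omega.NO3S.FarQ.Free.FullDual
import Cfsg.Agent.Mrg.Omega.NO3S.FarQ.End
import Cfsg.Agent.Mrg.Omega.NO3S.FarQ.Free.FullG
import Mathlib

section


/-!
# FullB, `q ≥ 4`: movers without (D) and the plane `P⁺ / N⁺` ((2a) of #21459, helper471; typed by helper312)

`D : Geom ..`, `F : Frm ..` at the flag `(p, l)`, `(p, q)` critical, `f ∈ W_q`, `h ∈ C_G(R_p)` odd, inverted by `f`,
`x = h r`, `x' = f h r = h⁻¹ r`, `W_x ∩ W_{x'} ≰ W_p` (helper404's `Bad`).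

* `PP h lam N` : the elements `(h • a) (h⁻¹ • b) n`, `a, b ∈ lam`, `n ∈ N`;
* `Dl Kh N` : some `D ≠ ⊤` : for `N ≤ E ∌ m` some `φ ∈ Kh` has `φ(E) ≤ D`, `φ m ∉ D` (helper471's `dual`, `N = N⁺`);
* `Bad.mem_PP` : `W_x ∩ W_{x'} ≤ W_e`, `e ∼ p` ⟹ `π(R_e) ≤ P⁺ = PP (ρ h) lam N`;
* `Bad.lam_le`, `Bad.inv_W`, `Bad.inv_h` : `lam ≤ P⁺`, `P⁺` is invariant under `ρ(W_q)` and `ρ h`;
* **`exists_plane`** : the whole, for every `f ∈ W_q` with `ρ f ≠ 1` if `¬ DP inc W p q`.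
-/

set_option autoImplicit false
set_option linter.unusedSectionVars false

namespace Cfsg.Agent.Omega.NO3S.FullQ

open Subgroup Cfsg Cfsg.Agent.ZN Cfsg.Agent.MinSimple.VModule Cfsg.Agent.Omega.NOThree.Pts
open Cfsg.Agent.Omega.NO3S.FarQ Cfsg.Agent.Omega.NO3S.FarQ.Glue Cfsg.Agent.Omega.NO3S.FarQ.Free

section abs

variable {H M K : Type*} [Group H] [CommGroup M] [MulDistribMulAction H M] [CommGroup K]

/-- `P⁺`: the elements `(h • a) (h⁻¹ • b) n`. -/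
def PP (h : H) (lam N : Subgroup M) : Subgroup M where
  carrier := {m | ∃ a ∈ lam, ∃ b ∈ lam, ∃ n ∈ N, m = (h • a) * (h⁻¹ • b) * n}
  one_mem' := ⟨1, one_mem _, 1, one_mem _, 1, one_mem _, by rw [smul_one, smul_one, mul_one, mul_one]⟩
  mul_mem' := by
    rintro _ _ ⟨a, ha, b, hb, n, hn, rfl⟩ ⟨a', ha', b', hb', n', hn', rfl⟩
    refine ⟨a * a', mul_mem ha ha', b * b', mul_mem hb hb', n * n', mul_mem hn hn', ?_⟩
    rw [smul_mul', smul_mul']
    simp only [mul_assoc, mul_left_comm]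
  inv_mem' := by
    rintro _ ⟨a, ha, b, hb, n, hn, rfl⟩
    refine ⟨a⁻¹, inv_mem ha, b⁻¹, inv_mem hb, n⁻¹, inv_mem hn, ?_⟩
    rw [smul_inv', smul_inv', mul_inv, mul_inv]

theorem mem_PP {h : H} {lam N : Subgroup M} {m : M} :
    m ∈ PP h lam N ↔ ∃ a ∈ lam, ∃ b ∈ lam, ∃ n ∈ N, m = (h • a) * (h⁻¹ • b) * n := Iff.rfl

theorem smul_mem_PP {h : H} {lam N : Subgroup M} {a : M} (ha : a ∈ lam) : h • a ∈ PP h lam N :=
  ⟨a, ha, 1, one_mem _, 1, one_mem _, by rw [smul_one, mul_one, mul_one]⟩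

theorem inv_smul_mem_PP {h : H} {lam N : Subgroup M} {a : M} (ha : a ∈ lam) : h⁻¹ • a ∈ PP h lam N :=
  ⟨1, one_mem _, a, ha, 1, one_mem _, by rw [smul_one, one_mul, mul_one]⟩

theorem N_le_PP (h : H) (lam N : Subgroup M) : N ≤ PP h lam N := fun n hn =>
  ⟨1, one_mem _, 1, one_mem _, n, hn, by rw [smul_one, smul_one, one_mul, one_mul]⟩

/-- if `k` maps `h • lam`, `h⁻¹ • lam`, `N` into `P⁺` then it normalises `P⁺` -/
theorem PP_inv {h k : H} {lam N : Subgroup M} (h1 : ∀ a ∈ lam, k • h • a ∈ PP h lam N)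
    (h2 : ∀ a ∈ lam, k • h⁻¹ • a ∈ PP h lam N) (h3 : ∀ n ∈ N, k • n ∈ N) :
    ∀ m ∈ PP h lam N, k • m ∈ PP h lam N := by
  rintro _ ⟨a, ha, b, hb, n, hn, rfl⟩
  rw [smul_mul', smul_mul']
  exact mul_mem (mul_mem (h1 a ha) (h2 b hb)) (N_le_PP _ _ _ (h3 n hn))

/-- **The duality** (helper471's `dual`): for `N ≤ E ∌ m` some `φ ∈ Kh` has `φ(E) ≤ D`, `φ m ∉ D`. -/
def Dl (Kh : Subgroup (M →* K)) (N : Subgroup M) : Prop :=
  ∃ D : Subgroup K, D ≠ ⊤ ∧ ∀ E : Subgroup M, N ≤ E → ∀ m, m ∉ E → ∃ φ ∈ Kh, (∀ e ∈ E, φ e ∈ D) ∧ φ m ∉ D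

/-- `φ(lam) ≤ D ≠ K` implies `φ(lam) = 1` -/
theorem eq_one_of_le {T : Subgroup H} {lam U : Subgroup M} {Kh : Subgroup (M →* K)} (F : Flag T lam U Kh)
    {φ : M →* K} (hφ : φ ∈ Kh) {D : Subgroup K} (hD : D ≠ ⊤) (h : ∀ a ∈ lam, φ a ∈ D) : ∀ a ∈ lam, φ a = 1 := by
  by_contra hcon
  push Not at hcon
  obtain ⟨b, hb, hb1⟩ := hcon
  have hinj : ∀ a ∈ lam, φ a = 1 → a = 1 := by
    intro a ha h1
    by_contra h2
    exact hb1 (F.ti φ hφ a ha h2 h1 b hb)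
  have := F.finM
  have hfl : Finite lam := inferInstance
  have hK : Finite K := by
    have h1 : Nat.card K ≠ 0 := by
      rw [F.cardR]
      exact Nat.card_pos.ne'
    exact (Nat.card_ne_zero.1 h1).2
  have hi : Function.Injective (fun a : lam => φ a) := by
    intro a b hab
    have hab' : φ (a : M) = φ (b : M) := hab
    have h1 : φ ((a : M) * (b : M)⁻¹) = 1 := by
      rw [map_mul, map_inv, hab', mul_inv_cancel]
    exact Subtype.ext (mul_inv_eq_one.1 (hinj _ (mul_mem a.2 (inv_mem b.2)) h1))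
  have hb2 := (Function.Injective.bijective_of_nat_card_le hi (by rw [F.cardR])).2
  apply hD
  rw [eq_top_iff]
  intro k _
  obtain ⟨a, rfl⟩ := hb2 k
  exact h a a.2

end abs

variable {G X L : Type*} [Group G] [MulAction G X] [MulAction G L]
variable {inc : X → L → Prop} {R W : X → Subgroup G} {V : L → Subgroup G} {s t n : ℕ}
variable {H M K : Type*} [Group H] [CommGroup M] [MulDistribMulAction H M] [CommGroup K]
variable {p q r : X} {l : L} {f h : G}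
variable {Sy : Subgroup G} {ρ : G → H} {π : G → M} {ζ : K →* G} {T : Subgroup H} {lam U : Subgroup M}
  {Kh : Subgroup (M →* K)}

section geo

variable (D : Geom inc R W V s t) (F : RD inc R W V p l Sy ρ π ζ T lam U Kh)
include D F

/-- every element of `lam` is the image of an element of `R_r` -/
theorem exists_pre (hr : inc r l) (hrp : r ≠ p) {a : M} (ha : a ∈ lam) : ∃ v ∈ R r, π v = a := by
  obtain ⟨v, hv, rfl⟩ := (F.mlam a).1 ha
  obtain ⟨z, hz, v', hv', rfl⟩ := F.line r hr hrp v hv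
  refine ⟨v', hv', ?_⟩
  have hzW : z ∈ W p := D.R_le_W p hz
  have hvW : v' ∈ W p := D.V_le p l F.pl (D.R_le r l hr hv')
  rw [F.re.pmul z hzW v' hvW, (F.re.pker z hzW).2 hz, one_mul]

/-- `π(R_{g r}) ≤ ρ g • lam` for `g ∈ C_G(R_p)` -/
theorem pi_mem (hr : inc r l) {g : G} (hg : g ∈ centralizer (R p : Set G)) {v : G} (hv : v ∈ R (g • r)) :
    ∃ a ∈ lam, π v = ρ g • a := by
  have h1 : g⁻¹ * v * g ∈ R r := (D.R_smul_iff g).1 hv
  have h2 : g⁻¹ * v * g ∈ V l := D.R_le r l hr h1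
  have h3 : g⁻¹ * v * g ∈ W p := D.V_le p l F.pl h2
  refine ⟨π (g⁻¹ * v * g), (F.mlam _).2 ⟨_, h2, rfl⟩, ?_⟩
  rw [← F.re.act g hg _ h3]
  congr 1
  group

end geo

namespace Bad

variable (D : Geom inc R W V s t) (b : Free.Bad inc R W n p q r l f h)
  (F : RD inc R W V p l Sy ρ π ζ T lam U Kh)
include D b F

omit D in
theorem h_cent : h ∈ centralizer (R p : Set G) := mem_centralizer_iff.2 fun z hz => (b.hc z hz).symm

/-- **`W_x ∩ W_{x'} ≤ W_e`, `e ∼ p` implies `π(R_e) ≤ P⁺`.** -/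
theorem mem_PP {N : Subgroup M} (hN : Dl Kh N) {e : X} {m : L} (he : inc e m) (hp : inc p m) (hep : e ≠ p)
    (hY : ∀ y ∈ W (h • r), y ∈ W (f • h • r) → y ∈ W e) {a : G} (ha : a ∈ R e) : π a ∈ PP (ρ h) lam N := by
  by_contra hcon
  obtain ⟨D', hD', hdual⟩ := hN
  obtain ⟨φ, hφ, h1, h2⟩ := hdual (PP (ρ h) lam N) (N_le_PP _ _ _) _ hcon
  obtain ⟨k, hk, hk2⟩ := F.kh φ hφ
  have hkp : ∀ z ∈ R p, k * z = z * k := fun z hz => (mem_centralizer_iff.1 hk z hz).symm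
  have hInK : InK R W p k := ⟨hkp, fun w hw => by
    rw [hk2 w hw]
    exact (F.ran _).2 ⟨_, rfl⟩⟩
  have hcomm : ∀ w ∈ W p, φ (π w) = 1 → k * w = w * k := by
    intro w hw h3
    have h4 := hk2 w hw
    rw [h3, map_one, mul_inv_eq_one, mul_inv_eq_iff_eq_mul] at h4
    exact h4
  have hhc := h_cent b F
  have hhc' : h⁻¹ ∈ centralizer (R p : Set G) := inv_mem hhc
  -- `φ` on `ρ h • lam`, `ρ h⁻¹ • lam`
  have key : ∀ g : H, (∀ a ∈ lam, g • a ∈ PP (ρ h) lam N) → ∀ a ∈ lam, φ (g • a) = 1 := by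
    intro g hg
    obtain ⟨ψ, hψ, h3⟩ := F.flag.kh φ hφ g
    have h4 := eq_one_of_le F.flag hψ hD' (fun a ha => by rw [h3]; exact h1 _ (hg a ha))
    intro a ha
    rw [← h3]
    exact h4 a ha
  have kx : ∀ v ∈ R (h • r), k * v = v * k := by
    intro v hv
    obtain ⟨c, hc, e1⟩ := pi_mem D F b.rl hhc hv
    refine hcomm v (b.xW D hv) ?_
    rw [e1]
    exact key _ (fun a ha => smul_mem_PP ha) c hc
  have kx' : ∀ v ∈ R (f • h • r), k * v = v * k := by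
    intro v hv
    have hv' := hv
    rw [b.fx_eq D] at hv'
    obtain ⟨c, hc, e1⟩ := pi_mem D F b.rl hhc' hv'
    refine hcomm v (b.x'W D hv) ?_
    rw [e1, F.re.inv hhc]
    exact key _ (fun a ha => inv_smul_mem_PP ha) c hc
  have h5 := b.cent_of D he hp hep hY hInK kx kx' ha
  have h6 : a ∈ W p := D.V_le p m hp (D.R_le e m he ha)
  have h7 := hk2 a h6
  rw [h5, mul_inv_cancel_right, mul_inv_cancel] at h7
  have h8 : φ (π a) = 1 := F.inj (by rw [map_one]; exact h7.symm)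
  exact h2 (by rw [h8]; exact one_mem _)

/-- `lam ≤ P⁺` -/
theorem lam_le {N : Subgroup M} (hN : Dl Kh N) : lam ≤ PP (ρ h) lam N := by
  intro a ha
  obtain ⟨v, hv, rfl⟩ := exists_pre D F b.rl b.ne ha
  exact mem_PP D b F hN b.rl b.pl b.ne (fun y h1 h2 => (b.Y_mem D h1 h2).1) hv

/-- `π(R_{g e})` for `g` centralising `Y` and `R_p` -/
theorem smul_mem {N : Subgroup M} (hN : Dl Kh N) {e : X} {m : L} (he : inc e m) (hp : inc p m) (hep : e ≠ p)
    (hY : ∀ y ∈ W (h • r), y ∈ W (f • h • r) → y ∈ W e) {g : G} (hg : g ∈ centralizer (R p : Set G))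
    (hgY : ∀ y ∈ W (h • r), y ∈ W (f • h • r) → g * y = y * g) {v : G} (hv : v ∈ R e) :
    ρ g • π v ∈ PP (ρ h) lam N := by
  have hgp : g • p = p := Four.fix_p D hg
  have hvW : v ∈ W p := D.V_le p m hp (D.R_le e m he hv)
  rw [← F.re.act g hg v hvW]
  have h1 : inc p (g • m) := by
    have := D.inc_smul g _ _ hp
    rwa [hgp] at this
  refine mem_PP D b F hN (D.inc_smul g _ _ he) h1 ?_ ?_ (D.R_smul g e v hv)
  · intro h2
    rw [← hgp] at h2
    exact hep (smul_left_cancel g h2)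
  · intro y h2 h3
    have h4 := D.W_smul g e y (hY y h2 h3)
    rwa [hgY y h2 h3, mul_inv_cancel_right] at h4

/-- an element `g` centralising `Y` and `R_p` normalises `P⁺` -/
theorem inv_of {N : Subgroup M} (hN : Dl Kh N) (hNH : ∀ k : H, ∀ m ∈ N, k • m ∈ N) {g : G}
    (hg : g ∈ centralizer (R p : Set G)) (hgY : ∀ y ∈ W (h • r), y ∈ W (f • h • r) → g * y = y * g) :
    ∀ m ∈ PP (ρ h) lam N, ρ g • m ∈ PP (ρ h) lam N := by
  have hhc := h_cent b F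
  have hhc' : h⁻¹ ∈ centralizer (R p : Set G) := inv_mem hhc
  refine PP_inv ?_ ?_ (hNH _)
  · intro a ha
    obtain ⟨v, hv, rfl⟩ := exists_pre D F b.rl b.ne ha
    have hvW : v ∈ W p := D.V_le p l b.pl (D.R_le r l b.rl hv)
    rw [← F.re.act h hhc v hvW]
    exact smul_mem D b F hN (b.xm D) (b.px D) (b.x_ne D) (fun y h1 _ => h1) hg hgY (D.R_smul h r v hv)
  · intro a ha
    obtain ⟨v, hv, rfl⟩ := exists_pre D F b.rl b.ne ha
    have hvW : v ∈ W p := D.V_le p l b.pl (D.R_le r l b.rl hv)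
    rw [← F.re.inv hhc, ← F.re.act h⁻¹ hhc' v hvW]
    refine smul_mem D b F hN (b.xm' D) (b.px' D) (b.x'_ne D) (fun y _ h2 => h2) hg hgY ?_
    rw [b.fx_eq D]
    exact D.R_smul h⁻¹ r v hv

/-- **`P⁺` is invariant under `ρ(W_q)`.** -/
theorem inv_W {N : Subgroup M} (hN : Dl Kh N) (hNH : ∀ k : H, ∀ m ∈ N, k • m ∈ N) {g : G} (hg : g ∈ W q) :
    ∀ m ∈ PP (ρ h) lam N, ρ g • m ∈ PP (ρ h) lam N := by
  refine inv_of D b F hN hNH ?_ fun y h1 h2 => b.com g hg y (b.Y_mem D h1 h2).1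
  exact mem_centralizer_iff.2 fun z hz => (b.com g hg z (D.V_le r l b.rl (D.R_le p l b.pl hz))).symm

/-- **`P⁺` is invariant under `ρ h`.** -/
theorem inv_h {N : Subgroup M} (hN : Dl Kh N) (hNH : ∀ k : H, ∀ m ∈ N, k • m ∈ N) :
    ∀ m ∈ PP (ρ h) lam N, ρ h • m ∈ PP (ρ h) lam N :=
  inv_of D b F hN hNH (h_cent b F) fun _ h1 h2 => (b.Y_mem D h1 h2).2.1

end Bad

/-- **(2a)**: the mover of `f ∈ W_q`, `ρ f ≠ 1`, and its plane `P⁺ / N⁺`. -/
theorem exists_plane [Finite G] (D : Geom inc R W V s t) (F : RD inc R W V p l Sy ρ π ζ T lam U Kh)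
    (hc : Crit inc W n p q) (hn : 1 ≤ n) (hnd : ¬ DP inc W p q) (hrl : inc r l) (hwk : Walk inc (n - 1) r q)
    {N : Subgroup M} (hN : Dl Kh N) (hNH : ∀ k : H, ∀ m ∈ N, k • m ∈ N) {f : G} (hf : f ∈ W q) (hf1 : ρ f ≠ 1) :
    ∃ h : H, h ≠ 1 ∧ Odd (orderOf h) ∧ ρ f * h * (ρ f)⁻¹ = h⁻¹ ∧ lam ≤ PP h lam N ∧
      (∀ g ∈ W q, ∀ m ∈ PP h lam N, ρ g • m ∈ PP h lam N) ∧ ∀ m ∈ PP h lam N, h • m ∈ PP h lam N := by
  obtain ⟨h, hh, ho, hi, hne, -, hmv, -⟩ := exists_mover_crit D F hc hn hrl hwk hf hf1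
  have hhz : ∀ z ∈ R p, h * z = z * h := fun z hz => (mem_centralizer_iff.1 hh z hz).symm
  have hrp : r ≠ p := by
    rintro rfl
    exact hc.not_walk (by omega) hwk
  have hfc : f ∈ centralizer (R p : Set G) :=
    mem_centralizer_iff.2 fun z hz => (hc.symm.comm_R D hn hf hz).symm
  have hhp : h • p = p := Four.fix_p D hh
  have b : Free.Bad inc R W n p q r l f h :=
    { crit := hc, pos := hn, pl := F.pl, rl := hrl, wk := hwk, hf := hf, hc := hhz, odd := ho, inv := hi, mv := hmv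
      nd := fun h1 => hnd ⟨h • r, h • l, f, D.inc_smul h _ _ hrl, by
        have := D.inc_smul h _ _ F.pl
        rwa [hhp] at this, hf, hmv, h1⟩ }
  refine ⟨ρ h, hne, ?_, ?_, Bad.lam_le D b F hN, fun g hg => Bad.inv_W D b F hN hNH hg, Bad.inv_h D b F hN hNH⟩
  · -- the order of `ρ h` is odd
    have h1 : ρ h ^ orderOf h = 1 := by
      rw [← rho_pow F.toRF F.flag hh, pow_orderOf_eq_one, F.re.one]
    exact Odd.of_dvd_nat ho (orderOf_dvd_of_pow_eq_one h1)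
  · rw [← F.re.conj hfc hh, hi, F.re.inv hh]

end Cfsg.Agent.Omega.NO3S.FullQ

end

section


/-!
# FullB, `q ≥ 4`, class P: the `g`-trick, group part (helper298 #21966, (3.1), (3.2))

`b : Free.Bad inc R W n p q r l f h` (a mover without (D)), `x = h r`, `x' = f h r = h⁻¹ r`.

* `Bad.rigid` : `g` centralising `R_x`, `R_{x'}` with `[g, u] ∈ R_p` (`u ∈ R_r`) centralises `u`;
* `exists_phi` : `g ∈ C_G(R_p)` with `[g, R_r] ≤ R_p`: `[g, v] = ζ (φ (π v))` on `R_r` for some `φ ∈ Kh`; `exists_phi'` on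
  the conjugate line;
* `Two Kh N lam h` : elements of `Kh` can be prescribed on `h lam` and `h⁻¹ lam`, trivially on `N`;
* `Bad.cent` : `g ∈ C_G(R_p)` fixing `π u` (`u ∈ R_r`) and `h lam`, `h⁻¹ lam` pointwise centralises `u v v'` for `v ∈ R_x`,
  `v' ∈ R_{x'}` with `π (u v v') ∈ N`;
* `Ls inc R W n p` : `⟨W_{q'} : (p, q') critical⟩`; `Ls_cent`.
-/

set_option autoImplicit false
set_option linter.unusedSectionVars false

namespace Cfsg.Agent.Omega.NO3S.FullQ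

open Subgroup Cfsg Cfsg.Agent.ZN Cfsg.Agent.MinSimple.VModule Cfsg.Agent.Omega.NOThree.Pts
open Cfsg.Agent.Omega.NO3S.FarQ Cfsg.Agent.Omega.NO3S.FarQ.Glue Cfsg.Agent.Omega.NO3S.FarQ.Free

variable {G X L : Type*} [Group G] [MulAction G X] [MulAction G L]
variable {inc : X → L → Prop} {R W : X → Subgroup G} {V : L → Subgroup G} {s t n : ℕ}
variable {H M K : Type*} [Group H] [CommGroup M] [MulDistribMulAction H M] [CommGroup K]
variable {p q r : X} {l : L} {f h : G}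
variable {Sy : Subgroup G} {ρ : G → H} {π : G → M} {ζ : K →* G} {T : Subgroup H} {lam U : Subgroup M}
  {Kh : Subgroup (M →* K)}

/-- `[g z v] ` etc.: `g` centralising `R_p` and two elements with difference in `R_p` -/
theorem commute_of_mem {p x : X} (D : Geom inc R W V s t) (hxp : x ≠ p) {g u : G} (h1 : g * u * g⁻¹ * u⁻¹ ∈ R x)
    (h2 : g * u * g⁻¹ * u⁻¹ ∈ R p) : g * u = u * g := by
  by_contra h3
  refine hxp (D.ti x p _ h1 h2 fun e => h3 ?_)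
  rw [mul_inv_eq_one, mul_inv_eq_iff_eq_mul] at e
  exact e

/-- **Rigidity**: `g` centralises `R_x`, `R_{x'}` and `[g, u] ∈ R_p` for some `u ∈ R_r`; then `g` centralises `u`. -/
theorem Bad.rigid (D : Geom inc R W V s t) (b : Free.Bad inc R W n p q r l f h) {g u : G}
    (h1 : ∀ a ∈ R (h • r), g * a = a * g) (h2 : ∀ a ∈ R (f • h • r), g * a = a * g) (hu : u ∈ R r)
    (hgu : g * u * g⁻¹ * u⁻¹ ∈ R p) : g * u = u * g := by
  by_cases hu1 : u = 1
  · rw [hu1, mul_one, one_mul]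
  have hnd := b.nd
  push Not at hnd
  obtain ⟨y, y1, y2, y3⟩ := hnd
  have k1 : g • (h • r) = h • r := D.fix_of_centralizes h1
  have k2 : g • (f • h • r) = f • h • r := D.fix_of_centralizes h2
  have k1' : g⁻¹ • (h • r) = h • r := by rw [inv_smul_eq_iff, k1]
  have k2' : g⁻¹ • (f • h • r) = f • h • r := by rw [inv_smul_eq_iff, k2]
  have y4 : g⁻¹ * y * g ∈ W r := by
    have a1 := D.norm_W k1' y1
    have a2 := D.norm_W k2' y2
    rw [inv_inv] at a1 a2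
    exact (b.Y_mem D a1 a2).1
  have y5 : y ∈ W (g • r) := (D.W_smul_iff g).2 y4
  have hgr : inc (g • r) l := by
    have h3 : g * u * g⁻¹ ∈ R (g • r) := D.R_smul g r u hu
    have h4 : g * u * g⁻¹ ∈ V l := by
      have h5 := mul_mem (D.R_le p l b.pl hgu) (D.R_le r l b.rl hu)
      rwa [inv_mul_cancel_right] at h5
    refine on_line D h3 (fun h5 => hu1 ?_) h4
    calc u = g⁻¹ * (g * u * g⁻¹) * g := by group
      _ = 1 := by rw [h5]; group
  have hke : g • r = r := by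
    by_contra h5
    have h6 := D.F1 r (g • r) p l b.rl hgr b.pl (Ne.symm h5) b.ne
    have h7 : y ∈ W r ⊓ W (g • r) := ⟨(b.Y_mem D y1 y2).1, y5⟩
    rw [h6] at h7
    exact y3 h7.2
  exact commute_of_mem D b.ne (mul_mem (D.norm_R hke hu) (inv_mem hu)) hgu

/-- `g ∈ C_G(R_p)`, `[g, R_r] ≤ R_p`: on `R_r`, `g` acts as an element of `K_p`. -/
theorem exists_phi (D : Geom inc R W V s t) (F : RD inc R W V p l Sy ρ π ζ T lam U Kh) (hr : inc r l) (hrp : r ≠ p)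
    {g : G} (hg : g ∈ centralizer (R p : Set G)) (hgr : ∀ v ∈ R r, g * v * g⁻¹ * v⁻¹ ∈ R p) :
    ∃ φ ∈ Kh, ∀ v ∈ R r, g * v * g⁻¹ * v⁻¹ = ζ (φ (π v)) := by
  have hrW : R r ≤ W p := (D.R_le r l hr).trans (D.V_le p l F.pl)
  have hgp : g • p = p := Four.fix_p D hg
  have hcg : ∀ z ∈ R p, g * z = z * g := fun z hz => (mem_centralizer_iff.1 hg z hz).symm
  have hgr' : inc (g • r) l := by
    obtain ⟨u, hu, hu1⟩ := D.exists_ne r
    have h3 : g * u * g⁻¹ ∈ R (g • r) := D.R_smul g r u hu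
    have h4 : g * u * g⁻¹ ∈ V l := by
      have h5 := mul_mem (D.R_le p l F.pl (hgr u hu)) (D.R_le r l hr hu)
      rwa [inv_mul_cancel_right] at h5
    refine on_line D h3 (fun h5 => hu1 ?_) h4
    calc u = g⁻¹ * (g * u * g⁻¹) * g := by group
      _ = 1 := by rw [h5]; group
  have hgrp : g • r ≠ p := by
    intro e
    rw [← hgp] at e
    exact hrp (smul_left_cancel g e)
  obtain ⟨k, hk, hk1, hk2⟩ := F.tr r (g • r) hr hrp hgr' hgrp
  have hck : ∀ z ∈ R p, k * z = z * k := fun z hz => (mem_centralizer_iff.1 hk z hz).symm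
  have hKk : InK R W p k := ⟨hck, hk1⟩
  have hkg : (k * g) • r = r := by rw [mul_smul, hk2]
  have hcomm : ∀ v ∈ R r, (k * g) * v = v * (k * g) := by
    intro v hv
    refine commute_of_mem D hrp (mul_mem (D.norm_R hkg hv) (inv_mem hv)) ?_
    have e : k * g * v * (k * g)⁻¹ * v⁻¹ = (k * (g * v * g⁻¹ * v⁻¹) * k⁻¹) * (k * v * k⁻¹ * v⁻¹) := by group
    rw [e, hck _ (hgr v hv), mul_inv_cancel_right]
    exact mul_mem (hgr v hv) (hk1 v (hrW hv))
  have hKi : InK R W p k⁻¹ := (mem_KK).1 (inv_mem ((mem_KK).2 hKk))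
  obtain ⟨φ, hφ, e1⟩ := F.kh' k⁻¹ (inv_mem hk) hKi.low
  refine ⟨φ, hφ, fun v hv => ?_⟩
  rw [← e1 v (hrW hv)]
  have h1 := hcomm v hv
  have h2 : g * v * g⁻¹ = k⁻¹ * v * k⁻¹⁻¹ := by
    calc g * v * g⁻¹ = k⁻¹ * (k * g * v) * g⁻¹ := by group
      _ = k⁻¹ * (v * (k * g)) * g⁻¹ := by rw [h1]
      _ = _ := by group
  rw [h2]

/-- the same on the line `c l`, `c ∈ C_G(R_p)` -/
theorem exists_phi' (D : Geom inc R W V s t) (F : RD inc R W V p l Sy ρ π ζ T lam U Kh) (hr : inc r l) (hrp : r ≠ p)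
    {g c : G} (hg : g ∈ centralizer (R p : Set G)) (hc : c ∈ centralizer (R p : Set G))
    (hgr : ∀ v ∈ R (c • r), g * v * g⁻¹ * v⁻¹ ∈ R p) :
    ∃ φ ∈ Kh, ∀ v ∈ R (c • r), g * v * g⁻¹ * v⁻¹ = ζ (φ (π v)) := by
  have hcc : ∀ z ∈ R p, c * z = z * c := fun z hz => (mem_centralizer_iff.1 hc z hz).symm
  have hrW : R r ≤ W p := (D.R_le r l hr).trans (D.V_le p l F.pl)
  obtain ⟨φ, hφ, h1⟩ := exists_phi D F hr hrp (g := c⁻¹ * g * c) (mul_mem (mul_mem (inv_mem hc) hg) hc) (by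
    intro v hv
    have h2 := hgr _ (D.R_smul c r v hv)
    have e : c⁻¹ * g * c * v * (c⁻¹ * g * c)⁻¹ * v⁻¹ =
        c⁻¹ * (g * (c * v * c⁻¹) * g⁻¹ * (c * v * c⁻¹)⁻¹) * c := by group
    rw [e, mul_assoc, ← hcc _ h2, inv_mul_cancel_left]
    exact h2)
  obtain ⟨ψ, hψ, h3⟩ := F.flag.kh φ hφ (ρ c)⁻¹
  refine ⟨ψ, hψ, fun v hv => ?_⟩
  have hv' : c⁻¹ * v * c ∈ R r := (D.R_smul_iff c).1 hv
  have h4 := h1 _ hv'
  have h5 : π (c⁻¹ * v * c) = (ρ c)⁻¹ • π v := by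
    have h6 := F.re.act c hc _ (hrW hv')
    have e : c * (c⁻¹ * v * c) * c⁻¹ = v := by group
    rw [e] at h6
    rw [h6, inv_smul_smul]
  rw [h5, ← h3] at h4
  have h7 := hgr v hv
  calc g * v * g⁻¹ * v⁻¹ = c⁻¹ * (c * (g * v * g⁻¹ * v⁻¹)) := by group
    _ = c⁻¹ * ((g * v * g⁻¹ * v⁻¹) * c) := by rw [hcc _ h7]
    _ = c⁻¹ * g * c * (c⁻¹ * v * c) * (c⁻¹ * g * c)⁻¹ * (c⁻¹ * v * c)⁻¹ := by group
    _ = ζ (ψ (π v)) := h4

/-- Elements of `Kh` can be prescribed on `h lam` and `h⁻¹ lam`, trivially on `N`. -/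
def Two (Kh : Subgroup (M →* K)) (N lam : Subgroup M) (h : H) : Prop :=
  ∀ φ₁ ∈ Kh, ∀ φ₂ ∈ Kh, ∃ φ ∈ Kh, (∀ a ∈ lam, φ (h • a) = φ₁ (h • a)) ∧ (∀ a ∈ lam, φ (h⁻¹ • a) = φ₂ (h⁻¹ • a)) ∧
    ∀ m ∈ N, φ m = 1

/-- **(3.1)** -/
theorem Bad.cent (D : Geom inc R W V s t) (b : Free.Bad inc R W n p q r l f h)
    (F : RD inc R W V p l Sy ρ π ζ T lam U Kh) {N : Subgroup M} (hT : Two Kh N lam (ρ h)) {g : G}
    (hg : g ∈ centralizer (R p : Set G)) {u v v' : G} (hu : u ∈ R r) (hv : v ∈ R (h • r)) (hv' : v' ∈ R (f • h • r))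
    (hn : π (u * v * v') ∈ N) (h0 : ρ g • π u = π u) (h1 : ∀ a ∈ lam, ρ g • ρ h • a = ρ h • a)
    (h2 : ∀ a ∈ lam, ρ g • (ρ h)⁻¹ • a = (ρ h)⁻¹ • a) : g * (u * v * v') = u * v * v' * g := by
  have hhc := h_cent b F
  have hhc' : h⁻¹ ∈ centralizer (R p : Set G) := inv_mem hhc
  have hrW : R r ≤ W p := (D.R_le r l b.rl).trans (D.V_le p l b.pl)
  have hcg : ∀ z ∈ R p, g * z = z * g := fun z hz => (mem_centralizer_iff.1 hg z hz).symm
  -- `[g, w] ∈ R_p` iff `ρ g` fixes `π w`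
  have key : ∀ w ∈ W p, ρ g • π w = π w → g * w * g⁻¹ * w⁻¹ ∈ R p := by
    intro w hw e
    have hgw : g * w * g⁻¹ ∈ W p := Four.norm_p D hg hw
    rw [← F.re.pker _ (mul_mem hgw (inv_mem hw)), π_comm F.re D hg hw, e, mul_inv_cancel]
  have hx : ∀ w ∈ R (h • r), g * w * g⁻¹ * w⁻¹ ∈ R p := by
    intro w hw
    obtain ⟨a, ha, e⟩ := pi_mem D F b.rl hhc hw
    exact key w (b.xW D hw) (by rw [e]; exact h1 a ha)
  have hx' : ∀ w ∈ R (h⁻¹ • r), g * w * g⁻¹ * w⁻¹ ∈ R p := by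
    intro w hw
    obtain ⟨a, ha, e⟩ := pi_mem D F b.rl hhc' hw
    rw [← b.fx_eq D] at hw
    refine key w (b.x'W D hw) ?_
    rw [e, F.re.inv hhc]
    exact h2 a ha
  obtain ⟨φ₁, hφ₁, e1⟩ := exists_phi' D F b.rl b.ne hg hhc hx
  obtain ⟨φ₂, hφ₂, e2⟩ := exists_phi' D F b.rl b.ne hg hhc' hx'
  obtain ⟨φ, hφ, t1, t2, t3⟩ := hT φ₁ hφ₁ φ₂ hφ₂
  obtain ⟨k, hk, hk2⟩ := F.kh φ hφ
  have hck : ∀ z ∈ R p, k * z = z * k := fun z hz => (mem_centralizer_iff.1 hk z hz).symm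
  have hK : InK R W p k := ⟨hck, fun w hw => by
    rw [hk2 w hw]
    exact (F.ran _).2 ⟨_, rfl⟩⟩
  have hkw : ∀ w ∈ W p, φ (π w) = 1 → k * w = w * k := by
    intro w hw h3
    have h4 := hk2 w hw
    rw [h3, map_one, mul_inv_eq_one, mul_inv_eq_iff_eq_mul] at h4
    exact h4
  -- `k⁻¹ g` centralises `R_x`, `R_{x'}`
  have c1 : ∀ a ∈ R (h • r), k⁻¹ * g * a = a * (k⁻¹ * g) := by
    intro a ha
    obtain ⟨c, hc, e⟩ := pi_mem D F b.rl hhc ha
    have h3 := e1 a ha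
    rw [e, ← t1 c hc, ← e, ← hk2 a (b.xW D ha)] at h3
    have h4 : g * a * g⁻¹ = k * a * k⁻¹ := mul_right_cancel h3
    calc k⁻¹ * g * a = k⁻¹ * (g * a * g⁻¹) * g := by group
      _ = k⁻¹ * (k * a * k⁻¹) * g := by rw [h4]
      _ = a * (k⁻¹ * g) := by group
  have c2 : ∀ a ∈ R (f • h • r), k⁻¹ * g * a = a * (k⁻¹ * g) := by
    intro a ha
    have ha' := ha
    rw [b.fx_eq D] at ha'
    obtain ⟨c, hc, e⟩ := pi_mem D F b.rl hhc' ha'
    rw [F.re.inv hhc] at e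
    have h3 := e2 a ha'
    rw [e, ← t2 c hc, ← e, ← hk2 a (b.x'W D ha)] at h3
    have h4 : g * a * g⁻¹ = k * a * k⁻¹ := mul_right_cancel h3
    calc k⁻¹ * g * a = k⁻¹ * (g * a * g⁻¹) * g := by group
      _ = k⁻¹ * (k * a * k⁻¹) * g := by rw [h4]
      _ = a * (k⁻¹ * g) := by group
  have c3 : k⁻¹ * g * u = u * (k⁻¹ * g) := by
    refine Bad.rigid D b c1 c2 hu ?_
    have h3 := key u (hrW hu) h0
    have hKi : InK R W p k⁻¹ := (mem_KK).1 (inv_mem ((mem_KK).2 hK))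
    have h4 := hKi.low u (hrW hu)
    have e : k⁻¹ * g * u * (k⁻¹ * g)⁻¹ * u⁻¹ = (k⁻¹ * (g * u * g⁻¹ * u⁻¹) * k⁻¹⁻¹) * (k⁻¹ * u * k⁻¹⁻¹ * u⁻¹) := by
      group
    rw [e, hKi.cent _ h3, mul_inv_cancel_right]
    exact mul_mem h3 h4
  have c4 : k⁻¹ * g * (u * v * v') = u * v * v' * (k⁻¹ * g) := by
    calc k⁻¹ * g * (u * v * v') = (k⁻¹ * g * u) * v * v' := by group
      _ = u * (k⁻¹ * g * v) * v' := by rw [c3]; group
      _ = u * v * (k⁻¹ * g * v') := by rw [c1 v hv]; group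
      _ = _ := by rw [c2 v' hv']; group
  have c5 : k * (u * v * v') = u * v * v' * k :=
    hkw _ (mul_mem (mul_mem (hrW hu) (b.xW D hv)) (b.x'W D hv')) (t3 _ hn)
  calc g * (u * v * v') = k * (k⁻¹ * g * (u * v * v')) := by group
    _ = k * (u * v * v' * (k⁻¹ * g)) := by rw [c4]
    _ = (k * (u * v * v')) * (k⁻¹ * g) := by group
    _ = u * v * v' * g := by rw [c5]; group

/-! ### `L̂ = ⟨W_{q'} : (p, q') critical⟩` -/

/-- `⟨W_{q'} : (p, q') critical⟩` -/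
def Ls (inc : X → L → Prop) (W : X → Subgroup G) (n : ℕ) (p : X) : Subgroup G :=
  closure {f | ∃ q', Crit inc W n p q' ∧ f ∈ W q'}

theorem Ls_le (D : Geom inc R W V s t) (hn : 1 ≤ n) : Ls inc W n p ≤ centralizer (R p : Set G) := by
  rw [Ls, closure_le]
  rintro f ⟨q', hc, hf⟩
  exact mem_centralizer_iff.2 fun z hz => (hc.symm.comm_R D hn hf hz).symm

theorem W_le_Ls (hc : Crit inc W n p q) : W q ≤ Ls inc W n p := fun _ hf => subset_closure ⟨q, hc, hf⟩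

/-- an element which commutes with all `W_{q'}` commutes with `L̂` -/
theorem Ls_cent {w : G} (h : ∀ q', Crit inc W n p q' → ∀ f ∈ W q', f * w = w * f) {y : G} (hy : y ∈ Ls inc W n p) :
    y * w = w * y := by
  have h1 : Ls inc W n p ≤ centralizer {w} := by
    rw [Ls, closure_le]
    rintro f ⟨q', hc, hf⟩
    exact mem_centralizer_singleton_iff.2 (h q' hc f hf)
  exact mem_centralizer_singleton_iff.1 (h1 hy)

/-- `L̂` is normalised by `C_G(R_p)` -/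
theorem Ls_conj (D : Geom inc R W V s t) {g : G} (hg : g ∈ centralizer (R p : Set G)) {y : G} (hy : y ∈ Ls inc W n p) :
    g * y * g⁻¹ ∈ Ls inc W n p := by
  have hgp : g • p = p := Four.fix_p D hg
  have h1 : Ls inc W n p ≤ (Ls inc W n p).comap (MulAut.conj g).toMonoidHom := by
    conv_lhs => rw [Ls]
    rw [closure_le]
    rintro f ⟨q', hc, hf⟩
    refine subset_closure ⟨g • q', ?_, D.W_smul g q' f hf⟩
    have h2 := hc.smul D g
    rwa [hgp] at h2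
  exact h1 hy

end Cfsg.Agent.Omega.NO3S.FullQ

end

section


/-!
# NO-3S, `FullB`, `q ≥ 4`, class P, every `n ≥ 2` (helper298 #21966, helper983 #22167): transitivity (TR), any dimension

`H` acts `F`-linearly on `Q`, `L ⊴ H`, characteristic 2.
* `Ph L a` : the functionals `φ` with `φ a = 0` and `1 + c φ ⊗ a` induced by `L` for all `c`;
* `mem_of` : `φ ∈ Φ_a`, `φ b = 0`, `ψ ∈ Φ_b`, `ψ a ≠ 0` ⟹ `φ ∈ Φ_b`;
* `symm` : `Φ_a` moves `b` ⟹ `Φ_b` moves `a` (`a`, `b` conjugate);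
* **`exists_fix`** : a 2-element `t` fixing `v`; `Φ_v` moves `u ∈ H v` ⟹ some `y ∈ L` fixes `v` and `y u = t u`.
-/

set_option autoImplicit false

namespace Cfsg.Agent.Omega.NO3S.FullQ.TR

variable {F Q H : Type*} [Field F] [AddCommGroup Q] [Module F Q] [Group H] [DistribMulAction H Q]
  [SMulCommClass H F Q]

theorem add_self [CharP F 2] (v : Q) : v + v = 0 := by
  have h : ((1 : F) + 1) • v = 0 := by rw [CharTwo.add_self_eq_zero, zero_smul]
  rwa [add_smul, one_smul] at h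

variable (F) in
/-- the functionals of the transvections with centre `a` in `L` (all the multiples) -/
def Ph (L : Subgroup H) (a : Q) : Submodule F (Q →ₗ[F] F) where
  carrier := {φ | φ a = 0 ∧ ∀ c : F, ∃ h ∈ L, ∀ v : Q, h • v = v + (c * φ v) • a}
  zero_mem' := ⟨rfl, fun c => ⟨1, one_mem _, fun v => by
    rw [one_smul, LinearMap.zero_apply, mul_zero, zero_smul, add_zero]⟩⟩
  add_mem' := by
    rintro φ ψ ⟨h1, h2⟩ ⟨h3, h4⟩
    refine ⟨by rw [LinearMap.add_apply, h1, h3, add_zero], fun c => ?_⟩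
    obtain ⟨x, hx, hx'⟩ := h2 c
    obtain ⟨y, hy, hy'⟩ := h4 c
    refine ⟨x * y, mul_mem hx hy, fun v => ?_⟩
    rw [mul_smul, hy', hx', map_add, map_smul, h1, smul_zero, add_zero, LinearMap.add_apply, mul_add, add_smul]
    abel
  smul_mem' := by
    rintro d φ ⟨h1, h2⟩
    refine ⟨by rw [LinearMap.smul_apply, h1, smul_zero], fun c => ?_⟩
    obtain ⟨x, hx, hx'⟩ := h2 (c * d)
    refine ⟨x, hx, fun v => ?_⟩
    rw [hx', LinearMap.smul_apply, smul_eq_mul, mul_assoc]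

omit [SMulCommClass H F Q] in
theorem mem_Ph {L : Subgroup H} {a : Q} {φ : Q →ₗ[F] F} :
    φ ∈ Ph F L a ↔ φ a = 0 ∧ ∀ c : F, ∃ h ∈ L, ∀ v : Q, h • v = v + (c * φ v) • a := Iff.rfl

variable (F Q) in
/-- `g` as a linear equivalence -/
def lin (g : H) : Q ≃ₗ[F] Q := DistribMulAction.toLinearEquiv F Q g

theorem lin_apply (g : H) (v : Q) : lin F Q g v = g • v := rfl

theorem comp_mem {L : Subgroup H} [hL : L.Normal] {a : Q} {φ : Q →ₗ[F] F} (hφ : φ ∈ Ph F L a) (g : H) :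
    φ ∘ₗ (lin F Q g : Q →ₗ[F] Q) ∈ Ph F L (g⁻¹ • a) := by
  refine ⟨?_, fun c => ?_⟩
  · rw [LinearMap.comp_apply, LinearEquiv.coe_coe, lin_apply, smul_inv_smul, hφ.1]
  · obtain ⟨x, hx, hx'⟩ := hφ.2 c
    refine ⟨g⁻¹ * x * g, ?_, fun v => ?_⟩
    · have := hL.conj_mem x hx g⁻¹
      rwa [inv_inv] at this
    · rw [mul_smul, mul_smul, hx', smul_add, inv_smul_smul, smul_comm g⁻¹, LinearMap.comp_apply,
        LinearEquiv.coe_coe, lin_apply]

theorem finrank_eq {L : Subgroup H} [hL : L.Normal] (a : Q) (g : H) :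
    Module.finrank F (Ph F L (g • a)) = Module.finrank F (Ph F L a) := by
  let e : (Q →ₗ[F] F) ≃ₗ[F] (Q →ₗ[F] F) := LinearEquiv.congrLeft F F (lin F Q g)
  have he : ∀ φ : Q →ₗ[F] F, e φ = φ ∘ₗ (lin F Q g⁻¹ : Q →ₗ[F] Q) := by
    intro φ
    ext v
    rfl
  have h1 : (Ph F L a).map (e : (Q →ₗ[F] F) →ₗ[F] (Q →ₗ[F] F)) = Ph F L (g • a) := by
    apply le_antisymm
    · rintro _ ⟨φ, hφ, rfl⟩
      have := comp_mem hφ g⁻¹
      rw [inv_inv] at this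
      rw [LinearEquiv.coe_coe, he]
      exact this
    · intro φ hφ
      refine ⟨φ ∘ₗ (lin F Q g : Q →ₗ[F] Q), ?_, ?_⟩
      · have := comp_mem hφ g
        rwa [inv_smul_smul] at this
      · rw [LinearEquiv.coe_coe, he]
        ext v
        rw [LinearMap.comp_apply, LinearMap.comp_apply, LinearEquiv.coe_coe, LinearEquiv.coe_coe, lin_apply, lin_apply,
          smul_inv_smul]
  rw [← h1]
  exact (LinearEquiv.finrank_map_eq e _)

variable [CharP F 2]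

/-- the inverse of a transvection -/
theorem inv_tv {a : Q} {φ : Q →ₗ[F] F} {c : F} (h1 : φ a = 0) {x : H} (hx : ∀ v : Q, x • v = v + (c * φ v) • a)
    (v : Q) : x⁻¹ • v = v + (c * φ v) • a := by
  rw [inv_smul_eq_iff, smul_add, hx, smul_comm x, hx a, h1, mul_zero, zero_smul, add_zero, add_assoc,
    add_self (F := F), add_zero]

/-- **(i)** -/
theorem mem_of {L : Subgroup H} [hL : L.Normal] {a b : Q} {φ ψ : Q →ₗ[F] F} (hφ : φ ∈ Ph F L a) (hb : φ b = 0)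
    (hψ : ψ ∈ Ph F L b) (ha : ψ a ≠ 0) : φ ∈ Ph F L b := by
  refine ⟨hb, fun c => ?_⟩
  obtain ⟨h, hh, hh'⟩ := hφ.2 (c / ψ a)
  obtain ⟨s, hs, hs'⟩ := hψ.2 1
  refine ⟨s * h * s⁻¹ * h, mul_mem (hL.conj_mem h hh s) hh, fun x => ?_⟩
  have hs2 := fun v => inv_tv hψ.1 hs' v
  obtain ⟨d, hd⟩ : ∃ d, c / ψ a = d := ⟨_, rfl⟩
  have hc : c = d * ψ a := by rw [← hd, div_mul_cancel₀ _ ha]
  rw [hd] at hh'
  simp only [one_mul] at hs' hs2
  obtain ⟨y, hy⟩ : ∃ y, y = x + (d * φ x) • a := ⟨_, rfl⟩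
  have e1 : φ y = φ x := by rw [hy, map_add, map_smul, hφ.1, smul_zero, add_zero]
  have e2 : φ (y + ψ y • b) = φ x := by rw [map_add, map_smul, hb, smul_zero, add_zero, e1]
  have e3 : ψ (y + ψ y • b + (d * φ x) • a) = ψ y + d * φ x * ψ a := by
    rw [map_add, map_add, map_smul, map_smul, hψ.1, smul_zero, add_zero, smul_eq_mul]
  rw [mul_smul, mul_smul, mul_smul, hh' x, ← hy, hs2 y, hh' (y + ψ y • b), e2, hs', e3, add_smul]
  have e4 : y + ψ y • b + (d * φ x) • a + (ψ y • b + (d * φ x * ψ a) • b) =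
      y + (d * φ x) • a + (ψ y • b + ψ y • b) + (d * φ x * ψ a) • b := by abel
  rw [e4, add_self (F := F), add_zero, hy, add_assoc x, add_self (F := F), add_zero, hc]
  congr 2
  ring

theorem symm [FiniteDimensional F Q] {L : Subgroup H} [hL : L.Normal] {a b : Q} {g : H} (hg : g • a = b)
    (h : ∃ φ ∈ Ph F L a, φ b ≠ 0) : ∃ ψ ∈ Ph F L b, ψ a ≠ 0 := by
  by_contra hcon
  push Not at hcon
  obtain ⟨φ, hφ, hb⟩ := h
  have h1 : Ph F L b ≤ Ph F L a := fun ψ hψ => mem_of hψ (hcon ψ hψ) hφ hb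
  have h2 : Ph F L b = Ph F L a := Submodule.eq_of_le_of_finrank_eq h1 (by rw [← hg, finrank_eq])
  rw [← h2] at hφ
  exact hb hφ.1

/-- the step: `u`, `u'` joined to `v` and to each other, evaluations not proportional with a factor `≠ 1` -/
theorem step [FiniteDimensional F Q] {L : Subgroup H} [hL : L.Normal] {v u u' : Q} {g g' : H} (hg : g • v = u)
    (hg' : g' • v = u') (hvu : ∃ φ ∈ Ph F L v, φ u ≠ 0) (huu : ∃ φ ∈ Ph F L u, φ u' ≠ 0)
    (hc : ∀ c : F, (∀ φ ∈ Ph F L v, φ u' = c * φ u) → c = 1) : ∃ y ∈ L, y • v = v ∧ y • u = u' := by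
  obtain ⟨ψ0, hψ0, hψ1⟩ := huu
  obtain ⟨s, hs, hs'⟩ := hψ0.2 (ψ0 u')⁻¹
  have hw : s • u' = u' + u := by rw [hs', inv_mul_cancel₀ hψ1, one_smul]
  obtain ⟨w, hwd⟩ : ∃ w, w = u' + u := ⟨_, rfl⟩
  have hgw : (s * g') • v = w := by rw [mul_smul, hg', hw, hwd]
  have hsu : s • u = u := by rw [hs', hψ0.1, mul_zero, zero_smul, add_zero]
  -- `w` joined to `u`
  have hwu : ∃ ψ ∈ Ph F L w, ψ u ≠ 0 := by
    have h1 : ∃ ψ ∈ Ph F L u', ψ u ≠ 0 :=
      symm (g := g' * g⁻¹) (by rw [mul_smul, ← hg, inv_smul_smul, hg']) ⟨ψ0, hψ0, hψ1⟩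
    obtain ⟨ψ, hψ, hψu⟩ := h1
    refine ⟨_, by simpa only [inv_inv, hw, ← hwd] using comp_mem hψ s⁻¹, ?_⟩
    rw [LinearMap.comp_apply, LinearEquiv.coe_coe, lin_apply, inv_smul_eq_iff.2 hsu.symm]
    exact hψu
  by_cases hcase : ∃ ψ ∈ Ph F L w, ψ v = 0 ∧ ψ u ≠ 0
  · obtain ⟨ψ, hψ, h1, h2⟩ := hcase
    obtain ⟨y, hy, hy'⟩ := hψ.2 (ψ u)⁻¹
    refine ⟨y, hy, by rw [hy', h1, mul_zero, zero_smul, add_zero], ?_⟩
    rw [hy', inv_mul_cancel₀ h2, one_smul, hwd, add_comm u' u, ← add_assoc, add_self (F := F), zero_add]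
  · exfalso
    push Not at hcase
    obtain ⟨ψ, hψ, hψu⟩ := hwu
    have hψv : ψ v ≠ 0 := fun e => hψu (hcase ψ hψ e)
    have hvw : ∃ φ ∈ Ph F L v, φ w ≠ 0 :=
      symm (g := (s * g')⁻¹) (by rw [← hgw, inv_smul_smul]) ⟨ψ, hψ, hψv⟩
    have hth : ∀ φ ∈ Ph F L v, φ w = 0 → φ u = 0 := fun φ hφ h =>
      hcase φ (mem_of hφ h hψ hψv) hφ.1
    obtain ⟨φ0, hφ0, hw0⟩ := hvw
    have hpr : ∀ φ ∈ Ph F L v, φ u = φ0 u / φ0 w * φ w := by
      intro φ hφ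
      have h1 := hth (φ - (φ w / φ0 w) • φ0) (Submodule.sub_mem _ hφ (Submodule.smul_mem _ _ hφ0))
        (by rw [LinearMap.sub_apply, LinearMap.smul_apply, smul_eq_mul, div_mul_cancel₀ _ hw0, sub_self])
      rw [LinearMap.sub_apply, LinearMap.smul_apply, smul_eq_mul, sub_eq_zero] at h1
      rw [h1]
      field_simp
    have hk0 : φ0 u ≠ 0 := by
      obtain ⟨φ, hφ, h1⟩ := hvu
      intro e
      apply h1
      rw [hpr φ hφ, e, zero_div, zero_mul]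
    have h3 := hc (1 + φ0 w / φ0 u) (fun φ hφ => by
      have h1 := hpr φ hφ
      have h2 : φ u' = φ w + φ u := by
        rw [hwd, map_add, add_assoc, CharTwo.add_self_eq_zero, add_zero]
      rw [h2, h1]
      field_simp
      ring)
    have h4 : φ0 w / φ0 u = 0 := by
      have := h3
      rwa [add_eq_left] at this
    rw [div_eq_zero_iff] at h4
    exact h4.elim hw0 hk0

/-- **(TR)** -/
theorem exists_fix [FiniteDimensional F Q] {L : Subgroup H} [hL : L.Normal] {v u : Q} {g t : H} (hg : g • v = u)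
    (hvu : ∃ φ ∈ Ph F L v, φ u ≠ 0) (ht : t • v = v) {k : ℕ} (htk : t ^ 2 ^ k = 1) :
    ∃ y ∈ L, y • v = v ∧ y • u = t • u := by
  -- proportional evaluations are equal
  have hprop : ∀ c : F, (∀ φ ∈ Ph F L v, φ (t • u) = c * φ u) → c = 1 := by
    intro c hc
    have h1 : ∀ n : ℕ, ∀ φ ∈ Ph F L v, φ (t ^ n • u) = c ^ n * φ u := by
      intro n
      induction n with
      | zero => intro φ _; rw [pow_zero, one_smul, pow_zero, one_mul]
      | succ n ih =>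
        intro φ hφ
        have h2 := comp_mem hφ (t ^ n)
        have h3 : (t ^ n)⁻¹ • v = v := by
          have h5 : t ^ n ∈ MulAction.stabilizer H v := pow_mem (MulAction.mem_stabilizer_iff.2 ht) n
          rw [inv_smul_eq_iff]
          exact (MulAction.mem_stabilizer_iff.1 h5).symm
        rw [h3] at h2
        have h4 := hc _ h2
        rw [LinearMap.comp_apply, LinearMap.comp_apply, LinearEquiv.coe_coe, lin_apply, lin_apply, ← mul_smul,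
          ← pow_succ, ih φ hφ] at h4
        rw [h4, pow_succ]
        ring
    obtain ⟨φ, hφ, hu⟩ := hvu
    have h2 := h1 (2 ^ k) φ hφ
    rw [htk, one_smul] at h2
    have h3 : c ^ 2 ^ k = 1 := mul_right_cancel₀ hu (by rw [one_mul]; exact h2.symm)
    have h4 : (c - 1) ^ 2 ^ k = 0 := by rw [sub_pow_char_pow, h3, one_pow, sub_self]
    exact sub_eq_zero.1 (pow_eq_zero_iff (by positivity) |>.1 h4)
  have hgt : (t * g) • v = t • u := by rw [mul_smul, hg]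
  by_cases hJ : ∃ φ ∈ Ph F L u, φ (t • u) ≠ 0
  · exact step hg hgt hvu hJ hprop
  · push Not at hJ
    -- `u'' = u + v`
    obtain ⟨φ1, hφ1, hu1⟩ := hvu
    obtain ⟨τ, hτ, hτ'⟩ := hφ1.2 (φ1 u)⁻¹
    have hτv : τ • v = v := by rw [hτ', hφ1.1, mul_zero, zero_smul, add_zero]
    have hτu : τ • u = u + v := by rw [hτ', inv_mul_cancel₀ hu1, one_smul]
    have hgu : (τ * g) • v = u + v := by rw [mul_smul, hg, hτu]
    have hev : ∀ φ ∈ Ph F L v, φ (u + v) = φ u := fun φ hφ => by rw [map_add, hφ.1, add_zero]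
    -- `Φ_{tu}` moves `v`
    have h1 : ∃ φ ∈ Ph F L v, φ (t • u) ≠ 0 := by
      have h2 := comp_mem hφ1 t⁻¹
      rw [inv_inv, ht] at h2
      refine ⟨_, h2, ?_⟩
      rw [LinearMap.comp_apply, LinearEquiv.coe_coe, lin_apply, inv_smul_smul]
      exact hu1
    obtain ⟨ψ, hψ, hψv⟩ := symm hgt h1
    -- `Φ_{tu}` kills `u`
    have h3 : ψ u = 0 := by
      by_contra hne
      obtain ⟨φ, hφ, hn⟩ := symm (g := g * (t * g)⁻¹) (b := u) (by rw [← hgt, mul_smul, inv_smul_smul, hg])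
        ⟨ψ, hψ, hne⟩
      exact hn (hJ φ hφ)
    have h4 : ∃ φ ∈ Ph F L (u + v), φ (t • u) ≠ 0 := by
      refine symm (g := (τ * g) * (t * g)⁻¹) (a := t • u) (by rw [← hgt, mul_smul, inv_smul_smul, hgu]) ⟨ψ, hψ, ?_⟩
      rw [map_add, h3, zero_add]
      exact hψv
    obtain ⟨y, hy, hyv, hyu⟩ := step hgu hgt ⟨φ1, hφ1, by rw [hev φ1 hφ1]; exact hu1⟩ h4
      (fun c hc => hprop c fun φ hφ => by rw [hc φ hφ, hev φ hφ])
    refine ⟨y * τ, mul_mem hy hτ, by rw [mul_smul, hτv, hyv], by rw [mul_smul, hτu, hyu]⟩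

end Cfsg.Agent.Omega.NO3S.FullQ.TR

end
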