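import Cfsg.Agent.Mrg.Omega.NO3S.FarQ.Free.HD
import Cfsg.Agent.Mrg.Omega.NO3S.FarQ.Free.HSum
import Cfsg.Agent.Mrg.Omega.NO3S.FarQ.Free.Exist
import Cfsg.Agent.Mrg.Omega.NO3S.FullQ.Base
import Cfsg.Agent.Mrg.Omega.NO3S.FullQ.Mover

section


/-!
# FullB (`q ≥ 4`, `n ≥ 3`): THE FRONT (helper937 #18718 section 5, without `FullAt`)

Over `Geom` and `Frm` (no fullness, `N_p` arbitrary), `3 ≤ n`:

* `not_dp` : no critical pair has a pair with (D): `x ∼ p`, `f ∈ W_q`, `x^f ≠ x` implies `W_x ∩ W_{x^f} ≰ W_p`;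
* `exP` : every critical pair is exact, both sides (`ExP`: exact, (X) = `cen`, `good`);
* `W0` : both together; `w0`; `W0.tp`, `W0.mover` (a mover of every `f ∈ W_q` with image `≠ 1`, without (D)).
-/

set_option autoImplicit false
set_option linter.unusedSectionVars false

namespace Cfsg.Agent.Omega.NO3S.FullQ

open Subgroup Cfsg Cfsg.Agent.ZN Cfsg.Agent.MinSimple.VModule Cfsg.Agent.Omega.NOThree.Pts
open Cfsg.Agent.Omega.NOThree Cfsg.Agent.Omega.NOThree.LemmaM Cfsg.Agent.Omega.NOThree.LemmaMPlus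
open Cfsg.Agent.Omega.NO3S.FarQ.Glue Cfsg.Agent.Omega.NO3S.FarQ.Asm Cfsg.Agent.Omega.NO3S.FarQ.Free

variable {G X L : Type*} [Group G] [MulAction G X] [MulAction G L]
variable {inc : X → L → Prop} {R W : X → Subgroup G} {V : L → Subgroup G} {s t n : ℕ}

/-- **The world W0.** -/
structure W0 (inc : X → L → Prop) (R W : X → Subgroup G) (V : L → Subgroup G) (n : ℕ) : Prop where
  /-- no pair with (D) -/
  nd : ∀ a b, Crit inc W n a b → ¬ DP inc W a b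
  /-- exact on both sides, (X) -/
  ex : ∀ a b, Crit inc W n a b → ExP inc R W V n a b

variable {H M K : Type*} [Group H] [CommGroup M] [MulDistribMulAction H M] [CommGroup K]
variable {p q : X} {l : L} {Sy : Subgroup G} {ρ : G → H} {π : G → M} {ζ : K →* G} {T : Subgroup H}
  {lam U : Subgroup M} {Kh : Subgroup (M →* K)}

section frm

variable [Finite G] (D : Geom inc R W V s t) (F : Frm inc R W V p l Sy ρ π ζ T lam U Kh) (hn : 3 ≤ n)
include D F hn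

theorem typeI_false {p' x' q' : X} {l' : L} (h : TypeI inc R W n p' x' q' l') : False := by
  obtain ⟨k, rfl⟩ : ∃ k, n = k + 1 := ⟨n - 1, by omega⟩
  obtain ⟨y, hy⟩ := gg_of_typeI h
  exact no_goal D (F.line_all D) (F.noOver D) (by omega) (hD D F (by omega)) (hT D F (by omega)) (hs D F (by omega)) hy

/-- `(b, a)` has (D), `(a, b)` has not -/
theorem one_false {a b : X} (hc : Crit inc W n a b) (h1 : ¬ DP inc W a b) (h2 : DP inc W b a) : False := by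
  obtain ⟨r₁, l₁, hr₁, hrl₁, hal₁⟩ := hc.symm.last (by omega)
  obtain ⟨x, m, f, hM⟩ := h2.mdat D hn hc.symm hr₁ hrl₁ hal₁
  rcases alternative hM (F.noOver D) with h3 | ⟨hq, hlow⟩
  · exact typeI_false D F hn h3
  obtain ⟨k, rfl⟩ : ∃ k, n = k + 1 := ⟨n - 1, by omega⟩
  obtain ⟨y', h0, hk, hcol⟩ := exists_path hr₁.symm
  rw [Nat.add_sub_cancel] at hk hcol
  have e0 : ch a y' 0 = a := rfl
  have e1 : ch a y' 1 = r₁ := h0
  have ek : ch a y' (k + 1) = b := hk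
  have hy : Pth inc W k (ch a y') := by
    refine { crit := ?_, col := ?_ }
    · rw [e0, ek]; exact hc
    · intro i hi
      match i with
      | 0 =>
        show Col inc a (y' 0)
        rw [h0]
        exact ⟨l₁, hal₁, hrl₁⟩
      | (i + 1) => exact hcol i (by omega)
  have hfin : ¬ ∃ x f, Mv inc W k (ch a y') x f ∧ DD W (ch a y') x f := by
    rintro ⟨z, g, hz, hdd⟩
    obtain ⟨hgW, ⟨m', hzm, h0m⟩, hmv, -⟩ := hz
    rw [ek] at hgW
    exact h1 ⟨z, m', g, hzm, h0m, hgW, hmv, hdd⟩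
  refine hfin (exists_dd D F (by omega) hy ?_ ?_ ?_)
  · rw [e0, ek, e1]
    intro u hu v hv
    have h4 := (hlow v hv u hu).2
    have e : u * v * u⁻¹ * v⁻¹ = (v * u * v⁻¹ * u⁻¹)⁻¹ := by group
    rw [e]
    exact inv_mem h4
  · rw [e0, ek]
    rintro z ⟨m', hz, ha⟩ v hv u hu hR
    have h5 := tp_of D hc (by omega) h1 z m' hz ha v hv u hu (by
      have e : u * v * u⁻¹ * v⁻¹ = (v * u * v⁻¹ * u⁻¹)⁻¹ := by group
      rw [e]
      exact inv_mem hR)
    rw [← h5]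
    group
  · rw [e0, ek]
    exact hq

theorem not_dp {a b : X} (hc : Crit inc W n a b) : ¬ DP inc W a b := by
  intro h1
  by_cases h2 : DP inc W b a
  · obtain ⟨p', x', q', l', h⟩ := typeI_of_both D (F.noOver D) hn hc h1 h2
    exact typeI_false D F hn h
  · exact one_false D F hn hc.symm h2 h1

theorem exP {a b : X} (hc : Crit inc W n a b) : ExP inc R W V n a b :=
  ExP.of_good D (F.noOver D) hc (by omega) ((tp_of D hc (by omega) (not_dp D F hn hc)).good D)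
    ((tp_of D hc.symm (by omega) (not_dp D F hn hc.symm)).good D)

theorem w0 : W0 inc R W V n where
  nd _ _ hc := not_dp D F hn hc
  ex _ _ hc := exP D F hn hc

end frm

theorem W0.tp (h : W0 inc R W V n) (D : Geom inc R W V s t) (hn : 1 ≤ n) {a b : X} (hc : Crit inc W n a b) :
    TP inc R W a b := tp_of D hc hn (h.nd a b hc)

end Cfsg.Agent.Omega.NO3S.FullQ

end

section


/-!
# FullB, `q ≥ 4`: the glue of class P (#21459 sections 2, 3, helper471; typed by helper312)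

* `dl_Np`, `PP_eq`, `np_inf`: 471's duality and 649's `⊔` in the form used by `Mover.lean`;
* `mv_of`: every `1 ≠ a ∈ A = ρ(W_q)` of a critical pair without (D) has a mover `Cnt.Mv (Np Kh) lam A a`;
* `PA Kh lam A₁ hN` : class P for `A₁`: `A₁ ≠ 1`, `|M : C_M(A₁)| ≤ |A₁|`, `[N⁺, A₁] = 1`, `A₁ ≤ O₂(C_H(lam mod N⁺))`;
* `exists_theta` : `θ` for LEMMA TOR, from `PA` for one subgroup of one `A`;
* `Tor`, `tor_of` : the conclusion of LEMMA TOR, from `PA` for one subgroup of one `A`;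
* `dat_of`, `W0.dat` : after TOR `Cnt.Dat` holds for ALL critical pairs.
-/

set_option autoImplicit false
set_option linter.unusedSectionVars false

namespace Cfsg.Agent.Omega.NO3S.FullQ

open Subgroup Cfsg Cfsg.Agent.ZN Cfsg.Agent.MinSimple.VModule Cfsg.Agent.Omega.NOThree.Pts
open Cfsg.Agent.Omega.NO3S.FarQ Cfsg.Agent.Omega.NO3S.FarQ.Glue Cfsg.Agent.Omega.NO3S.FarQ.Free
open Cfsg.Agent.Omega.NO3S.FarQ.Asm
open scoped Pointwise

section abs

variable {H M K : Type*} [Group H] [CommGroup M] [MulDistribMulAction H M] [CommGroup K]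
variable {T : Subgroup H} {lam U : Subgroup M} {Kh : Subgroup (M →* K)}

theorem dl_Np (F : Flag T lam U Kh) : Dl Kh (Np Kh) := by
  obtain ⟨D, hD⟩ := F.exists_index_two
  exact ⟨D, ne_top_of_index hD, fun E hE m hm => F.dual hD ((Mt_le_Np Kh (ne_top_of_index hD)).trans hE) hm⟩

theorem PP_eq (h : H) (lam N : Subgroup M) : PP h lam N = (h • lam) ⊔ (h⁻¹ • lam) ⊔ N := by
  apply le_antisymm
  · rintro _ ⟨a, ha, b, hb, n, hn, rfl⟩
    exact mul_mem (Subgroup.mem_sup_left (mul_mem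
      (Subgroup.mem_sup_left (Subgroup.smul_mem_pointwise_smul _ _ _ ha))
      (Subgroup.mem_sup_right (Subgroup.smul_mem_pointwise_smul _ _ _ hb)))) (Subgroup.mem_sup_right hn)
  · refine sup_le (sup_le ?_ ?_) (N_le_PP _ _ _)
    · intro x hx
      obtain ⟨a, ha, rfl⟩ := (Subgroup.mem_smul_pointwise_iff_exists _ _ _).1 hx
      exact smul_mem_PP ha
    · intro x hx
      obtain ⟨a, ha, rfl⟩ := (Subgroup.mem_smul_pointwise_iff_exists _ _ _).1 hx
      exact inv_smul_mem_PP ha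

/-- `N⁺ ∩ lam = 1` if something `≠ 1` centralises `N⁺` -/
theorem np_inf (F : Flag T lam U Kh) {A1 : Subgroup H} (h1 : A1 ≠ ⊥) (h2 : Np Kh ≤ zm M A1) : Np Kh ⊓ lam = ⊥ := by
  rw [eq_bot_iff]
  intro a ha
  obtain ⟨⟨j, hj⟩, hj1⟩ := Subgroup.ne_bot_iff_exists_ne_one.1 h1
  by_contra hne
  refine hj1 (Subtype.ext ?_)
  exact F.eq_one_of_cent F.hinv_Np ha.2 (fun e => hne (mem_bot.2 e)) ha.1 fun n hn => h2 hn j hj

/-- **Class P for `A₁`.** -/
structure PA (Kh : Subgroup (M →* K)) (lam : Subgroup M) (A1 : Subgroup H)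
    (hN : ∀ (h : H), ∀ n ∈ Np Kh, h • n ∈ Np Kh) : Prop where
  ne : A1 ≠ ⊥
  ex : (zm M A1).index ≤ Nat.card A1
  cent : Np Kh ≤ zm M A1
  o2 : A1 ≤ ZN.o2 (Cnt.stN (Np Kh) lam hN)

/-- **The conclusion of LEMMA TOR.** -/
structure Tor (H : Type*) [Group H] [MulDistribMulAction H M] (N lam : Subgroup M) : Prop where
  fix : ∀ h : H, (∀ a ∈ lam, (h • a) * a⁻¹ ∈ N) → ∀ a ∈ lam, h • a = a
  norm : ∀ h : H, (∀ a ∈ lam, h • a ∈ lam ⊔ N) → ∀ a ∈ lam, h • a ∈ lam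

theorem Tor.stN_eq {N lam : Subgroup M} (h : Tor H N lam) (hN : ∀ (h : H), ∀ n ∈ N, h • n ∈ N) :
    Cnt.stN N lam hN = fixer lam := by
  ext x
  constructor
  · exact fun hx => h.fix x hx
  · intro hx a ha
    rw [hx a ha, mul_inv_cancel]
    exact one_mem _

section qm

variable {F Q : Type*} [Field F] [AddCommGroup Q] [Module F Q] [DistribMulAction H Q] [SMulCommClass H F Q]
variable {π' : M → Q} {a0 : Q}

theorem card_lam {N : Subgroup M} (D : Cnt.Qm F H π' a0 N lam) (hd : N ⊓ lam = ⊥) : Nat.card lam = Nat.card F := by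
  have h1 : ∀ a : lam, ∃ c : F, c • a0 = π' a := fun a =>
    Submodule.mem_span_singleton.1 ((D.lam _).1 ⟨a, a.2, rfl⟩)
  choose c hc using h1
  refine Nat.card_congr (Equiv.ofBijective c ⟨?_, ?_⟩)
  · intro a b hab
    have h2 : π' (a : M) = π' (b : M) := by rw [← hc, ← hc, hab]
    have h3 : (a : M) * (b : M)⁻¹ ∈ N ⊓ lam := ⟨D.mul_inv_mem h2, lam.mul_mem a.2 (lam.inv_mem b.2)⟩
    rw [hd, mem_bot, mul_inv_eq_one] at h3
    exact Subtype.ext h3
  · intro d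
    obtain ⟨a, ha, h2⟩ := (D.lam (d • a0)).2 (Submodule.smul_mem _ _ (Submodule.mem_span_singleton_self _))
    refine ⟨⟨a, ha⟩, ?_⟩
    have h3 : (c ⟨a, ha⟩ - d) • a0 = 0 := by rw [sub_smul, hc ⟨a, ha⟩, ← h2, sub_self]
    by_contra hne
    exact D.ne ((smul_eq_zero_iff_right (sub_ne_zero.2 hne)).1 h3)

variable [Finite F] [CharP F 2]

/-- **The input of LEMMA TOR.** -/
theorem exists_theta (Fl : Flag T lam U Kh) (D : Cnt.Qm F H π' a0 (Np Kh) lam) {A A1 : Subgroup H}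
    (hE : Exact lam A) (hA1 : A1 ≤ A) (h1 : PA Kh lam A1 D.inv)
    (hmv : ∀ a ∈ A, a ≠ 1 → Cnt.Mv (Np Kh) lam A a) :
    Np Kh ⊓ lam = ⊥ ∧ ∃ θ : H, Odd (orderOf θ) ∧ (∀ n ∈ Np Kh, θ • n = n) ∧ (∀ a ∈ lam, θ • a ∈ lam ⊔ Np Kh) ∧
      ∀ a ∈ lam, (θ • a) * a⁻¹ ∈ Np Kh → a = 1 := by
  have := Fl.finH
  have := Fl.finM
  have hd := np_inf Fl h1.ne h1.cent
  have E : Cnt.Dat F π' a0 A1 := Cnt.dat D (fun a ha => hE.sq a (hA1 ha)) h1.o2 h1.ex
    fun a ha ha1 => (hmv a (hA1 ha) ha1).mono hA1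
  refine ⟨hd, Cnt.exists_theta D E h1.ne ?_ hd⟩
  rw [← card_lam D hd]
  exact Fl.four

/-- **LEMMA TOR for class P.** -/
theorem tor_abs (Fl : Flag T lam U Kh) (D : Cnt.Qm F H π' a0 (Np Kh) lam) {A A1 : Subgroup H}
    (hE : Exact lam A) (hA1 : A1 ≤ A) (h1 : PA Kh lam A1 D.inv)
    (hmv : ∀ a ∈ A, a ≠ 1 → Cnt.Mv (Np Kh) lam A a) : Tor H (Np Kh) lam := by
  obtain ⟨-, θ, -, h2, h3, h4⟩ := exists_theta Fl D hE hA1 h1 hmv
  have h5 : ∀ h : H, (∀ a ∈ lam, (h • a) * a⁻¹ ∈ Np Kh) → h ∈ fixer lam := fun h hh =>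
    Fl.tor Fl.hinv_Np h2 h3 h4 hh
  exact ⟨fun h hh => h5 h hh, fun h hh => Fl.tor_norm Fl.hinv_Np h5 hh⟩

/-- **`Dat` for every exact `A` with movers, after TOR.** -/
theorem dat_of_tor (D : Cnt.Qm F H π' a0 (Np Kh) lam) (ht : Tor H (Np Kh) lam) {A : Subgroup H}
    (hE : Exact lam A) (hmv : ∀ a ∈ A, a ≠ 1 → Cnt.Mv (Np Kh) lam A a) : Cnt.Dat F π' a0 A :=
  Cnt.dat D hE.sq (by rw [ht.stN_eq D.inv]; exact hE.le) hE.card.ge hmv

end qm

end abs

variable {G X L : Type*} [Group G] [MulAction G X] [MulAction G L]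
variable {inc : X → L → Prop} {R W : X → Subgroup G} {V : L → Subgroup G} {s t n : ℕ}
variable {H M K : Type*} [Group H] [CommGroup M] [MulDistribMulAction H M] [CommGroup K]
variable {p q r : X} {l : L}
variable {Sy : Subgroup G} {ρ : G → H} {π : G → M} {ζ : K →* G} {T : Subgroup H} {lam U : Subgroup M}
  {Kh : Subgroup (M →* K)}

/-- **The mover of every `1 ≠ a ∈ A = ρ(W_q)`** ((p, q) critical without (D), `r` on `l`, `d(r, q) = n - 1`). -/
theorem mv_of [Finite G] (D : Geom inc R W V s t) (F : RD inc R W V p l Sy ρ π ζ T lam U Kh)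
    (hc : Crit inc W n p q) (hn : 1 ≤ n) (hnd : ¬ DP inc W p q) (hrl : inc r l) (hwk : Walk inc (n - 1) r q) :
    ∀ a ∈ im F.re (W q) (W_le_cent D hc hn), a ≠ 1 →
      Cnt.Mv (Np Kh) lam (im F.re (W q) (W_le_cent D hc hn)) a := by
  rintro _ ⟨f, hf, rfl⟩ hf1
  obtain ⟨h, h1, h2, h3, h4, h5, h6⟩ := exists_plane D F hc hn hnd hrl hwk (dl_Np F.flag) F.flag.hinv_Np hf hf1
  rw [PP_eq] at h4
  simp only [PP_eq] at h5 h6
  refine ⟨h, h1, h2, h3, h4, ?_, h6⟩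
  rintro _ ⟨g, hg, rfl⟩
  exact h5 g hg

/-- exactness of `A = ρ(W_q)` -/
theorem exact_of [Finite G] (D : Geom inc R W V s t) (F : RD inc R W V p l Sy ρ π ζ T lam U Kh) (hn : 1 ≤ n)
    (hE : ExP inc R W V n p q) (hrl : inc r l) (hwk : Walk inc (n - 1) r q) :
    Exact lam (im F.re (W q) (W_le_cent D hE.crit hn)) :=
  RF.exact D F.toRF (hE.ex r l hwk.symm hrl F.pl)

section qm

variable {F' Q : Type*} [Field F'] [AddCommGroup Q] [Module F' Q] [DistribMulAction H Q] [SMulCommClass H F' Q]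
variable {π' : M → Q} {a0 : Q} [Finite F'] [CharP F' 2]

/-- **`Dat` for every critical pair, after TOR.** -/
theorem dat_of [Finite G] (D : Geom inc R W V s t) (F : RD inc R W V p l Sy ρ π ζ T lam U Kh) (hn : 1 ≤ n)
    (hE : ExP inc R W V n p q) (hnd : ¬ DP inc W p q) (hrl : inc r l) (hwk : Walk inc (n - 1) r q)
    (Qd : Cnt.Qm F' H π' a0 (Np Kh) lam) (ht : Tor H (Np Kh) lam) :
    Cnt.Dat F' π' a0 (im F.re (W q) (W_le_cent D hE.crit hn)) :=
  dat_of_tor Qd ht (exact_of D F hn hE hrl hwk) (mv_of D F hE.crit hn hnd hrl hwk)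

/-- **`θ` from class P for one critical pair.** -/
theorem theta_of [Finite G] (D : Geom inc R W V s t) (F : RD inc R W V p l Sy ρ π ζ T lam U Kh) (hn : 1 ≤ n)
    (hE : ExP inc R W V n p q) (hnd : ¬ DP inc W p q) (hrl : inc r l) (hwk : Walk inc (n - 1) r q)
    (Qd : Cnt.Qm F' H π' a0 (Np Kh) lam) {A1 : Subgroup H} (hA1 : A1 ≤ im F.re (W q) (W_le_cent D hE.crit hn))
    (h1 : PA Kh lam A1 Qd.inv) :
    Np Kh ⊓ lam = ⊥ ∧ ∃ θ : H, Odd (orderOf θ) ∧ (∀ n ∈ Np Kh, θ • n = n) ∧ (∀ a ∈ lam, θ • a ∈ lam ⊔ Np Kh) ∧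
      ∀ a ∈ lam, (θ • a) * a⁻¹ ∈ Np Kh → a = 1 :=
  exists_theta F.flag Qd (exact_of D F hn hE hrl hwk) hA1 h1 (mv_of D F hE.crit hn hnd hrl hwk)

/-- **TOR from class P for one critical pair.** -/
theorem tor_of [Finite G] (D : Geom inc R W V s t) (F : RD inc R W V p l Sy ρ π ζ T lam U Kh) (hn : 1 ≤ n)
    (hE : ExP inc R W V n p q) (hnd : ¬ DP inc W p q) (hrl : inc r l) (hwk : Walk inc (n - 1) r q)
    (Qd : Cnt.Qm F' H π' a0 (Np Kh) lam) {A1 : Subgroup H} (hA1 : A1 ≤ im F.re (W q) (W_le_cent D hE.crit hn))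
    (h1 : PA Kh lam A1 Qd.inv) : Tor H (Np Kh) lam :=
  tor_abs F.flag Qd (exact_of D F hn hE hrl hwk) hA1 h1 (mv_of D F hE.crit hn hnd hrl hwk)

/-- **After TOR: `Dat` for all critical pairs of the world W0**, at a frame over the same `(H, M, T, lam, U, K̂)`. -/
theorem W0.dat [Finite G] (h : W0 inc R W V n) (D : Geom inc R W V s t)
    (F : Frm inc R W V p l Sy ρ π ζ T lam U Kh) (hn : 1 ≤ n) (Qd : Cnt.Qm F' H π' a0 (Np Kh) lam)
    (ht : Tor H (Np Kh) lam) {a b c : X} {m : L} (hc : Crit inc W n a b) (ham : inc a m) (hcm : inc c m)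
    (hwk : Walk inc (n - 1) c b) :
    ∃ (Sy₁ : Subgroup G) (ρ₁ : G → H) (π₁ : G → M) (ζ₁ : K →* G)
      (F₁ : Frm inc R W V a m Sy₁ ρ₁ π₁ ζ₁ T lam U Kh),
      Exact lam (im F₁.re (W b) (W_le_cent D hc hn)) ∧
      Cnt.Dat F' π' a0 (im F₁.re (W b) (W_le_cent D hc hn)) := by
  obtain ⟨Sy₁, ρ₁, π₁, ζ₁, F₁⟩ := F.at_flag D ham
  exact ⟨Sy₁, ρ₁, π₁, ζ₁, F₁, exact_of D F₁.toRD hn (h.ex a b hc) hcm hwk,
    dat_of D F₁.toRD hn (h.ex a b hc) (h.nd a b hc) hcm hwk Qd ht⟩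

end qm

end Cfsg.Agent.Omega.NO3S.FullQ

end

section


/-!
# FullB, `q ≥ 4`: `PSide` with a `Bad` mover for every `f` instead of `¬ DP inc W p q` (for `n = 2`; asked by helper426)

* `Bad.rho_ne` : `ρ h ≠ 1`;
* `plane_of_bad` : (2a) of #21459 for one mover;
* `mv_of_bad`, `dat_of_bad`, `tor_of_bad` : input `∀ f ∈ W q, ρ f ≠ 1 → ∃ h, Bad inc R W n p q r l f h`.
-/

set_option autoImplicit false
set_option linter.unusedSectionVars false

namespace Cfsg.Agent.Omega.NO3S.FullQ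

open Subgroup Cfsg Cfsg.Agent.ZN Cfsg.Agent.MinSimple.VModule Cfsg.Agent.Omega.NOThree.Pts
open Cfsg.Agent.Omega.NO3S.FarQ Cfsg.Agent.Omega.NO3S.FarQ.Glue Cfsg.Agent.Omega.NO3S.FarQ.Free
open Cfsg.Agent.Omega.NO3S.FarQ.Asm
open scoped Pointwise

variable {G X L : Type*} [Group G] [MulAction G X] [MulAction G L]
variable {inc : X → L → Prop} {R W : X → Subgroup G} {V : L → Subgroup G} {s t n : ℕ}
variable {H M K : Type*} [Group H] [CommGroup M] [MulDistribMulAction H M] [CommGroup K]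
variable {p q r : X} {l : L} {f h : G}
variable {Sy : Subgroup G} {ρ : G → H} {π : G → M} {ζ : K →* G} {T : Subgroup H} {lam U : Subgroup M}
  {Kh : Subgroup (M →* K)}

/-- **`ρ h ≠ 1`** -/
theorem Bad.rho_ne (D : Geom inc R W V s t) (b : Free.Bad inc R W n p q r l f h)
    (F : RD inc R W V p l Sy ρ π ζ T lam U Kh) : ρ h ≠ 1 := by
  intro h0
  have hhc : h ∈ centralizer (R p : Set G) := Bad.h_cent b F
  have key : ∀ g ∈ centralizer (R p : Set G), ρ g = 1 → inc (g • r) l := by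
    intro g hg hg0
    obtain ⟨v, hv, hv1⟩ := D.exists_ne r
    have hvV : v ∈ V l := D.R_le r l b.rl hv
    have h1 := (F.re.ker g hg).1 hg0 v (D.V_le p l b.pl hvV)
    have h2 : g * v * g⁻¹ ∈ V l := by
      have e : g * v * g⁻¹ = (g * v * g⁻¹ * v⁻¹) * v := by group
      rw [e]
      exact mul_mem (D.R_le p l b.pl h1) hvV
    refine on_line D (D.R_smul g r v hv) (fun e => hv1 ?_) h2
    have h3 : g * v * g⁻¹ = 1 := e
    rw [mul_inv_eq_one] at h3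
    exact mul_eq_left.1 h3
  have h1 := key h hhc h0
  have h2 := key h⁻¹ (inv_mem hhc) (by rw [F.re.inv hhc, h0, inv_one])
  rw [← b.fx_eq D] at h2
  apply b.nd
  intro a ha ha'
  have h3 := D.F1 (h • r) (f • h • r) p l h1 h2 b.pl b.mv.symm (b.x_ne D)
  have h4 : a ∈ W (h • r) ⊓ W (f • h • r) := ⟨ha, ha'⟩
  rw [h3] at h4
  exact h4.2

/-- **(2a) for one mover** -/
theorem plane_of_bad [Finite G] (D : Geom inc R W V s t) (F : RD inc R W V p l Sy ρ π ζ T lam U Kh)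
    (b : Free.Bad inc R W n p q r l f h) {N : Subgroup M} (hN : Dl Kh N) (hNH : ∀ k : H, ∀ m ∈ N, k • m ∈ N) :
    ρ h ≠ 1 ∧ Odd (orderOf (ρ h)) ∧ ρ f * ρ h * (ρ f)⁻¹ = (ρ h)⁻¹ ∧ lam ≤ PP (ρ h) lam N ∧
      (∀ g ∈ W q, ∀ m ∈ PP (ρ h) lam N, ρ g • m ∈ PP (ρ h) lam N) ∧
      ∀ m ∈ PP (ρ h) lam N, ρ h • m ∈ PP (ρ h) lam N := by
  have hh : h ∈ centralizer (R p : Set G) := Bad.h_cent b F
  have hfc : f ∈ centralizer (R p : Set G) := W_le_cent D b.crit b.pos b.hf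
  refine ⟨Bad.rho_ne D b F, ?_, ?_, Bad.lam_le D b F hN, fun g hg => Bad.inv_W D b F hN hNH hg,
    Bad.inv_h D b F hN hNH⟩
  · have h1 : ρ h ^ orderOf h = 1 := by
      rw [← rho_pow F.toRF F.flag hh, pow_orderOf_eq_one, F.re.one]
    exact Odd.of_dvd_nat b.odd (orderOf_dvd_of_pow_eq_one h1)
  · rw [← F.re.conj hfc hh, b.inv, F.re.inv hh]

/-- **The movers of `A = ρ(W_q)`**, from `Bad`. -/
theorem mv_of_bad [Finite G] (D : Geom inc R W V s t) (F : RD inc R W V p l Sy ρ π ζ T lam U Kh)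
    (hc : Crit inc W n p q) (hn : 1 ≤ n) (hb : ∀ f ∈ W q, ρ f ≠ 1 → ∃ h, Free.Bad inc R W n p q r l f h) :
    ∀ a ∈ im F.re (W q) (W_le_cent D hc hn), a ≠ 1 →
      Cnt.Mv (Np Kh) lam (im F.re (W q) (W_le_cent D hc hn)) a := by
  rintro _ ⟨f, hf, rfl⟩ hf1
  obtain ⟨h, b⟩ := hb f hf hf1
  obtain ⟨h1, h2, h3, h4, h5, h6⟩ := plane_of_bad D F b (dl_Np F.flag) F.flag.hinv_Np
  rw [PP_eq] at h4
  simp only [PP_eq] at h5 h6
  refine ⟨ρ h, h1, h2, h3, h4, ?_, h6⟩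
  rintro _ ⟨g, hg, rfl⟩
  exact h5 g hg

section qm

variable {F' Q : Type*} [Field F'] [AddCommGroup Q] [Module F' Q] [DistribMulAction H Q] [SMulCommClass H F' Q]
variable {π' : M → Q} {a0 : Q} [Finite F'] [CharP F' 2]

/-- **`Dat` for a critical pair, after TOR**, from `Bad`. -/
theorem dat_of_bad [Finite G] (D : Geom inc R W V s t) (F : RD inc R W V p l Sy ρ π ζ T lam U Kh) (hn : 1 ≤ n)
    (hE : ExP inc R W V n p q) (hrl : inc r l) (hwk : Walk inc (n - 1) r q)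
    (hb : ∀ f ∈ W q, ρ f ≠ 1 → ∃ h, Free.Bad inc R W n p q r l f h)
    (Qd : Cnt.Qm F' H π' a0 (Np Kh) lam) (ht : Tor H (Np Kh) lam) :
    Cnt.Dat F' π' a0 (im F.re (W q) (W_le_cent D hE.crit hn)) :=
  dat_of_tor Qd ht (exact_of D F hn hE hrl hwk) (mv_of_bad D F hE.crit hn hb)

/-- **TOR from class P for one critical pair**, from `Bad`. -/
theorem tor_of_bad [Finite G] (D : Geom inc R W V s t) (F : RD inc R W V p l Sy ρ π ζ T lam U Kh) (hn : 1 ≤ n)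
    (hE : ExP inc R W V n p q) (hrl : inc r l) (hwk : Walk inc (n - 1) r q)
    (hb : ∀ f ∈ W q, ρ f ≠ 1 → ∃ h, Free.Bad inc R W n p q r l f h)
    (Qd : Cnt.Qm F' H π' a0 (Np Kh) lam) {A1 : Subgroup H} (hA1 : A1 ≤ im F.re (W q) (W_le_cent D hE.crit hn))
    (h1 : PA Kh lam A1 Qd.inv) : Tor H (Np Kh) lam :=
  tor_abs F.flag Qd (exact_of D F hn hE hrl hwk) hA1 h1 (mv_of_bad D F hE.crit hn hb)

end qm

end Cfsg.Agent.Omega.NO3S.FullQ

end
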