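import Cfsg.Agent.Mrg.Omega.NO3S.FullQ.GEnd
import Cfsg.Agent.Mrg.Omega.NO3S.FullQ.Front
import Cfsg.Agent.Mrg.Omega.NO3S.WQ.Base

section


/-!
# NO-3S, `q ≥ 4`: the `F`-module `Q = M / N⁺` (helper471 #21459, section 0)

* `FSp Fd lam Kh` : the `F`-structure: for `c ∈ F`, `a ∈ lam` there is `b ∈ lam` with `φ b = c φ a` for all `φ ∈ K̂`;
* `Kp Fd Kh = {φ ∈ K̂ | F φ ≤ K̂}`; `mem_Np_iff` : `N⁺ = {m | K⁺(m) = 0}`;
* `Flag.dual_hom` : duality for homomorphisms;
* **`exists_qm`** : helper649's `Cnt.Qm` for `N = N⁺`;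
* `ClassP.pa` : helper312's `PA`; `onL_of` : `OnL lam Kh` from `RD`.
-/

set_option autoImplicit false
set_option linter.unusedSectionVars false

namespace Cfsg.Agent.Omega.NO3S.FullQ

open Subgroup Cfsg Cfsg.Agent.ZN Cfsg.Agent.MinSimple.VModule Cfsg.Agent.Omega.NO3S.FarQ
open Cfsg.Agent.Omega.NOThree.Pts Cfsg.Agent.Omega.NO3S.FarQ.Glue
open Cfsg.Agent.ClassTwoFusion.Quad (cv mem_cv cv_anti)

universe u

section dual

variable {H M K : Type*} [Group H] [CommGroup M] [MulDistribMulAction H M] [CommGroup K]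
variable {T : Subgroup H} {lam U : Subgroup M} {Kh : Subgroup (M →* K)}

/-- **Duality for homomorphisms**: `θ(M_τ) ≤ D` gives `ψ ∈ K̂` with `θ ≡ ψ` modulo `D`. -/
theorem _root_.Cfsg.Agent.Omega.NO3S.FarQ.Flag.dual_hom (F : Flag T lam U Kh) {D : Subgroup K} (hD : D.index = 2)
    (θ : M →* K) (hθ : ∀ m ∈ Mt Kh D, θ m ∈ D) : ∃ ψ ∈ Kh, ∀ m, θ m * (ψ m)⁻¹ ∈ D := by
  classical
  have := F.finM
  let _ : Module (ZMod 2) (Additive M) := AddCommGroup.zmodModule (n := 2) (fun x => by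
    rw [two_nsmul]
    exact congrArg Additive.ofMul (F.sq x.toMul))
  have hKD : Nat.card (K ⧸ D) = 2 := hD
  have hex : ∃ χ : K →* Multiplicative (ZMod 2), χ.ker = D := by
    have h1 : IsCyclic (K ⧸ D) := isCyclic_of_prime_card (p := 2) hKD
    have h2 : Nat.card (K ⧸ D) = Nat.card (Multiplicative (ZMod 2)) := by
      rw [hKD]
      exact (Nat.card_zmod 2).symm
    let e := mulEquivOfCyclicCardEq h2
    refine ⟨e.toMonoidHom.comp (QuotientGroup.mk' D), ?_⟩
    ext x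
    rw [MonoidHom.mem_ker]
    constructor
    · intro h
      have h3 : e (QuotientGroup.mk' D x) = 1 := h
      rw [map_eq_one_iff e e.injective] at h3
      exact (QuotientGroup.eq_one_iff x).1 h3
    · intro h
      have h3 : QuotientGroup.mk' D x = 1 := (QuotientGroup.eq_one_iff x).2 h
      show e (QuotientGroup.mk' D x) = 1
      rw [h3, map_one]
  obtain ⟨χ, hχ⟩ := hex
  have hχD : ∀ x : K, χ x = 1 ↔ x ∈ D := fun x => by rw [← hχ, MonoidHom.mem_ker]
  let toD : (M →* K) → Module.Dual (ZMod 2) (Additive M) := fun φ =>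
    AddMonoidHom.toZModLinearMap 2 (AddMonoidHom.mk' (fun x : Additive M => (χ (φ x.toMul)).toAdd) (by
      intro a b
      show (χ (φ (a.toMul * b.toMul))).toAdd = _
      rw [map_mul, map_mul]
      rfl))
  have htoD : ∀ φ (x : M), toD φ (Additive.ofMul x) = 0 ↔ φ x ∈ D := by
    intro φ x
    rw [← hχD]
    exact Iff.rfl
  let W : Submodule (ZMod 2) (Module.Dual (ZMod 2) (Additive M)) :=
    AddSubgroup.toZModSubmodule 2
      { carrier := {f | ∃ φ ∈ Kh, toD φ = f}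
        zero_mem' := ⟨1, one_mem _, by
          ext x
          show (χ 1).toAdd = 0
          rw [map_one]
          rfl⟩
        add_mem' := by
          rintro _ _ ⟨φ, hφ, rfl⟩ ⟨ψ, hψ, rfl⟩
          refine ⟨φ * ψ, mul_mem hφ hψ, ?_⟩
          ext x
          show (χ (φ x.toMul * ψ x.toMul)).toAdd = _
          rw [map_mul]
          rfl
        neg_mem' := by
          rintro _ ⟨φ, hφ, rfl⟩
          refine ⟨φ⁻¹, inv_mem hφ, ?_⟩
          ext x
          show (χ (φ x.toMul)⁻¹).toAdd = _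
          rw [map_inv]
          rfl }
  have hW : ∀ f, f ∈ W ↔ ∃ φ ∈ Kh, toD φ = f := fun f => Iff.rfl
  have h2 : toD θ ∈ W := by
    rw [← Subspace.dualCoannihilator_dualAnnihilator_eq (W := W), Submodule.mem_dualAnnihilator]
    intro x hx
    rw [Submodule.mem_dualCoannihilator] at hx
    refine (htoD θ x.toMul).2 (hθ _ fun φ hφ => ?_)
    exact (htoD φ x.toMul).1 (hx _ ((hW _).2 ⟨φ, hφ, rfl⟩))
  obtain ⟨ψ, hψ, e⟩ := (hW _).1 h2
  refine ⟨ψ, hψ, fun m => ?_⟩
  have h3 : toD ψ (Additive.ofMul m) = toD θ (Additive.ofMul m) := by rw [e]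
  have h4 : χ (ψ m) = χ (θ m) := h3
  rw [← hχD, map_mul, map_inv, h4, mul_inv_cancel]

end dual

section fs

variable {Fd : Type*} [Field Fd] {H M K : Type*} [Group H] [CommGroup M] [MulDistribMulAction H M] [CommGroup K]
  [Module Fd (Additive K)]
variable {T : Subgroup H} {lam U : Subgroup M} {Kh : Subgroup (M →* K)}

/-- **The `F`-structure.** -/
def FSp (Fd : Type*) [Field Fd] {M K : Type*} [CommGroup M] [CommGroup K] [Module Fd (Additive K)]
    (lam : Subgroup M) (Kh : Subgroup (M →* K)) : Prop :=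
  ∀ (c : Fd), ∀ a ∈ lam, ∃ b ∈ lam, ∀ φ ∈ Kh, Additive.ofMul (φ b) = c • Additive.ofMul (φ a)

/-- `K⁺` -/
def Kp (Fd : Type*) [Field Fd] {M K : Type*} [CommGroup M] [CommGroup K] [Module Fd (Additive K)]
    (Kh : Subgroup (M →* K)) : Set (M →* K) :=
  {φ | φ ∈ Kh ∧ ∀ c : Fd, ∃ ψ ∈ Kh, ∀ m, Additive.ofMul (ψ m) = c • Additive.ofMul (φ m)}

theorem Kp_comp (F : Flag T lam U Kh) {φ : M →* K} (hφ : φ ∈ Kp Fd Kh) (h : H) :
    φ.comp (MulDistribMulAction.toMonoidHom M h) ∈ Kp Fd Kh := by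
  refine ⟨F.comp_mem hφ.1 h, fun c => ?_⟩
  obtain ⟨ψ, hψ, e⟩ := hφ.2 c
  exact ⟨_, F.comp_mem hψ h, fun m => e _⟩

/-- `c` times a homomorphism -/
def smulHom (c : Fd) (φ : M →* K) : M →* K :=
  MonoidHom.mk' (fun m => (c • Additive.ofMul (φ m)).toMul) (fun a b => by
    rw [map_mul, ofMul_mul, smul_add]
    rfl)

theorem smulHom_apply (c : Fd) (φ : M →* K) (m : M) :
    Additive.ofMul (smulHom c φ m) = c • Additive.ofMul (φ m) := rfl

variable (F : Flag T lam U Kh) (hS : FSp Fd lam Kh)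
include F hS

/-- scalars on `M / rad` -/
theorem exists_sc (c : Fd) (m : M) : ∃ m' : M, ∀ φ ∈ Kh, Additive.ofMul (φ m') = c • Additive.ofMul (φ m) := by
  let N : Subgroup M :=
    { carrier := {m | ∃ m' : M, ∀ φ ∈ Kh, Additive.ofMul (φ m') = c • Additive.ofMul (φ m)}
      one_mem' := ⟨1, fun φ _ => by rw [map_one, ofMul_one, smul_zero]⟩
      mul_mem' := by
        rintro a b ⟨a', ha⟩ ⟨b', hb⟩
        exact ⟨a' * b', fun φ hφ => by rw [map_mul φ, map_mul φ, ofMul_mul, ofMul_mul, smul_add, ha φ hφ, hb φ hφ]⟩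
      inv_mem' := by
        rintro a ⟨a', ha⟩
        exact ⟨a'⁻¹, fun φ hφ => by rw [map_inv φ, map_inv φ, ofMul_inv, ofMul_inv, smul_neg, ha φ hφ]⟩ }
  have h1 : N = ⊤ := F.gen _ fun h a ha => by
    obtain ⟨b, -, hb⟩ := hS c a ha
    exact ⟨h • b, fun φ hφ => hb _ (F.comp_mem hφ h)⟩
  have h2 : m ∈ N := by rw [h1]; exact mem_top m
  exact h2

/-- a homomorphism which is `F`-linear on the lines and has values in `D < K` is trivial -/
theorem eq_one_of_lin (hcard : Nat.card Fd = Nat.card K) {D : Subgroup K} (hD : D ≠ ⊤) {ω : M →* K}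
    (hl : ∀ (c : Fd) (g : H), ∀ a ∈ lam, ∀ b ∈ lam, (∀ φ ∈ Kh, Additive.ofMul (φ b) = c • Additive.ofMul (φ a)) →
      Additive.ofMul (ω (g • b)) = c • Additive.ofMul (ω (g • a)))
    (hω : ∀ m, ω m ∈ D) : ω = 1 := by
  have := F.finM
  have : Finite K := by
    have h1 : Nat.card K ≠ 0 := by rw [F.cardR]; exact Nat.card_pos.ne'
    exact Nat.finite_of_card_ne_zero h1
  have : Finite Fd := by
    have h1 : Nat.card Fd ≠ 0 := by rw [hcard, F.cardR]; exact Nat.card_pos.ne'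
    exact Nat.finite_of_card_ne_zero h1
  have h1 : ω.ker = ⊤ := F.gen _ fun g a ha => by
    rw [MonoidHom.mem_ker]
    by_contra hne
    apply hD
    rw [eq_top_iff]
    intro r _
    have hinj : Function.Injective fun c : Fd => c • Additive.ofMul (ω (g • a)) := by
      intro c d hcd
      have h2 : (c - d) • Additive.ofMul (ω (g • a)) = 0 := by rw [sub_smul]; exact sub_eq_zero.2 hcd
      by_contra hcd'
      exact hne ((smul_eq_zero_iff_right (sub_ne_zero.2 hcd')).1 h2)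
    obtain ⟨c, hc⟩ := ((Nat.bijective_iff_injective_and_card _).2 ⟨hinj, hcard⟩).2 (Additive.ofMul r)
    obtain ⟨b, hb, e⟩ := hS c a ha
    have h3 := hl c g a ha b hb e
    have h4 : ω (g • b) = r := h3.trans hc
    rw [← h4]
    exact hω _
  ext m
  have h2 : m ∈ ω.ker := by rw [h1]; exact mem_top m
  exact h2

/-- `N⁺ = {m | K⁺(m) = 0}` -/
theorem mem_Np_iff (hcard : Nat.card Fd = Nat.card K) (m : M) : m ∈ Np Kh ↔ ∀ φ ∈ Kp Fd Kh, φ m = 1 := by
  have := F.finM
  have : Finite K := by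
    have h1 : Nat.card K ≠ 0 := by rw [F.cardR]; exact Nat.card_pos.ne'
    exact Nat.finite_of_card_ne_zero h1
  have : Finite Fd := by
    have h1 : Nat.card Fd ≠ 0 := by rw [hcard, F.cardR]; exact Nat.card_pos.ne'
    exact Nat.finite_of_card_ne_zero h1
  constructor
  · intro hm φ hφ
    have h1 : Np Kh ≤ φ.ker := Np_le fun D hD x hx => by
      rw [MonoidHom.mem_ker]
      by_contra hne
      apply hD
      rw [eq_top_iff]
      intro r _
      have hinj : Function.Injective fun c : Fd => c • Additive.ofMul (φ x) := by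
        intro c d hcd
        have h2 : (c - d) • Additive.ofMul (φ x) = 0 := by rw [sub_smul]; exact sub_eq_zero.2 hcd
        by_contra hcd'
        exact hne ((smul_eq_zero_iff_right (sub_ne_zero.2 hcd')).1 h2)
      obtain ⟨c, hc⟩ := ((Nat.bijective_iff_injective_and_card _).2 ⟨hinj, hcard⟩).2 (Additive.ofMul r)
      obtain ⟨ψ, hψ, e⟩ := hφ.2 c
      have h4 : ψ x = r := (e x).trans hc
      rw [← h4]
      exact hx ψ hψ
    exact h1 hm
  · intro h
    by_contra hm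
    obtain ⟨D, hD⟩ := F.exists_index_two
    have hDt := ne_top_of_index hD
    obtain ⟨φ, hφ, h1, h2⟩ := F.dual hD (Mt_le_Np Kh hDt) hm
    refine h2 ?_
    rw [h φ ⟨hφ, fun c => ?_⟩]
    · exact one_mem _
    -- `c φ ∈ K̂`
    by_cases hc : c = 0
    · exact ⟨1, one_mem _, fun x => by rw [hc, zero_smul]; rfl⟩
    obtain ⟨ψ, hψ, h3⟩ := F.dual_hom hD (smulHom c φ) (fun x hx => by
      obtain ⟨x', hx'⟩ := exists_sc F hS c x
      -- `x' ∈ M_{cτ}`
      let D' : Subgroup K :=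
        { carrier := {r | (c⁻¹ • Additive.ofMul r).toMul ∈ D}
          one_mem' := by
            show (c⁻¹ • (0 : Additive K)).toMul ∈ D
            rw [smul_zero]; exact one_mem _
          mul_mem' := by
            intro a b ha hb
            show (c⁻¹ • (Additive.ofMul a + Additive.ofMul b)).toMul ∈ D
            rw [smul_add]
            exact mul_mem ha hb
          inv_mem' := by
            intro a ha
            show (c⁻¹ • (-Additive.ofMul a)).toMul ∈ D
            rw [smul_neg]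
            exact inv_mem ha }
      have hD' : D' ≠ ⊤ := by
        intro e
        apply hDt
        rw [eq_top_iff]
        intro r _
        have h4 : (c • Additive.ofMul r).toMul ∈ D' := by rw [e]; exact mem_top _
        have h5 : (c⁻¹ • (c • Additive.ofMul r)).toMul ∈ D := h4
        rwa [smul_smul, inv_mul_cancel₀ hc, one_smul] at h5
      have h4 : x' ∈ Mt Kh D' := by
        intro ψ hψ
        show (c⁻¹ • Additive.ofMul (ψ x')).toMul ∈ D
        rw [hx' ψ hψ, smul_smul, inv_mul_cancel₀ hc, one_smul]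
        exact hx ψ hψ
      have h5 := h1 _ (Mt_le_Np Kh hD' h4)
      have h6 : φ x' = smulHom c φ x := hx' φ hφ
      rwa [h6] at h5)
    have h4 : smulHom c φ * ψ⁻¹ = 1 := by
      refine eq_one_of_lin F hS hcard hDt ?_ h3
      intro d g a ha b hb e
      have e1 : ∀ ψ ∈ Kh, Additive.ofMul (ψ (g • b)) = d • Additive.ofMul (ψ (g • a)) := fun ψ hψ =>
        e _ (F.comp_mem hψ g)
      show c • Additive.ofMul (φ (g • b)) + -Additive.ofMul (ψ (g • b)) =
        d • (c • Additive.ofMul (φ (g • a)) + -Additive.ofMul (ψ (g • a)))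
      rw [e1 φ hφ, e1 ψ hψ, smul_add, smul_neg, smul_comm]
    rw [mul_inv_eq_one] at h4
    exact ⟨ψ, hψ, fun x => by rw [← h4]; rfl⟩

end fs

/-- **The `F`-module `Q = M / N⁺`.** -/
theorem exists_qm {Fd : Type*} [Field Fd] {H : Type*} {M K : Type u} [Group H] [CommGroup M] [MulDistribMulAction H M]
    [CommGroup K] [Module Fd (Additive K)] {T : Subgroup H} {lam U : Subgroup M} {Kh : Subgroup (M →* K)}
    (F : Flag T lam U Kh) (hS : FSp Fd lam Kh) (hcard : Nat.card Fd = Nat.card K)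
    (hNl : ∀ a ∈ lam, a ∈ Np Kh → a = 1) :
    ∃ (Q : Type u) (_ : AddCommGroup Q) (_ : Module Fd Q) (_ : DistribMulAction H Q) (_ : SMulCommClass H Fd Q)
      (π : M → Q) (a0 : Q), Cnt.Qm Fd H π a0 (Np Kh) lam := by
  have := F.finM
  have : Finite K := by
    have h1 : Nat.card K ≠ 0 := by rw [F.cardR]; exact Nat.card_pos.ne'
    exact Nat.finite_of_card_ne_zero h1
  have : Finite Fd := by
    have h1 : Nat.card Fd ≠ 0 := by rw [hcard, F.cardR]; exact Nat.card_pos.ne'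
    exact Nat.finite_of_card_ne_zero h1
  let Q : Submodule Fd (Kp Fd Kh → Additive K) :=
    { carrier := {d | ∃ m : M, ∀ φ : Kp Fd Kh, d φ = Additive.ofMul (φ.1 m)}
      zero_mem' := ⟨1, fun φ => by rw [map_one]; rfl⟩
      add_mem' := by
        rintro d d' ⟨m, hm⟩ ⟨m', hm'⟩
        exact ⟨m * m', fun φ => by rw [map_mul, ofMul_mul, ← hm, ← hm']; rfl⟩
      smul_mem' := by
        rintro c d ⟨m, hm⟩
        obtain ⟨m', hm'⟩ := exists_sc F hS c m
        exact ⟨m', fun φ => by rw [hm' _ φ.2.1, ← hm]; rfl⟩ }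
  let π : M → Q := fun m => ⟨fun φ => Additive.ofMul (φ.1 m), m, fun _ => rfl⟩
  have hsurj : Function.Surjective π := by
    rintro ⟨d, m, hm⟩
    exact ⟨m, Subtype.ext (funext fun φ => (hm φ).symm)⟩
  let act : DistribMulAction H Q :=
    { smul := fun h q => ⟨fun φ => q.1 ⟨φ.1.comp (MulDistribMulAction.toMonoidHom M h), Kp_comp F φ.2 h⟩, by
        obtain ⟨d, m, hm⟩ := q
        exact ⟨h • m, fun φ => hm _⟩⟩
      one_smul := by
        rintro ⟨d, m, hm⟩
        refine Subtype.ext (funext fun φ => ?_)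
        show d _ = d φ
        rw [hm, hm]
        exact congrArg (fun x => Additive.ofMul (φ.1 x)) (one_smul H m)
      mul_smul := by
        rintro g h ⟨d, m, hm⟩
        refine Subtype.ext (funext fun φ => ?_)
        show d _ = d _
        rw [hm, hm]
        exact congrArg (fun x => Additive.ofMul (φ.1 x)) (mul_smul g h m)
      smul_zero := fun h => rfl
      smul_add := fun h q q' => rfl }
  have hact : ∀ (h : H) (m : M), π (h • m) = h • π m := fun _ _ => rfl
  have hcomm : SMulCommClass H Fd Q := ⟨fun h c q => rfl⟩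
  have hker : ∀ m, π m = 0 ↔ m ∈ Np Kh := by
    intro m
    rw [mem_Np_iff F hS hcard]
    constructor
    · intro h φ hφ
      exact congrFun (congrArg Subtype.val h) ⟨φ, hφ⟩
    · intro h
      exact Subtype.ext (funext fun φ => h φ.1 φ.2)
  have hpmul : ∀ m n, π (m * n) = π m + π n := by
    intro m n
    refine Subtype.ext (funext fun φ => ?_)
    show Additive.ofMul (φ.1 (m * n)) = Additive.ofMul (φ.1 m) + Additive.ofMul (φ.1 n)
    rw [map_mul]
    rfl
  obtain ⟨a₁, ha₁, ha₂⟩ : ∃ a ∈ lam, a ≠ 1 := by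
    by_contra hcon
    push Not at hcon
    have h1 : lam = ⊥ := by
      rw [eq_bot_iff]
      exact fun a ha => mem_bot.2 (hcon a ha)
    have h2 := F.four
    rw [h1, Subgroup.card_bot] at h2
    omega
  have hne : π a₁ ≠ 0 := fun h => ha₂ (hNl a₁ ha₁ ((hker _).1 h))
  have hb : ∀ c : Fd, ∃ b : lam, π b = c • π a₁ := by
    intro c
    obtain ⟨b, hb, e⟩ := hS c a₁ ha₁
    exact ⟨⟨b, hb⟩, Subtype.ext (funext fun φ => e _ φ.2.1)⟩
  choose β hβ using hb
  have hinj : Function.Injective β := by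
    intro c d hcd
    have h1 : (c - d) • π a₁ = 0 := (sub_smul c d (π a₁)).trans (by rw [← hβ, ← hβ, hcd, sub_self])
    by_contra h2
    exact hne ((smul_eq_zero_iff_right (sub_ne_zero.2 h2)).1 h1)
  have hbij := (Nat.bijective_iff_injective_and_card β).2 ⟨hinj, hcard.trans F.cardR⟩
  refine ⟨Q, inferInstance, inferInstance, act, hcomm, π, π a₁, ⟨hpmul, hsurj, hact, hker, fun v => ?_, hne⟩⟩
  rw [Submodule.mem_span_singleton]
  constructor
  · rintro ⟨a, ha, rfl⟩
    obtain ⟨c, hc⟩ := hbij.2 ⟨a, ha⟩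
    exact ⟨c, by rw [← hβ, hc]⟩
  · rintro ⟨c, rfl⟩
    exact ⟨β c, (β c).2, hβ c⟩

/-- helper312's `PA` -/
theorem ClassP.pa {H M K : Type u} [Group H] [CommGroup M] [MulDistribMulAction H M] [CommGroup K] {T : Subgroup H}
    {lam U : Subgroup M} {Kh : Subgroup (M →* K)} (F : Flag T lam U Kh) (hML : Cfsg.Agent.Omega.ML.Final.MLK.{u, u})
    (hK : IsKGroup H) {A₁ : Subgroup H} (h : ClassP lam Kh A₁) {Fd Q : Type*} [Field Fd] [AddCommGroup Q]
    [Module Fd Q] [DistribMulAction H Q] [SMulCommClass H Fd Q] {π : M → Q} {a0 : Q}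
    (D : Cnt.Qm Fd H π a0 (Np Kh) lam) : PA Kh lam A₁ D.inv where
  ne := h.atom.ex.ne
  ex := h.atom.ex.card.ge
  cent := fun n hn => by
    rw [mem_cv]
    exact fun a ha => h.np n hn a ha
  o2 := by
    obtain ⟨a, ha, e⟩ := (D.lam a0).2 (Submodule.mem_span_singleton_self a0)
    have ha1 : a ≠ 1 := by
      rintro rfl
      exact D.ne (e ▸ D.map_one)
    have h1 := F.np_o2 hML hK h ha ha1
    have h2 : cst (Np Kh) F.hinv_Np a = Cnt.stN (Np Kh) lam D.inv := by
      rw [D.stN_eq]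
      ext x
      rw [mem_cst, MulAction.mem_stabilizer_iff, ← D.ker, D.map_comm, e, sub_eq_zero]
    rwa [h2] at h1

section rd

variable {G X L : Type*} [Group G] [MulAction G X] [MulAction G L]
variable {inc : X → L → Prop} {R W : X → Subgroup G} {V : L → Subgroup G} {s t : ℕ}
variable {H M K : Type*} [Group H] [CommGroup M] [MulDistribMulAction H M] [CommGroup K]
variable {p : X} {l : L} {Sy : Subgroup G} {ρ : G → H} {π : G → M} {ζ : K →* G} {T : Subgroup H}
  {lam U : Subgroup M} {Kh : Subgroup (M →* K)}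

/-- `K̂` is onto `K` at every element of `lam#`. -/
theorem onL_of (D : Geom inc R W V s t) (E : RD inc R W V p l Sy ρ π ζ T lam U Kh) : OnL lam Kh := by
  intro a ha ha1 r
  obtain ⟨v, hv, rfl⟩ := (E.mlam a).1 ha
  have hvW : v ∈ W p := D.V_le p l E.pl hv
  have hvR : v ∉ R p := fun h => ha1 ((E.re.pker v hvW).2 h)
  have hr : ζ r ∈ R p := (E.ran _).2 ⟨r, rfl⟩
  have hrV : ζ r * v ∈ V l := mul_mem (D.R_le p l E.pl hr) hv
  obtain ⟨y, hyl, hvy⟩ := D.cover l v hv
  obtain ⟨x, hxl, hvx⟩ := D.cover l _ hrV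
  have hyp : y ≠ p := by
    rintro rfl
    exact hvR hvy
  have hxp : x ≠ p := by
    rintro rfl
    exact hvR ((mul_mem_cancel_left hr).1 hvx)
  obtain ⟨k, hk, hk1, hk2⟩ := E.tr x y hxl hxp hyl hyp
  obtain ⟨φ, hφ, hφ1⟩ := E.kh' k hk hk1
  refine ⟨φ, hφ, ?_⟩
  apply E.inj
  rw [← hφ1 v hvW]
  -- both `k v k⁻¹` and `ζ r v` are in `R x`
  have h1 : k * v * k⁻¹ ∈ R x := by
    rw [← hk2]
    exact D.R_smul k y v hvy
  have h2 : (k * v * k⁻¹ * v⁻¹) * (ζ r)⁻¹ ∈ R x := by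
    have h3 := mul_mem h1 (inv_mem hvx)
    have e : k * v * k⁻¹ * (ζ r * v)⁻¹ = k * v * k⁻¹ * v⁻¹ * (ζ r)⁻¹ := by group
    rwa [e] at h3
  have h3 : (k * v * k⁻¹ * v⁻¹) * (ζ r)⁻¹ ∈ R p := mul_mem (hk1 v hvW) (inv_mem hr)
  by_contra hne
  refine hxp (D.ti x p _ h2 h3 fun e => hne ?_)
  exact mul_inv_eq_one.1 e

end rd

end Cfsg.Agent.Omega.NO3S.FullQ

end

section


/-!
# FullB (`q ≥ 4`): the plug of class N

* `nn_iff` : `N_p / p = rad`;
* `false_of_noP` : if no critical pair has a subgroup of class P, there is no critical pair (`n ≥ 2`).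
-/

set_option autoImplicit false
set_option linter.unusedSectionVars false

namespace Cfsg.Agent.Omega.NO3S.FullQ

open Subgroup Cfsg Cfsg.Agent.ZN Cfsg.Agent.Omega.NOThree.Pts Cfsg.Agent.Omega.NO3S.PT
open Cfsg.Agent.Omega.NO3S.FarQ Cfsg.Agent.Omega.NO3S.FarQ.Glue Cfsg.Agent.Omega.NO3S.FarQ.Free
open Cfsg.Agent.Omega.NO3S.FarQ.Asm (ExP)
open Cfsg.Agent.Omega.NO3S.WQ (NN mem_NN KK KK_iff false_of_frm)
open Cfsg.Agent.ClassTwoFusion.Quad (mem_cv)
open Cfsg.Agent.Omega.ML.Final (MLK)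

universe u

variable {G X L : Type*} [Group G] [MulAction G X] [MulAction G L]
variable {inc : X → L → Prop} {R W : X → Subgroup G} {V : L → Subgroup G} {s t n : ℕ}

section nn

variable {H M K : Type*} [Group H] [CommGroup M] [MulDistribMulAction H M] [CommGroup K]
variable {p q : X} {l : L} {Sy : Subgroup G} {ρ : G → H} {π : G → M} {ζ : K →* G} {T : Subgroup H}
  {lam U : Subgroup M} {Kh : Subgroup (M →* K)}

/-- `N_p / R_p = rad` -/
theorem nn_iff (D : Geom inc R W V s t) (E : RD inc R W V p l Sy ρ π ζ T lam U Kh) {w : G} (hw : w ∈ W p) :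
    w ∈ NN R W p ↔ π w ∈ rad Kh := by
  rw [mem_NN, mem_rad]
  constructor
  · rintro ⟨-, h⟩ φ hφ
    obtain ⟨k, hk, hkW⟩ := E.kh φ hφ
    have h1 : KK R W p k := (KK_iff D).2 ⟨hk, fun w' hw' => by
      rw [hkW w' hw']
      exact (E.ran _).2 ⟨_, rfl⟩⟩
    apply E.inj
    rw [map_one, ← hkW w hw, h k h1, mul_inv_cancel_right, mul_inv_cancel]
  · intro h
    refine ⟨hw, fun k hk => ?_⟩
    obtain ⟨hk1, hk2⟩ := (KK_iff D).1 hk
    obtain ⟨φ, hφ, e⟩ := E.kh' k hk1 hk2
    have h1 := e w hw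
    rw [h φ hφ, map_one] at h1
    exact (mul_inv_eq_one.1 (by rw [← h1]; group) : k * w = w * k)

end nn

variable {H M K : Type u} [Group H] [CommGroup M] [MulDistribMulAction H M] [CommGroup K]
variable {p q : X} {l : L} {Sy : Subgroup G} {ρ : G → H} {π : G → M} {ζ : K →* G} {T : Subgroup H}
  {lam U : Subgroup M} {Kh : Subgroup (M →* K)}

/-- **The plug of class N.** -/
theorem false_of_noP [Finite G] (hML : MLK.{u, u}) (hK : IsKGroup H) (D : Geom inc R W V s t)
    (F : Frm inc R W V p l Sy ρ π ζ T lam U Kh) (hn : 2 ≤ n) (hV : Function.Injective V)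
    (t6 : ∀ l u, u ∈ centralizer (V l : Set G) → u * u = 1 → (∀ c ∈ centralizer (V l : Set G), c * u = u * c) →
      u ∈ V l)
    (hE : ∀ a b, Crit inc W n a b → ExP inc R W V n a b)
    (hP : ∀ (a b c : X) (m : L) (hc : Crit inc W n a b) (_ : inc a m) (_ : inc c m) (_ : Walk inc (n - 1) c b)
      (Sy₁ : Subgroup G) (ρ₁ : G → H) (π₁ : G → M) (ζ₁ : K →* G)
      (F₁ : Frm inc R W V a m Sy₁ ρ₁ π₁ ζ₁ T lam U Kh),
      ∀ A₁ ≤ im F₁.re (W b) (W_le_cent D hc (by omega)), ¬ ClassP lam Kh A₁)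
    {a b : X} (hc : Crit inc W n a b) : False := by
  -- every critical `A` is in `C_H(M / rad)`
  have key : ∀ {a b : X} (hc : Crit inc W n a b), ∃ (m : L) (Sy₁ : Subgroup G) (ρ₁ : G → H) (π₁ : G → M)
      (ζ₁ : K →* G) (F₁ : Frm inc R W V a m Sy₁ ρ₁ π₁ ζ₁ T lam U Kh),
      im F₁.re (W b) (W_le_cent D hc (by omega)) ≤ cq (rad Kh) := by
    intro a b hc
    obtain ⟨r, m, hr, hrm, ham⟩ := hc.symm.last (by omega)
    obtain ⟨Sy₁, ρ₁, π₁, ζ₁, F₁⟩ := F.at_flag D ham
    refine ⟨m, Sy₁, ρ₁, π₁, ζ₁, F₁, ?_⟩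
    rcases F₁.flag.dich hML hK (onL_of D F₁.toRD) (exact_of D F₁.toRD (by omega) (hE a b hc) hrm hr.symm) with h | ⟨A₁, h1, h2⟩
    · exact h
    · exact absurd h2 (hP a b r m hc ham hrm hr.symm _ _ _ _ F₁ A₁ h1)
  obtain ⟨m₁, Sy₁, ρ₁, π₁, ζ₁, F₁, hA₁⟩ := key hc
  obtain ⟨m₂, Sy₂, ρ₂, π₂, ζ₂, F₂, hA₂⟩ := key hc.symm
  have hWb : W b ≤ centralizer (R a : Set G) := W_le_cent D hc (by omega)
  have hWa : W a ≤ centralizer (R b : Set G) := W_le_cent D hc.symm (by omega)
  -- some `f ∈ N_b` moves `W_a`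
  obtain ⟨f, hf, hm⟩ : ∃ f ∈ NN R W b, ∃ w ∈ W a, f * w ≠ w * f := by
    by_contra hcon
    push Not at hcon
    apply hc.ne
    intro w hw f hf
    have h1 : π₂ f ∈ rad Kh ⊔ zm M (im F₂.re (W a) hWa) := by
      rw [F₂.flag.sup_zm F₂.flag.hinv_rad hA₂]
      exact mem_top _
    obtain ⟨y, hy, z, hz, e⟩ := mem_sup.1 h1
    obtain ⟨g, hg, rfl⟩ := F₂.re.psurj y
    have hgN : g ∈ NN R W b := (nn_iff D F₂.toRD hg).2 hy
    have hgf : g⁻¹ * f ∈ W b := mul_mem (inv_mem hg) hf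
    have h2 : π₂ (g⁻¹ * f) = z := by
      rw [F₂.re.pmul _ (inv_mem hg) _ hf, π_inv F₂.re hg, ← e, inv_mul_cancel_left]
    have h3 : ∀ w ∈ W a, w * (g⁻¹ * f) = (g⁻¹ * f) * w := by
      apply (hE a b hc).cen' _ hgf
      intro w hw
      rw [comm_mem_iff F₂.re D (hWa hw) hgf, h2]
      exact mem_cv.1 hz _ ⟨w, hw, rfl⟩
    have h4 := h3 w hw
    have h5 := hcon g hgN w hw
    calc w * f = w * (g * (g⁻¹ * f)) := by rw [mul_inv_cancel_left]
      _ = (w * g) * (g⁻¹ * f) := by rw [mul_assoc]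
      _ = g * (w * (g⁻¹ * f)) := by rw [← h5, mul_assoc]
      _ = f * w := by rw [h4]; group
  have hfW : f ∈ W b := (mem_NN.1 hf).1
  refine false_of_frm D F hn hV t6 hE hc hf (fun w hw => ?_) hm
  have h1 : f * w * f⁻¹ * w⁻¹ ∈ W a := mul_mem (Four.norm_p D (hWb hfW) hw) (inv_mem hw)
  rw [nn_iff D F₁.toRD h1, π_comm F₁.re D (hWb hfW) hw]
  exact hA₁ ⟨f, hfW, rfl⟩ _

end Cfsg.Agent.Omega.NO3S.FullQ

end

section


/-!
# FullB, `q ≥ 4`: the `F`-module `Q = M / N⁺` with `Two` (helper298 #21966; helper471 `FMod`)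

* `Lnk Fd Kh π` : the `F`-structures of `Q` and of `K̂` agree;
* `full_of` : every `F`-linear `Q → K` is in `K̂`; `lin_of` : elements of `K̂` are `F`-linear on `lam`;
* **`exists_qm_two`** : `exists_qm` with `Two` for all `h` with `h a₀ ∉ F h⁻¹ a₀` (input of `comm_lam`, `lines_of_pa`).
-/

set_option autoImplicit false
set_option linter.unusedSectionVars false

namespace Cfsg.Agent.Omega.NO3S.FullQ

open Subgroup Cfsg Cfsg.Agent.Omega.NO3S.FarQ

universe u

section lnk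

variable {Fd : Type*} [Field Fd] {H M K : Type*} [Group H] [CommGroup M] [MulDistribMulAction H M] [CommGroup K]
  [Module Fd (Additive K)]
variable {T : Subgroup H} {lam U : Subgroup M} {Kh : Subgroup (M →* K)}
variable {Q : Type*} [AddCommGroup Q] [Module Fd Q] [DistribMulAction H Q] [SMulCommClass H Fd Q]
variable {π : M → Q} {a0 : Q}

/-- the `F`-structures of `Q` and of `K̂` agree -/
def Lnk (Fd : Type*) [Field Fd] {M K : Type*} [CommGroup M] [CommGroup K] [Module Fd (Additive K)]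
    (Kh : Subgroup (M →* K)) {Q : Type*} [AddCommGroup Q] [Module Fd Q] (π : M → Q) : Prop :=
  ∀ (c : Fd) (a b : M), (∀ φ ∈ Kh, Additive.ofMul (φ b) = c • Additive.ofMul (φ a)) → π b = c • π a

/-- **every `F`-linear map `Q → K` is in `K̂`** -/
theorem full_of (F : Flag T lam U Kh) (hS : FSp Fd lam Kh) (hcard : Nat.card Fd = Nat.card K)
    (C : Cnt.Qm Fd H π a0 (Np Kh) lam) (hl : Lnk Fd Kh π) (f : Q →ₗ[Fd] Additive K) :
    ∃ φ ∈ Kh, ∀ m, Additive.ofMul (φ m) = f (π m) := by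
  obtain ⟨D, hD⟩ := F.exists_index_two
  have hDt := ne_top_of_index hD
  let θ : M →* K := MonoidHom.mk' (fun m => (f (π m)).toMul) (fun a b => by
    rw [C.pmul, map_add]
    rfl)
  have hθ' : ∀ m, Additive.ofMul (θ m) = f (π m) := fun _ => rfl
  obtain ⟨ψ, hψ, h1⟩ := F.dual_hom hD θ fun m hm => by
    have h2 : π m = 0 := (C.ker m).2 (Mt_le_Np Kh hDt hm)
    have h3 : Additive.ofMul (θ m) = 0 := by rw [hθ', h2, map_zero]
    have h4 : θ m = 1 := h3
    rw [h4]
    exact one_mem _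
  have h2 : θ * ψ⁻¹ = 1 := by
    refine eq_one_of_lin F hS hcard hDt ?_ h1
    intro c g a ha b hb e
    have e1 : Additive.ofMul (ψ (g • b)) = c • Additive.ofMul (ψ (g • a)) := e _ (F.comp_mem hψ g)
    have e2 : π b = c • π a := hl c a b e
    show Additive.ofMul (θ (g • b)) + -Additive.ofMul (ψ (g • b)) =
      c • (Additive.ofMul (θ (g • a)) + -Additive.ofMul (ψ (g • a)))
    rw [e1, hθ', hθ', C.act, C.act, e2, smul_comm g c, map_smul, smul_add, smul_neg]
  rw [mul_inv_eq_one] at h2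
  exact ⟨ψ, hψ, fun m => by rw [← h2]; exact hθ' m⟩

/-- **elements of `K̂` are `F`-linear on `lam`** -/
theorem lin_of (hS : FSp Fd lam Kh) (C : Cnt.Qm Fd H π a0 (Np Kh) lam) (hl : Lnk Fd Kh π)
    (hNl : ∀ a ∈ lam, a ∈ Np Kh → a = 1) {φ : M →* K} (hφ : φ ∈ Kh) (c : Fd) {a b : M} (ha : a ∈ lam) (hb : b ∈ lam)
    (h : π b = c • π a) : Additive.ofMul (φ b) = c • Additive.ofMul (φ a) := by
  obtain ⟨b', hb', e⟩ := hS c a ha
  have h1 : π b' = c • π a := hl c a b' e
  have h2 : b * b'⁻¹ ∈ Np Kh := by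
    rw [← C.ker]
    have h3 : π (b * b'⁻¹) + π b' = π b := by rw [← C.pmul, inv_mul_cancel_right]
    rw [h, h1] at h3
    exact add_eq_right.1 h3
  have h3 : b * b'⁻¹ = 1 := hNl _ (mul_mem hb (inv_mem hb')) h2
  rw [mul_inv_eq_one] at h3
  rw [h3]
  exact e φ hφ

/-- **`Two`** -/
theorem two_of_lnk (F : Flag T lam U Kh) (hS : FSp Fd lam Kh) (hcard : Nat.card Fd = Nat.card K)
    (hNl : ∀ a ∈ lam, a ∈ Np Kh → a = 1) (C : Cnt.Qm Fd H π a0 (Np Kh) lam) (hl : Lnk Fd Kh π)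
    {h : H} (hi : ∀ c : Fd, h • a0 ≠ c • h⁻¹ • a0) : Two Kh (Np Kh) lam h :=
  two_of C (fun _ hφ g => ⟨_, F.comp_mem hφ g, fun _ => rfl⟩) (full_of F hS hcard C hl)
    (fun _ hφ c _ ha _ hb e => lin_of hS C hl hNl hφ c ha hb e) hi

end lnk

/-- **The `F`-module `Q = M / N⁺` with `Two`** (the construction of `exists_qm`). -/
theorem exists_qm_two {Fd : Type*} [Field Fd] {H : Type*} {M K : Type u} [Group H] [CommGroup M]
    [MulDistribMulAction H M] [CommGroup K] [Module Fd (Additive K)] {T : Subgroup H} {lam U : Subgroup M}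
    {Kh : Subgroup (M →* K)} (F : Flag T lam U Kh) (hS : FSp Fd lam Kh) (hcard : Nat.card Fd = Nat.card K)
    (hNl : ∀ a ∈ lam, a ∈ Np Kh → a = 1) :
    ∃ (Q : Type u) (_ : AddCommGroup Q) (_ : Module Fd Q) (_ : DistribMulAction H Q) (_ : SMulCommClass H Fd Q)
      (π : M → Q) (a0 : Q), Cnt.Qm Fd H π a0 (Np Kh) lam ∧
        ∀ h : H, (∀ c : Fd, h • a0 ≠ c • h⁻¹ • a0) → Two Kh (Np Kh) lam h := by
  have := F.finM
  have : Finite K := by
    have h1 : Nat.card K ≠ 0 := by rw [F.cardR]; exact Nat.card_pos.ne'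
    exact Nat.finite_of_card_ne_zero h1
  have : Finite Fd := by
    have h1 : Nat.card Fd ≠ 0 := by rw [hcard, F.cardR]; exact Nat.card_pos.ne'
    exact Nat.finite_of_card_ne_zero h1
  let Q : Submodule Fd (Kp Fd Kh → Additive K) :=
    { carrier := {d | ∃ m : M, ∀ φ : Kp Fd Kh, d φ = Additive.ofMul (φ.1 m)}
      zero_mem' := ⟨1, fun φ => by rw [map_one]; rfl⟩
      add_mem' := by
        rintro d d' ⟨m, hm⟩ ⟨m', hm'⟩
        exact ⟨m * m', fun φ => by rw [map_mul, ofMul_mul, ← hm, ← hm']; rfl⟩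
      smul_mem' := by
        rintro c d ⟨m, hm⟩
        obtain ⟨m', hm'⟩ := exists_sc F hS c m
        exact ⟨m', fun φ => by rw [hm' _ φ.2.1, ← hm]; rfl⟩ }
  let π : M → Q := fun m => ⟨fun φ => Additive.ofMul (φ.1 m), m, fun _ => rfl⟩
  have hsurj : Function.Surjective π := by
    rintro ⟨d, m, hm⟩
    exact ⟨m, Subtype.ext (funext fun φ => (hm φ).symm)⟩
  let act : DistribMulAction H Q :=
    { smul := fun h q => ⟨fun φ => q.1 ⟨φ.1.comp (MulDistribMulAction.toMonoidHom M h), Kp_comp F φ.2 h⟩, by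
        obtain ⟨d, m, hm⟩ := q
        exact ⟨h • m, fun φ => hm _⟩⟩
      one_smul := by
        rintro ⟨d, m, hm⟩
        refine Subtype.ext (funext fun φ => ?_)
        show d _ = d φ
        rw [hm, hm]
        exact congrArg (fun x => Additive.ofMul (φ.1 x)) (one_smul H m)
      mul_smul := by
        rintro g h ⟨d, m, hm⟩
        refine Subtype.ext (funext fun φ => ?_)
        show d _ = d _
        rw [hm, hm]
        exact congrArg (fun x => Additive.ofMul (φ.1 x)) (mul_smul g h m)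
      smul_zero := fun h => rfl
      smul_add := fun h q q' => rfl }
  have hact : ∀ (h : H) (m : M), π (h • m) = h • π m := fun _ _ => rfl
  have hcomm : SMulCommClass H Fd Q := ⟨fun h c q => rfl⟩
  have hker : ∀ m, π m = 0 ↔ m ∈ Np Kh := by
    intro m
    rw [mem_Np_iff F hS hcard]
    constructor
    · intro h φ hφ
      exact congrFun (congrArg Subtype.val h) ⟨φ, hφ⟩
    · intro h
      exact Subtype.ext (funext fun φ => h φ.1 φ.2)
  have hpmul : ∀ m n, π (m * n) = π m + π n := by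
    intro m n
    refine Subtype.ext (funext fun φ => ?_)
    show Additive.ofMul (φ.1 (m * n)) = Additive.ofMul (φ.1 m) + Additive.ofMul (φ.1 n)
    rw [map_mul]
    rfl
  have hlnk : Lnk Fd Kh π := fun c a b e => Subtype.ext (funext fun φ => e _ φ.2.1)
  obtain ⟨a₁, ha₁, ha₂⟩ : ∃ a ∈ lam, a ≠ 1 := by
    by_contra hcon
    push Not at hcon
    have h1 : lam = ⊥ := by
      rw [eq_bot_iff]
      exact fun a ha => mem_bot.2 (hcon a ha)
    have h2 := F.four
    rw [h1, Subgroup.card_bot] at h2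
    omega
  have hne : π a₁ ≠ 0 := fun h => ha₂ (hNl a₁ ha₁ ((hker _).1 h))
  have hb : ∀ c : Fd, ∃ b : lam, π b = c • π a₁ := by
    intro c
    obtain ⟨b, hb, e⟩ := hS c a₁ ha₁
    exact ⟨⟨b, hb⟩, hlnk c a₁ b e⟩
  choose β hβ using hb
  have hinj : Function.Injective β := by
    intro c d hcd
    have h1 : (c - d) • π a₁ = 0 := (sub_smul c d (π a₁)).trans (by rw [← hβ, ← hβ, hcd, sub_self])
    by_contra h2
    exact hne ((smul_eq_zero_iff_right (sub_ne_zero.2 h2)).1 h1)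
  have hbij := (Nat.bijective_iff_injective_and_card β).2 ⟨hinj, hcard.trans F.cardR⟩
  have C : Cnt.Qm Fd H π (π a₁) (Np Kh) lam := ⟨hpmul, hsurj, hact, hker, fun v => by
    rw [Submodule.mem_span_singleton]
    constructor
    · rintro ⟨a, ha, rfl⟩
      obtain ⟨c, hc⟩ := hbij.2 ⟨a, ha⟩
      exact ⟨c, by rw [← hβ, hc]⟩
    · rintro ⟨c, rfl⟩
      exact ⟨β c, (β c).2, hβ c⟩, hne⟩
  exact ⟨Q, inferInstance, inferInstance, act, hcomm, π, π a₁, C, fun h hi => two_of_lnk F hS hcard hNl C hlnk hi⟩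

end Cfsg.Agent.Omega.NO3S.FullQ

end
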