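import Cfsg.Agent.Mrg.Omega.NO3S.PB.FTwo
import Cfsg.Agent.Mrg.Omega.NO3S.Fld.Mods
import Cfsg.Agent.Mrg.Omega.NO3S.ThmB.Main
import Cfsg.Agent.Mrg.Omega.NO3S.FarQ.Glue


/-!
# FullB: the `F`-structure (`FS` of helper471 #21802)

`PB S B P V R`, `M : Crd F S P V`, `|R| = |F|`:

* `R_eq` : `R = M.R`;
* `act_k` : every `k ∈ C_G(R)` with `[k, V] ≤ R` acts on `V` by `x ↦ (x₀ + c x₁, x₁)`;
* `exists_mod` : `K ≃ R` (by `ζ`) is an `F`-space such that for `c : F` and `v ∈ V` there is `v' ∈ V` with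
  `[k, v'] = c [k, v]` for all these `k`;
* `exists_fs` : the same for `Kh`, `lam` of a realised flag `RD`.
-/

set_option autoImplicit false
set_option linter.unusedSectionVars false

namespace Cfsg.Agent.Omega.NO3S.FullQ

open Subgroup Cfsg Cfsg.Agent.ZN Cfsg.Agent.Omega.MinPar Cfsg.Agent.Omega.Frame Cfsg.Agent.Omega.FrameNOFF
open Cfsg.Agent.Omega.NO3S.Fld Cfsg.Agent.Omega.NO3S.PT
open Cfsg.Agent.Omega.NatPair (ext2)

universe u

variable {G : Type u} [Group G] [Finite G] {S : Sylow 2 G} {B P R V : Subgroup G}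
variable {F : Type*} [Field F] [Finite F]

theorem R_eq (h : PB S B P V R) (M : Crd F (S : Subgroup G) P V) (hc : Nat.card R = Nat.card F) : R = M.R := by
  have key : R ≤ M.R := by
    intro z hz
    obtain ⟨x, rfl⟩ := (M.mem_iff z).1 (h.ZV hz)
    rw [M.e_mem_R]
    by_contra hx
    have h1 : M.R ≤ R := by
      rintro _ ⟨a, rfl⟩
      obtain ⟨s, hs, hsx⟩ := M.full (a / x 1)
      have h2 : s * M.e x * s⁻¹ * (M.e x)⁻¹ ∈ R :=
        mul_mem ((mem_normalizer_iff.1 (h.SN hs) _).1 hz) (inv_mem hz)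
      rw [hsx x] at h2
      have e1 : (![x 0 + a / x 1 * x 1, x 1] : Fin 2 → F) = ![a, 0] + x := by
        apply ext2
        · simp only [Matrix.cons_val_zero, Pi.add_apply]
          field_simp
          ring
        · simp
      rw [e1, M.e_add, mul_inv_cancel_right] at h2
      exact h2
    have h3 : M.R = R := by
      apply Subgroup.eq_of_le_of_card_ge h1
      rw [M.card_R, hc]
    rw [← h3] at hz
    exact hx (M.e_mem_R.1 hz)
  apply Subgroup.eq_of_le_of_card_ge key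
  rw [M.card_R, hc]

/-- the action of `B` -/
theorem act_B (h : PB S B P V R) (M : Crd F (S : Subgroup G) P V) (hR : R = M.R) {b : G} (hb : b ∈ B) :
    ∃ c : F, ∀ x : Fin 2 → F, b * M.e x * b⁻¹ = M.e ![x 0 + c * x 1, x 1] := by
  obtain ⟨c, hc⟩ := M.exists_root (h.BS hb) (by
    rw [mem_centralizer_iff]
    intro z hz
    exact (h.cen z (hR ▸ hz) b hb).symm)
  exact ⟨c, fun x => by simpa using hc x⟩

/-- the action of `K_R` -/
theorem act_k (h : PB S B P V R) (M : Crd F (S : Subgroup G) P V) (hR : R = M.R) {k v : G}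
    (hk : ∀ z ∈ R, k * z = z * k) (hv : v ∈ V) (hvR : v ∉ R) (hkv : k * v * k⁻¹ * v⁻¹ ∈ R) :
    ∃ c : F, ∀ x : Fin 2 → F, k * M.e x * k⁻¹ * (M.e x)⁻¹ = M.e ![c * x 1, 0] := by
  obtain ⟨s, hs, hc⟩ := h.lin' hk hv hvR hkv
  obtain ⟨c, h1⟩ := act_B h M hR (inv_mem hs)
  refine ⟨c, fun x => ?_⟩
  have h2 : s * k * M.e x * (s * k)⁻¹ = M.e x := by
    rw [mul_inv_eq_iff_eq_mul]; exact (mem_centralizer_iff.1 hc _ (M.e_mem x)).symm
  have h3 : k * M.e x * k⁻¹ = s⁻¹ * M.e x * s⁻¹⁻¹ := by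
    calc k * M.e x * k⁻¹ = s⁻¹ * (s * k * M.e x * (s * k)⁻¹) * s := by group
      _ = s⁻¹ * M.e x * s⁻¹⁻¹ := by rw [h2, inv_inv]
  rw [h3, h1, ← M.e_sub]
  congr 1
  apply ext2 <;> simp

/-- **The `F`-structure on `K ≃ R`.** -/
theorem exists_mod (h : PB S B P V R) (M : Crd F (S : Subgroup G) P V) (hcard : Nat.card R = Nat.card F)
    {K : Type*} [CommGroup K] (ζ : K →* G) (inj : Function.Injective ζ) (ran : ∀ g, g ∈ R ↔ ∃ r, ζ r = g) :
    ∃ _ : Module F (Additive K), Nat.card F = Nat.card K ∧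
      ∀ (c : F), ∀ v ∈ V, ∃ v' ∈ V, ∀ k : G, (∀ z ∈ R, k * z = z * k) → (∀ w ∈ V, k * w * k⁻¹ * w⁻¹ ∈ R) →
        ∀ r r' : K, ζ r = k * v * k⁻¹ * v⁻¹ → ζ r' = k * v' * k⁻¹ * v'⁻¹ →
          Additive.ofMul r' = c • Additive.ofMul r := by
  have hR := R_eq h M hcard
  have hmem : ∀ a : F, ∃ r : K, ζ r = M.e ![a, 0] := fun a => (ran _).1 (by
    rw [hR]
    exact ⟨a, rfl⟩)
  choose θ hθ using hmem
  have hadd : ∀ a b : F, θ (a + b) = θ a * θ b := by
    intro a b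
    apply inj
    rw [map_mul, hθ, hθ, hθ, ← M.e_add]
    congr 1
    apply ext2 <;> simp
  have hinj : Function.Injective θ := by
    intro a b hab
    have h1 := hθ a
    rw [hab, hθ b] at h1
    have h2 := congrFun (M.e_inj h1) 0
    simpa using h2.symm
  have hsurj : Function.Surjective θ := by
    intro r
    have h1 : ζ r ∈ R := (ran _).2 ⟨r, rfl⟩
    rw [hR] at h1
    obtain ⟨a, ha⟩ := h1
    exact ⟨a, inj (by rw [hθ, ha])⟩
  let E : Additive K ≃+ F :=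
    (AddEquiv.ofBijective (AddMonoidHom.mk' (fun a : F => Additive.ofMul (θ a))
      (fun a b => by rw [hadd, ofMul_mul])) ⟨fun a b hab => hinj (Additive.ofMul.injective hab), fun r => by
        obtain ⟨a, ha⟩ := hsurj r.toMul
        exact ⟨a, by show Additive.ofMul (θ a) = r; rw [ha]; rfl⟩⟩).symm
  have hE : ∀ a, E.symm a = Additive.ofMul (θ a) := fun a => rfl
  let I : Module F (Additive K) := E.module F
  refine ⟨I, ?_, fun c v hv => ?_⟩
  · exact Nat.card_congr (E.symm.toEquiv.trans Additive.toMul)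
  · obtain ⟨x, rfl⟩ := (M.mem_iff v).1 hv
    refine ⟨M.e ![0, c * x 1], M.e_mem _, fun k hk hkV r r' hr hr' => ?_⟩
    obtain ⟨v₀, hv₀, hv₀R⟩ : ∃ v₀ ∈ V, v₀ ∉ R := h.exists_out
    obtain ⟨d, hd⟩ := act_k h M hR hk hv₀ hv₀R (hkV _ hv₀)
    rw [hd] at hr hr'
    have h1 : r = θ (d * x 1) := inj (by rw [hr, hθ])
    have h2 : r' = θ (c * (d * x 1)) := inj (by
      rw [hr', hθ]
      congr 1
      apply ext2
      · simp only [Matrix.cons_val_zero, Matrix.cons_val_one]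
        ring
      · simp)
    rw [h1, h2]
    show E.symm (c * (d * x 1)) = c • E.symm (d * x 1)
    rw [show c • E.symm (d * x 1) = E.symm (c • E (E.symm (d * x 1))) from rfl, AddEquiv.apply_symm_apply]
    rfl

section rd

open Cfsg.Agent.Omega.NO3S.FarQ

variable {X L : Type*} [MulAction G X] [MulAction G L]
variable {inc : X → L → Prop} {Rf W : X → Subgroup G} {Vf : L → Subgroup G}
variable {H M K : Type*} [Group H] [CommGroup M] [MulDistribMulAction H M] [CommGroup K]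
variable {p : X} {l : L} {Sy : Subgroup G} {ρ : G → H} {π : G → M} {ζ : K →* G} {T : Subgroup H}
  {lam U : Subgroup M} {Kh : Subgroup (M →* K)}

/-- **`FS` at a realised flag `(p, l)`, `V_l = V`, `R_p = R`.** -/
theorem exists_fs (h : PB S B P V R) (C : Crd F (S : Subgroup G) P V) (hcard : Nat.card R = Nat.card F)
    (E : RD inc Rf W Vf p l Sy ρ π ζ T lam U Kh) (hV : Vf l = V) (hR : Rf p = R) (hVW : V ≤ W p) :
    ∃ _ : Module F (Additive K), Nat.card F = Nat.card K ∧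
      ∀ (c : F), ∀ a ∈ lam, ∃ b ∈ lam, ∀ φ ∈ Kh, Additive.ofMul (φ b) = c • Additive.ofMul (φ a) := by
  obtain ⟨I, h1, h2⟩ := exists_mod h C hcard ζ E.inj (fun g => by rw [← hR]; exact E.ran g)
  refine ⟨I, h1, fun c a ha => ?_⟩
  obtain ⟨v, hv, rfl⟩ := (E.mlam a).1 ha
  rw [hV] at hv
  obtain ⟨v', hv', h3⟩ := h2 c v hv
  refine ⟨π v', (E.mlam _).2 ⟨v', hV ▸ hv', rfl⟩, fun φ hφ => ?_⟩
  obtain ⟨k, hk, hkw⟩ := E.kh φ hφ
  refine h3 k (fun z hz => (mem_centralizer_iff.1 hk z (hR ▸ hz)).symm) (fun w hw => ?_) _ _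
    (hkw v (hVW hv)).symm (hkw v' (hVW hv')).symm
  rw [hkw w (hVW hw), ← hR, E.ran]
  exact ⟨_, rfl⟩

end rd

end Cfsg.Agent.Omega.NO3S.FullQ
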