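import Cfsg.Agent.Mrg.Omega.NO3S.FullQ.Base
import Cfsg.Agent.Mrg.Omega.NO3S.FarQ.Glue
import Mathlib

section


/-!
# FULL, `q ≥ 4`: critical pairs of type N have movers (helper298 #21966, #22114 (T4))

`[M, A] ≤ lam`, `A ≤ O₂(C_H(lam))` of exponent 2: `Mv N lam A a` for every `a ∈ A`, `a ≠ 1`, and every `H`-invariant `N`.
-/

set_option autoImplicit false
set_option linter.unusedSectionVars false

namespace Cfsg.Agent.Omega.NO3S.FullQ.Cnt

open Subgroup Cfsg.Agent.ZN Cfsg.Agent.Omega.NO3S.FarQ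
open Cfsg.Agent.MinSimple.VModule (le_o2 o2_le o2_isPGroup le_normalizer_o2)
open Cfsg.Agent.ClassTwoFusion.Quad (cv mem_cv cv_anti)
open Cfsg.Agent.Omega.NO3S.FarQ.Free (eq_bot_of_normal conj_eq_sq mem_of_sq_mem)
open scoped Pointwise

variable {H M K : Type*} [Group H] [CommGroup M] [MulDistribMulAction H M] [CommGroup K]
variable {T : Subgroup H} {lam U : Subgroup M} {Kh : Subgroup (M →* K)} {N : Subgroup M} {A : Subgroup H}

/-- `h` of odd order inverted by `a ∈ O₂(C_H(lam))` and fixing some `1 ≠ x ∈ lam` is trivial. -/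
theorem eq_one_of_fix (F : Flag T lam U Kh) {a h : H} (ha : a ∈ ZN.o2 (fixer (H := H) lam)) (ho : Odd (orderOf h))
    (hi : a * h * a⁻¹ = h⁻¹) {x : M} (hx : x ∈ lam) (hx1 : x ≠ 1) (hhx : (h * h) • x = x) : h = 1 := by
  have hf : h * h ∈ fixer (H := H) lam := fun b hb => F.lin x hx hx1 _ hhx b hb
  have hf' : h ∈ fixer (H := H) lam := mem_of_sq_mem ho hf
  have := F.finH
  have h1 : h * a * h⁻¹ ∈ ZN.o2 (fixer (H := H) lam) := by
    have h2 := le_normalizer_o2 _ hf'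
    exact (mem_normalizer_iff.1 h2 a).1 ha
  have h3 : h * h ∈ ZN.o2 (fixer (H := H) lam) := by
    rw [← conj_eq_sq hi]
    exact mul_mem h1 (inv_mem ha)
  have h4 : h ∈ ZN.o2 (fixer (H := H) lam) := mem_of_sq_mem ho h3
  obtain ⟨k, hk⟩ := (o2_isPGroup (fixer (H := H) lam)) ⟨h, h4⟩
  have h5 : h ^ 2 ^ k = 1 := congrArg Subtype.val hk
  have h6 : Nat.Coprime (orderOf h) (2 ^ k) := (Nat.coprime_two_right.2 ho).pow_right _
  exact orderOf_eq_one_iff.1 (Nat.Coprime.eq_one_of_dvd h6 (orderOf_dvd_of_pow_eq_one h5))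

/-- **(T4)** -/
theorem mv_of_typeN (F : Flag T lam U Kh) (hN : HInv H N) (hA : A ≤ ZN.o2 (fixer (H := H) lam))
    (hsq : ∀ a ∈ A, a * a = 1) (hl : ∀ b ∈ A, ∀ m : M, (b • m) * m⁻¹ ∈ lam) :
    ∀ a ∈ A, a ≠ 1 → Mv N lam A a := by
  intro a ha ha1
  have := F.finH
  have hM := F.finM
  obtain ⟨h, h1, ho, hi⟩ := Cfsg.Agent.Involutions.BaerSuzuki.exists_odd_inverted a (hsq a ha) (by
    intro h1
    apply ha1
    have h2 := eq_bot_of_normal F h1
    have h3 : a ∈ (normalClosure {a} : Subgroup H) := subset_normalClosure rfl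
    rw [h2] at h3
    exact mem_bot.1 h3)
  have hfix : ∀ x ∈ lam, a • x = x := fun x hx => o2_le _ (hA ha) x hx
  have e1 : a * h = h⁻¹ * a := by rw [← hi]; group
  have e2 : a * h⁻¹ = h * a := by
    have h3 : a * h⁻¹ * a⁻¹ = h := by
      have := congrArg (fun x => x⁻¹) hi
      simpa [mul_assoc] using this
    calc a * h⁻¹ = a * h⁻¹ * a⁻¹ * a := by group
      _ = h * a := by rw [h3]
  -- `a h x = h⁻¹ x`
  have ah : ∀ x ∈ lam, a • h • x = h⁻¹ • x := fun x hx => by rw [← mul_smul, e1, mul_smul, hfix x hx]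
  have ah' : ∀ x ∈ lam, a • h⁻¹ • x = h • x := fun x hx => by rw [← mul_smul, e2, mul_smul, hfix x hx]
  have mh : ∀ {g : H} {x : M}, x ∈ lam → g • x ∈ g • lam := fun {g x} hx => Subgroup.smul_mem_pointwise_smul _ _ _ hx
  -- `x ↦ [h x, a]` is a bijection of `lam`
  have hbij : ∀ y ∈ lam, ∃ x ∈ lam, (h⁻¹ • x) * (h • x)⁻¹ = y := by
    let φ : lam → lam := fun x => ⟨(h⁻¹ • (x : M)) * (h • (x : M))⁻¹, by
      rw [← ah x x.2]
      exact hl a ha _⟩
    have hinj : Function.Injective φ := by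
      intro x x' hxx
      have h3 : (h⁻¹ • (x : M)) * (h • (x : M))⁻¹ = (h⁻¹ • (x' : M)) * (h • (x' : M))⁻¹ := congrArg Subtype.val hxx
      have h4 : h⁻¹ • ((x : M) * (x' : M)⁻¹) = h • ((x : M) * (x' : M)⁻¹) := by
        rw [smul_mul', smul_mul', smul_inv', smul_inv', mul_inv_eq_iff_eq_mul]
        rw [mul_inv_eq_iff_eq_mul] at h3
        rw [h3]
        generalize h⁻¹ • (x' : M) = u
        generalize h • (x' : M) = v
        generalize h • (x : M) = w
        calc u * v⁻¹ * w = w * v⁻¹ * u := by rw [mul_comm, mul_comm u, ← mul_assoc]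
          _ = w * v⁻¹ * u := rfl
      have h5 : (h * h) • ((x : M) * (x' : M)⁻¹) = (x : M) * (x' : M)⁻¹ := by
        rw [mul_smul, ← h4, smul_inv_smul]
      by_contra hne
      have h6 : (x : M) * (x' : M)⁻¹ ≠ 1 := fun e => hne (Subtype.ext (mul_inv_eq_one.1 e))
      exact h1 (eq_one_of_fix F (hA ha) ho hi (mul_mem x.2 (inv_mem x'.2)) h6 h5)
    have hb : Function.Surjective φ := Finite.surjective_of_injective hinj
    intro y hy
    obtain ⟨x, hx⟩ := hb ⟨y, hy⟩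
    exact ⟨x, x.2, congrArg Subtype.val hx⟩
  have hle : lam ≤ (h • lam) ⊔ (h⁻¹ • lam) ⊔ N := by
    intro y hy
    obtain ⟨x, hx, rfl⟩ := hbij y hy
    exact mem_sup_left (mul_mem (mem_sup_right (mh hx)) (mem_sup_left (inv_mem (mh hx))))
  refine ⟨h, h1, ho, hi, hle, fun b hb m hm => ?_, ?_⟩
  · have e : b • m = (b • m * m⁻¹) * m := by rw [inv_mul_cancel_right]
    rw [e]
    exact mul_mem (hle (hl b hb m)) hm
  · have hPP : ∀ m ∈ (h • lam) ⊔ (h⁻¹ • lam) ⊔ N, m ∈ ((h • lam) ⊔ (h⁻¹ • lam) ⊔ N).comap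
        (MulDistribMulAction.toMonoidHom M h) := by
      have : (h • lam) ⊔ (h⁻¹ • lam) ⊔ N ≤ ((h • lam) ⊔ (h⁻¹ • lam) ⊔ N).comap
          (MulDistribMulAction.toMonoidHom M h) := by
        refine sup_le (sup_le ?_ ?_) ?_
        · -- `h² lam ≤ lam · h lam`
          intro m hm
          obtain ⟨x, hx, rfl⟩ := Subgroup.mem_smul_pointwise_iff_exists _ _ _ |>.1 hm
          show h • h • x ∈ (h • lam) ⊔ (h⁻¹ • lam) ⊔ N
          have h3 : h • h • x = (h • ((a • h⁻¹ • x) * (h⁻¹ • x)⁻¹)) * x := by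
            rw [smul_mul', smul_inv', smul_inv_smul, inv_mul_cancel_right, ah' x hx]
          rw [h3]
          exact mul_mem (mem_sup_left (mem_sup_left (mh (hl a ha _)))) (hle hx)
        · intro m hm
          obtain ⟨x, hx, rfl⟩ := Subgroup.mem_smul_pointwise_iff_exists _ _ _ |>.1 hm
          show h • h⁻¹ • x ∈ (h • lam) ⊔ (h⁻¹ • lam) ⊔ N
          rw [smul_inv_smul]
          exact hle hx
        · exact fun m hm => mem_sup_right (hN h m hm)
      exact this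
    exact fun m hm => hPP m hm

end Cfsg.Agent.Omega.NO3S.FullQ.Cnt

end

section


/-!
# NO-3S, `FullB`, `q ≥ 4`, class P (helper471 #21459, section 4): the form `kap`

`s x y` is the unique line vector over the vector `x v₀ + y v₁` of the plane `P⁺/N⁺`, `u t`, `l t` are the two root
groups (trivial on `N = N⁺`).

* `Pl.exists_kap` : `s x y = s x 0 + s 0 y + kap (x y)`, `kap : F →+ M` with values in `N`;
* `Pl.val` : `[m, u t] = s (t φ(m)) 0 + kap (t φ(m)²)` for all `m`;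
* `kap_zero_of_two` : two independent root groups in `A` (`d ≥ 2`) ⟹ `kap = 0`.
-/

set_option autoImplicit false

namespace Cfsg.Agent.Omega.NO3S.FullQ

variable {F M H : Type*} [Field F] [AddCommGroup M] [Group H] [DistribMulAction H M]

/-- the plane: `s x y` = the line vector over `x v₀ + y v₁`; `u`, `l` the root groups of `SL₂(F)` -/
structure Pl (N : AddSubgroup M) (u l : F → H) (s : F → F → M) : Prop where
  two : ∀ m : M, m + m = 0
  ax : ∀ x x', s x 0 + s x' 0 = s (x + x') 0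
  ay : ∀ y y', s 0 y + s 0 y' = s 0 (y + y')
  b : ∀ x y x' y', s x y + s x' y' + s (x + x') (y + y') ∈ N
  us : ∀ t x y, u t • s x y = s (x + t * y) y
  ls : ∀ t x y, l t • s x y = s x (y + t * x)
  un : ∀ t, ∀ n ∈ N, u t • n = n
  ln : ∀ t, ∀ n ∈ N, l t • n = n

namespace Pl

variable {N : AddSubgroup M} {u l : F → H} {s : F → F → M} (P : Pl N u l s)
include P

theorem eq_of_add {a b : M} (h : a + b = 0) : a = b := by
  have h1 := congrArg (· + b) h
  simp only [zero_add] at h1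
  rw [← h1, add_assoc, P.two, add_zero]

theorem s00 : s 0 0 = 0 := by
  have h := P.ax 0 0
  rw [add_zero] at h
  have h2 := P.two (s 0 0)
  rw [h] at h2; exact h2

/-- `K(x,y;x')` does not depend on `x` -/
theorem ku (x y x' : F) : s x y + s x' 0 + s (x + x') y = s 0 y + s x' 0 + s x' y := by
  by_cases hy : y = 0
  · subst hy
    rw [P.ax, P.two, P.s00, zero_add, P.two]
  · have h0 := P.b 0 y x' 0
    rw [zero_add, add_zero] at h0
    have h := P.un (x / y) _ h0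
    rw [smul_add, smul_add, P.us, P.us, P.us] at h
    have e : x / y * y = x := div_mul_cancel₀ x hy
    rw [e, mul_zero, add_zero, zero_add, add_comm x' x] at h
    exact h

theorem kl (x y y' : F) : s x y + s 0 y' + s x (y + y') = s x 0 + s 0 y' + s x y' := by
  by_cases hx : x = 0
  · subst hx
    rw [P.ay, P.two, P.s00, zero_add, P.two]
  · have h0 := P.b x 0 0 y'
    rw [zero_add, add_zero] at h0
    have h := P.ln (y / x) _ h0
    rw [smul_add, smul_add, P.ls, P.ls, P.ls] at h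
    have e : y / x * x = y := div_mul_cancel₀ y hx
    rw [e, mul_zero, add_zero, zero_add, add_comm y' y] at h
    exact h

omit P in
/-- the defect -/
def kk (s : F → F → M) (x y : F) : M := s x y + (s x 0 + s 0 y)

theorem s_eq (x y : F) : s x y = kk s x y + (s x 0 + s 0 y) := by
  unfold kk; rw [add_assoc, P.two, add_zero]

theorem k_mem (x y : F) : kk s x y ∈ N := by
  have h := P.b x 0 0 y
  rw [zero_add, add_zero] at h
  rw [kk, add_comm]
  exact h

theorem k_addl (x x' y : F) : kk s (x + x') y = kk s x y + kk s x' y := by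
  have h := P.ku x y x'
  rw [P.s_eq x y, P.s_eq (x + x') y, P.s_eq x' y, ← P.ax x x'] at h
  symm
  apply P.eq_of_add
  have e : kk s x y + (s x 0 + s 0 y) + s x' 0 + (kk s (x + x') y + (s x 0 + s x' 0 + s 0 y)) =
      (kk s x y + kk s (x + x') y) + ((s x 0 + s 0 y + s x' 0) + (s x 0 + s 0 y + s x' 0)) := by abel
  have e' : s 0 y + s x' 0 + (kk s x' y + (s x' 0 + s 0 y)) =
      kk s x' y + ((s 0 y + s x' 0) + (s 0 y + s x' 0)) := by abel
  rw [e, e', P.two, P.two, add_zero, add_zero] at h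
  rw [add_right_comm, h, P.two]

theorem k_addr (x y y' : F) : kk s x (y + y') = kk s x y + kk s x y' := by
  have h := P.kl x y y'
  rw [P.s_eq x y, P.s_eq x (y + y'), P.s_eq x y', ← P.ay y y'] at h
  symm
  apply P.eq_of_add
  have e : kk s x y + (s x 0 + s 0 y) + s 0 y' + (kk s x (y + y') + (s x 0 + (s 0 y + s 0 y'))) =
      (kk s x y + kk s x (y + y')) + ((s x 0 + s 0 y + s 0 y') + (s x 0 + s 0 y + s 0 y')) := by abel
  have e' : s x 0 + s 0 y' + (kk s x y' + (s x 0 + s 0 y')) =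
      kk s x y' + ((s x 0 + s 0 y') + (s x 0 + s 0 y')) := by abel
  rw [e, e', P.two, P.two, add_zero, add_zero] at h
  rw [add_right_comm, h, P.two]

/-- the torus relation `k (t y₁) y₂ = k (t y₂) y₁` -/
theorem k_swap (t y₁ y₂ : F) : kk s (t * y₁) y₂ = kk s (t * y₂) y₁ := by
  have h0 := P.b 0 y₁ 0 y₂
  rw [add_zero] at h0
  have h := P.un t _ h0
  rw [smul_add, smul_add, P.us, P.us, P.us, zero_add, zero_add, zero_add, P.ay, P.two] at h
  rw [P.s_eq (t * y₁) y₁, P.s_eq (t * y₂) y₂, P.s_eq (t * (y₁ + y₂)) (y₁ + y₂)] at h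
  have a1 := P.ax (t * y₁) (t * y₂)
  rw [← mul_add] at a1
  rw [← a1, ← P.ay y₁ y₂] at h
  rw [mul_add t y₁ y₂, P.k_addl, P.k_addr, P.k_addr] at h
  have e : kk s (t * y₁) y₁ + (s (t * y₁) 0 + s 0 y₁) + (kk s (t * y₂) y₂ + (s (t * y₂) 0 + s 0 y₂)) +
      (kk s (t * y₁) y₁ + kk s (t * y₁) y₂ + (kk s (t * y₂) y₁ + kk s (t * y₂) y₂) +
      (s (t * y₁) 0 + s (t * y₂) 0 + (s 0 y₁ + s 0 y₂))) =
      (kk s (t * y₁) y₂ + kk s (t * y₂) y₁) +
      ((kk s (t * y₁) y₁ + kk s (t * y₂) y₂ + s (t * y₁) 0 + s 0 y₁ + s (t * y₂) 0 + s 0 y₂) +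
      (kk s (t * y₁) y₁ + kk s (t * y₂) y₂ + s (t * y₁) 0 + s 0 y₁ + s (t * y₂) 0 + s 0 y₂)) := by abel
  rw [e, P.two, add_zero] at h
  exact P.eq_of_add h

/-- **`kap`** -/
theorem exists_kap : ∃ k : F →+ M, (∀ z, k z ∈ N) ∧ ∀ x y, s x y = s x 0 + s 0 y + k (x * y) := by
  refine ⟨AddMonoidHom.mk' (fun z => kk s z 1) (fun a b => P.k_addl a b 1), fun z => P.k_mem z 1, fun x y => ?_⟩
  have h := P.k_swap x y 1
  rw [mul_one] at h
  show s x y = s x 0 + s 0 y + kk s (x * y) 1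
  rw [h, P.s_eq x y]
  unfold kk
  abel

end Pl

/-- the value of the commutator with `u t` on `M` -/
theorem Pl.val {N : AddSubgroup M} {u l : F → H} {s : F → F → M} (P : Pl N u l s) {k : F →+ M}
    (hk : ∀ x y, s x y = s x 0 + s 0 y + k (x * y)) (φ : M →+ F) (hs : ∀ y, φ (s 0 y) = y) {t : F}
    (h0 : ∀ m, φ m = 0 → u t • m = m) (m : M) :
    u t • m + m = s (t * φ m) 0 + k (t * φ m ^ 2) := by
  obtain ⟨n, hn⟩ : ∃ n, n = m + s 0 (φ m) := ⟨_, rfl⟩
  have hm : m = n + s 0 (φ m) := by rw [hn, add_assoc, P.two, add_zero]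
  have hn0 : φ n = 0 := by
    rw [hn, map_add, hs]
    have h2 : φ m + φ m = φ (m + m) := (map_add φ m m).symm
    rw [h2, P.two, map_zero]
  have h1 : u t • m = n + s (t * φ m) (φ m) := by
    conv_lhs => rw [hm]
    rw [smul_add, h0 n hn0, P.us, zero_add]
  have h3 : s (t * φ m) (φ m) = s (t * φ m) 0 + s 0 (φ m) + k (t * φ m ^ 2) := by
    rw [hk (t * φ m) (φ m)]
    congr 2
    ring
  have e : n + (s (t * φ m) 0 + s 0 (φ m) + k (t * φ m ^ 2)) + (n + s 0 (φ m)) =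
      s (t * φ m) 0 + k (t * φ m ^ 2) + ((n + s 0 (φ m)) + (n + s 0 (φ m))) := by abel
  rw [h1, h3]
  conv_lhs => rw [show m = n + s 0 (φ m) from hm]
  have e2 : φ (n + s 0 (φ m)) = φ m := by rw [← hm]
  rw [e2, e, P.two, add_zero]

/-- `d ≥ 2` : the form `kap` is zero -/
theorem kap_zero_of_two [Finite F] [CharP F 2] (h4 : 4 ≤ Nat.card F) (two : ∀ m : M, m + m = 0) {σ k k' : F →+ M}
    (h : ∀ t t' : F, t ≠ 0 → t' ≠ 0 → ∃ (k'' : F → M), ∀ x x' : F,
      σ x + k (x ^ 2 / t) + (σ x' + k' (x' ^ 2 / t')) = σ (x + x') + k'' (x + x')) : k = 0 := by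
  have key : ∀ t t' : F, t ≠ 0 → t' ≠ 0 → ∀ x : F, k (x ^ 2 / t) = k' (x ^ 2 / t') := by
    intro t t' ht ht' x
    obtain ⟨k'', h1⟩ := h t t' ht ht'
    have a := h1 x 0
    have b := h1 0 x
    simp only [map_zero, add_zero, zero_add, ne_eq, OfNat.ofNat_ne_zero, not_false_eq_true, zero_pow, zero_div] at a b
    have c := a.trans b.symm
    exact add_left_cancel c
  obtain ⟨c, hc0, hc1⟩ : ∃ c : F, c ≠ 0 ∧ c ≠ 1 := by
    by_contra hc
    push Not at hc
    have h5 : (Set.univ : Set F) ⊆ {0, 1} := fun x _ => by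
      by_cases hx : x = 0
      · exact Or.inl hx
      · exact Or.inr (hc x hx)
    have h6 := Set.ncard_le_ncard h5 (Set.toFinite _)
    rw [Set.ncard_univ] at h6
    have h7 := Set.ncard_insert_le (0 : F) {1}
    rw [Set.ncard_singleton] at h7
    omega
  have hsq : ∀ z : F, ∃ x, x ^ 2 = z := by
    have hi : Function.Injective (fun x : F => x ^ 2) := by
      intro x y hxy
      have h9 : x ^ 2 = y ^ 2 := hxy
      have h8 : (x - y) ^ 2 = 0 := by
        have e2 : (2 : F) = 0 := CharTwo.two_eq_zero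
        linear_combination h9 + (y ^ 2 - x * y) * e2
      exact sub_eq_zero.mp (pow_eq_zero_iff (two_ne_zero) |>.mp h8)
    exact Finite.surjective_of_injective hi
  have key2 : ∀ z : F, k (z / c) = k z := by
    intro z
    obtain ⟨x, hx⟩ := hsq z
    have a := key c 1 hc0 one_ne_zero x
    have b := key 1 1 one_ne_zero one_ne_zero x
    rw [hx] at a b
    rw [a, ← b, div_one]
  have hd : (1 / c + 1 : F) ≠ 0 := by
    intro e
    apply hc1
    have h2 : (1 / c + 1) * c = 0 := by rw [e, zero_mul]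
    rw [add_mul, div_mul_cancel₀ _ hc0, one_mul] at h2
    exact (CharTwo.add_eq_zero.mp h2).symm
  ext z
  have h5 := key2 (z / (1 / c + 1))
  have h6 : k z = k (z / (1 / c + 1) / c) + k (z / (1 / c + 1)) := by
    rw [← map_add]
    congr 1
    have e3 : z / (1 / c + 1) / c + z / (1 / c + 1) = z / (1 / c + 1) * (1 / c + 1) := by
      rw [mul_add, mul_one, mul_one_div]
    rw [e3, div_mul_cancel₀ _ hd]
  rw [h6, h5, two]
  rfl

end Cfsg.Agent.Omega.NO3S.FullQ

end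

section


/-!
# NO-3S, `FullB`, `q ≥ 4`, class P (helper471 #21459, section 4, with helper973's fill-in (s1), (s2))

`Q = M / N⁺` is an `F`-space, `H` acts `F`-linearly, `a₀` generates the image of `lam`.

* `Lv π lam a₀` : the line vectors;
* `Tr π x φ` : for all `c` some `e ∈ H` acts as `v + c φ(v) x` on `Q` and trivially on `ker π`;
* `Lv.fix` : such an `e` fixes every `m` with `φ (π m) = 0`;
* `Lv.plane`, `Lv.val` : `[m, e] = σ (φ m) + k ((φ m)² / t)`;
* `Lv.le_lam` : two independent `φ` ⟹ `[M, e] ≤ lam`.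
-/

set_option autoImplicit false
set_option linter.unusedSectionVars false

namespace Cfsg.Agent.Omega.NO3S.FullQ

variable {F Q H M : Type*} [Field F] [CharP F 2] [AddCommGroup Q] [Module F Q] [Group H] [DistribMulAction H Q]
  [SMulCommClass H F Q] [AddCommGroup M] [DistribMulAction H M]

variable (F H) in
/-- the line vectors of `M` over `Q = M / N⁺` -/
structure Lv (π : M →+ Q) (lam : AddSubgroup M) (a0 : Q) : Prop where
  two : ∀ m : M, m + m = 0
  act : ∀ (h : H) (m : M), π (h • m) = h • π m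
  ne : a0 ≠ 0
  lamc : ∀ a ∈ lam, ∃ c : F, π a = c • a0
  clam : ∀ c : F, ∃ a ∈ lam, π a = c • a0
  uniq : ∀ h h' : H, ∀ a ∈ lam, ∀ b ∈ lam, π (h • a) = π (h' • b) → h • a = h' • b
  gen : ∀ N : AddSubgroup M, (∀ h : H, ∀ a ∈ lam, h • a ∈ N) → N = ⊤

variable (H) in
/-- `e` acts as `v + φ(v) x` on `Q`, trivially on `ker π` -/
def IsE (π : M →+ Q) (x : Q) (φ : Q →ₗ[F] F) (e : H) : Prop :=
  (∀ v : Q, e • v = v + φ v • x) ∧ ∀ m : M, π m = 0 → e • m = m

variable (H) in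
/-- all `F`-multiples are realised -/
def Tr (π : M →+ Q) (x : Q) (φ : Q →ₗ[F] F) : Prop := ∀ c : F, ∃ e : H, IsE H π x (c • φ) e

variable (H) in
/-- `m` is a line vector over `v` -/
def LVec (π : M →+ Q) (lam : AddSubgroup M) (v : Q) (m : M) : Prop := ∃ h : H, ∃ a ∈ lam, m = h • a ∧ π m = v

theorem v_add_v (F : Type*) {Q : Type*} [Field F] [CharP F 2] [AddCommGroup Q] [Module F Q] (v : Q) : v + v = 0 := by
  have h : ((1 : F) + 1) • v = 0 := by rw [CharTwo.add_self_eq_zero, zero_smul]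
  rwa [add_smul, one_smul] at h

section basics

variable {π : M →+ Q} {x : Q} {φ ψ : Q →ₗ[F] F}

omit [CharP F 2] in
theorem Tr.smul (h : Tr H π x φ) (c : F) : Tr H π x (c • φ) := by
  intro d
  obtain ⟨e, he⟩ := h (d * c)
  exact ⟨e, by rwa [smul_smul]⟩

omit [CharP F 2] in
theorem Tr.ker (h : Tr H π x φ) (hx : x ≠ 0) : φ x = 0 := by
  by_contra hc
  obtain ⟨e, he, -⟩ := h (-(φ x)⁻¹)
  have h1 := he x
  rw [LinearMap.smul_apply, smul_eq_mul, neg_mul, inv_mul_cancel₀ hc, neg_smul, one_smul, add_neg_cancel] at h1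
  exact hx ((smul_eq_zero_iff_eq e).mp h1)

omit [CharP F 2] in
theorem IsE.ker {e : H} (h : IsE H π x φ e) (hx : φ x = 0) : e • x = x := by
  rw [h.1 x, hx, zero_smul, add_zero]

omit [CharP F 2] in
theorem IsE.mul {e f : H} (h : IsE H π x φ e) (g : IsE H π x ψ f) (hx : φ x = 0) :
    IsE H π x (φ + ψ) (e * f) := by
  refine ⟨fun v => ?_, fun m hm => by rw [mul_smul, g.2 m hm, h.2 m hm]⟩
  rw [mul_smul, g.1 v, smul_add, smul_comm e, h.ker hx, h.1 v, LinearMap.add_apply, add_smul]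
  abel

omit [CharP F 2] in
theorem Tr.add (h : Tr H π x φ) (g : Tr H π x ψ) (hx : x ≠ 0) : Tr H π x (φ + ψ) := by
  intro c
  obtain ⟨e, he⟩ := h c
  obtain ⟨f, hf⟩ := g c
  refine ⟨e * f, ?_⟩
  rw [smul_add]
  exact he.mul hf (by rw [LinearMap.smul_apply, h.ker hx, smul_zero])

/-- the functional `φ ∘ h⁻¹` -/
def tw (h : H) (φ : Q →ₗ[F] F) : Q →ₗ[F] F := φ ∘ₗ (DistribSMul.toLinearMap F Q h⁻¹)

omit [CharP F 2] in
theorem tw_apply (h : H) (φ : Q →ₗ[F] F) (v : Q) : tw h φ v = φ (h⁻¹ • v) := rfl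

omit [CharP F 2] in
theorem Tr.conj (hact : ∀ (h : H) (m : M), π (h • m) = h • π m) (h : Tr H π x φ) (g : H) :
    Tr H π (g • x) (tw g φ) := by
  intro c
  obtain ⟨e, he, he'⟩ := h c
  refine ⟨g * e * g⁻¹, fun v => ?_, fun m hm => ?_⟩
  · rw [mul_smul, mul_smul, he (g⁻¹ • v), smul_add, smul_inv_smul, smul_comm g]
    rfl
  · have h1 : π (g⁻¹ • m) = 0 := by rw [hact, hm, smul_zero]
    rw [mul_smul, mul_smul, he' _ h1, smul_inv_smul]

end basics

namespace Lv

variable {π : M →+ Q} {lam : AddSubgroup M} {a0 : Q} (L : Lv F H π lam a0)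
include L

omit [CharP F 2] [SMulCommClass H F Q] in
theorem lvec_uniq {v : Q} {m m' : M} (h : LVec H π lam v m) (h' : LVec H π lam v m') : m = m' := by
  obtain ⟨g, a, ha, rfl, h1⟩ := h
  obtain ⟨g', a', ha', rfl, h2⟩ := h'
  exact L.uniq g g' a ha a' ha' (h1.trans h2.symm)

omit [CharP F 2] [SMulCommClass H F Q] in
theorem lvec_smul {v : Q} {m : M} (h : LVec H π lam v m) (g : H) : LVec H π lam (g • v) (g • m) := by
  obtain ⟨g', a, ha, rfl, h1⟩ := h
  exact ⟨g * g', a, ha, by rw [mul_smul], by rw [L.act, h1]⟩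

omit [CharP F 2] [SMulCommClass H F Q] in
theorem lvec_of {a : M} (ha : a ∈ lam) (h : H) : LVec H π lam (π (h • a)) (h • a) := ⟨h, a, ha, rfl, rfl⟩

omit [CharP F 2] [SMulCommClass H F Q] in
theorem lvec_lam {a : M} (ha : a ∈ lam) : LVec H π lam (π a) a := ⟨1, a, ha, (one_smul H a).symm, rfl⟩

omit [CharP F 2] [SMulCommClass H F Q] in
theorem two' (m : M) : -m = m := by
  have h := L.two m
  exact neg_eq_of_add_eq_zero_left h

/-- the section `F → lam` -/
theorem exists_sec : ∃ σ : F →+ M, (∀ c, σ c ∈ lam) ∧ ∀ c, π (σ c) = c • a0 := by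
  choose f hf hf' using L.clam
  have key : ∀ c d, f (c + d) = f c + f d := by
    intro c d
    refine L.lvec_uniq (v := (c + d) • a0) ?_ ?_
    · rw [← hf' (c + d)]; exact L.lvec_lam (hf _)
    · have h1 : π (f c + f d) = (c + d) • a0 := by rw [map_add, hf', hf', add_smul]
      rw [← h1]; exact L.lvec_lam (add_mem (hf _) (hf _))
  exact ⟨AddMonoidHom.mk' f key, hf, hf'⟩

variable [Finite Q] [Finite F]

/-- (s1) joined is symmetric -/
theorem exists_join {φ : Q →ₗ[F] F} (hφ : Tr H π a0 φ) {h : H} (hx : φ (h • a0) ≠ 0) :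
    ∃ ψ : Q →ₗ[F] F, Tr H π (h • a0) ψ ∧ ψ a0 ≠ 0 := by
  by_contra hc
  push Not at hc
  have hne : h • a0 ≠ 0 := fun e => hx (by rw [e, map_zero])
  have key : ∀ χ : Q →ₗ[F] F, Tr H π (h • a0) χ → Tr H π a0 χ := by
    intro χ hχ
    have h0 := hc χ hχ
    obtain ⟨e, he, -⟩ := hχ 1
    rw [one_smul] at he
    have h1 : e • a0 = a0 := by rw [he, h0, zero_smul, add_zero]
    have h2 : ∀ v, e⁻¹ • v = v + χ v • h • a0 := by
      intro v
      rw [inv_smul_eq_iff, smul_add, he v, smul_comm e, he (h • a0), hχ.ker hne, zero_smul, add_zero, add_assoc,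
        v_add_v F, add_zero]
    have h3 := hφ.conj L.act e
    rw [h1] at h3
    have h4 : tw e φ = φ + (φ (h • a0)) • χ := by
      ext v
      rw [tw_apply, h2 v, map_add, map_smul, LinearMap.add_apply, LinearMap.smul_apply, smul_eq_mul, smul_eq_mul,
        mul_comm]
    rw [h4] at h3
    have h5 := (h3.add (hφ.smul (-1)) L.ne).smul (φ (h • a0))⁻¹
    have h6 : (φ (h • a0))⁻¹ • (φ + φ (h • a0) • χ + (-1 : F) • φ) = χ := by
      ext v
      simp only [LinearMap.smul_apply, LinearMap.add_apply, smul_eq_mul]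
      field_simp
      ring
    rwa [h6] at h5
  have : Finite (Q →ₗ[F] F) := DFunLike.finite _
  obtain ⟨S1, hS1⟩ : ∃ S : Set (Q →ₗ[F] F), ∀ χ, χ ∈ S ↔ Tr H π (h • a0) χ :=
    ⟨{χ | Tr H π (h • a0) χ}, fun χ => Iff.rfl⟩
  obtain ⟨S0, hS0⟩ : ∃ S : Set (Q →ₗ[F] F), ∀ χ, χ ∈ S ↔ Tr H π a0 χ := ⟨{χ | Tr H π a0 χ}, fun χ => Iff.rfl⟩
  have hcard : S1 = S0 := by
    refine Set.eq_of_subset_of_ncard_le (fun χ hχ => (hS0 χ).mpr (key χ ((hS1 χ).mp hχ))) ?_
    have hi : Function.Injective (tw (F := F) (Q := Q) h) := by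
      intro χ χ' e
      ext v
      have h1 := LinearMap.congr_fun e (h • v)
      rwa [tw_apply, tw_apply, inv_smul_smul] at h1
    rw [← Set.ncard_image_of_injective S0 hi]
    refine Set.ncard_le_ncard ?_ (Set.toFinite _)
    rintro _ ⟨χ, hχ, rfl⟩
    exact (hS1 _).mpr (Tr.conj L.act ((hS0 χ).mp hχ) h)
  have h7 : Tr H π (h • a0) φ := by
    have h8 : φ ∈ S0 := (hS0 φ).mpr hφ
    rw [← hcard] at h8
    exact (hS1 φ).mp h8
  exact hx (h7.ker hne)

omit [Finite Q] [Finite F] in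
/-- an element of type `(a₀, φ)` fixes the lines in `ker φ` -/
theorem fix_line {φ : Q →ₗ[F] F} {e : H} (he : IsE H π a0 φ e) {h : H} {a : M} (ha : a ∈ lam)
    (h0 : φ (π (h • a)) = 0) : e • h • a = h • a := by
  apply L.lvec_uniq (v := π (h • a))
  · have h1 := L.lvec_smul (L.lvec_of ha h) e
    rwa [he.1, h0, zero_smul, add_zero] at h1
  · exact L.lvec_of ha h

omit [Finite Q] [Finite F] in
/-- the action on `M` of an element of type `(x, φ)` is determined -/
theorem act_eq {x : Q} {φ : Q →ₗ[F] F} {e e' : H} (he : IsE H π x φ e) (he' : IsE H π x φ e') (m : M) :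
    e • m = e' • m := by
  let D : AddSubgroup M := (DistribSMul.toAddMonoidHom M e).eqLocus (DistribSMul.toAddMonoidHom M e')
  have hD : D = ⊤ := by
    apply L.gen
    intro h a ha
    show e • h • a = e' • h • a
    apply L.lvec_uniq (v := e • π (h • a)) (L.lvec_smul (L.lvec_of ha h) e)
    rw [he.1, ← he'.1]
    exact L.lvec_smul (L.lvec_of ha h) e'
  have hm : m ∈ D := by rw [hD]; trivial
  exact hm

/-- **(s2)**: an element of type `(a₀, φ)` centralises `ker (φ ∘ π)` -/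
theorem fix {σ : F →+ M} (hσ : ∀ c, σ c ∈ lam) (hσ' : ∀ c, π (σ c) = c • a0) {φ : Q →ₗ[F] F} (hφ : Tr H π a0 φ)
    {e : H} (he : IsE H π a0 φ e) {m : M} (hm : φ (π m) = 0) : e • m = m := by
  -- the defect
  let n : M →+ M := DistribSMul.toAddMonoidHom M e + AddMonoidHom.id M + σ.comp (φ.toAddMonoidHom.comp π)
  have hn : ∀ y, n y = e • y + y + σ (φ (π y)) := fun y => rfl
  have nk : ∀ y, π y = 0 → n y = 0 := by
    intro y hy
    rw [hn, hy, map_zero, map_zero, add_zero, he.2 y hy, L.two]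
  have nl : ∀ v y, LVec H π lam v y → φ v = 0 → n y = 0 := by
    rintro v y ⟨h, a, ha, rfl, rfl⟩ h0
    rw [hn, L.fix_line he ha h0, h0, map_zero, add_zero, L.two]
  -- if `y₁ + y₂ + y₃ ∈ ker π`, `n y₃ = 0` then `n y₁ = n y₂`
  have n3 : ∀ y₁ y₂ y₃, π (y₁ + y₂ + y₃) = 0 → n y₃ = 0 → n y₁ = n y₂ := by
    intro y₁ y₂ y₃ h h3
    have h1 := nk _ h
    rw [map_add, map_add, h3, add_zero] at h1
    have h2 := eq_neg_of_add_eq_zero_left h1
    rwa [L.two'] at h2
  have claim1 : ∀ (h : H) (c : F) (v' : Q) (y' : M), LVec H π lam v' y' → c ≠ 0 → φ (c • h • a0) = φ v' →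
      (∃ ψ : Q →ₗ[F] F, Tr H π (h • a0) ψ ∧ ψ v' ≠ 0) → n (h • σ c) = n y' := by
    rintro h c v' y' hy' hc hv ⟨ψ, hψ, h0⟩
    obtain ⟨g, hg⟩ := hψ (c * (ψ v')⁻¹)
    have h1 : g • v' = v' + c • h • a0 := by
      rw [hg.1, LinearMap.smul_apply, smul_eq_mul, mul_assoc, inv_mul_cancel₀ h0, mul_one]
    have h2 := L.lvec_smul hy' g
    have h3 : n (g • y') = 0 := by
      apply nl _ _ h2
      rw [h1, map_add, hv, CharTwo.add_self_eq_zero]
    apply n3 _ _ _ _ h3
    obtain ⟨_, _, _, _, h4⟩ := h2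
    obtain ⟨_, _, _, _, h5⟩ := hy'
    rw [map_add, map_add, h4, h5, L.act, hσ', smul_comm h, h1, add_comm (c • h • a0), v_add_v F]
  have claim2 : ∀ (h : H) (c : F) (v' : Q) (y' : M), LVec H π lam v' y' → c ≠ 0 → φ (h • a0) ≠ 0 →
      φ (c • h • a0) = φ v' → n (h • σ c) = n y' := by
    intro h c v' y' hy' hc hh hv
    by_cases hψ : ∃ ψ : Q →ₗ[F] F, Tr H π (h • a0) ψ ∧ ψ v' ≠ 0
    · exact claim1 h c v' y' hy' hc hv hψ
    · push Not at hψ
      obtain ⟨ψ, h1, h2⟩ := L.exists_join hφ hh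
      have h3 := hψ ψ h1
      have h4 : φ a0 = 0 := hφ.ker L.ne
      have h5 : e • e • v' = v' := by
        rw [he.1 (e • v'), he.1 v', map_add, map_smul, h4, smul_zero, add_zero, add_assoc, v_add_v F, add_zero]
      have h6 : n (h • σ c) = n ((e * h) • σ c) := by
        apply n3 _ _ (σ (φ (c • h • a0)))
        · rw [map_add, map_add, mul_smul, L.act e, L.act h, hσ', hσ', smul_comm h, he.1, ← add_assoc, v_add_v F,
            zero_add, v_add_v F]
        · apply nl _ _ (L.lvec_lam (hσ _))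
          rw [hσ', map_smul, h4, smul_zero]
      rw [h6]
      apply claim1 (e * h) c v' y' hy' hc
      · rw [mul_smul, he.1, smul_add, map_add, map_smul φ c (φ (h • a0) • a0), map_smul φ _ a0, h4, smul_zero, smul_zero,
          add_zero, hv]
      · refine ⟨tw e ψ, ?_, ?_⟩
        · rw [mul_smul]; exact h1.conj L.act e
        · rw [tw_apply]
          have h7 : e⁻¹ • v' = e • v' := by rw [inv_smul_eq_iff, h5]
          rw [h7, he.1, map_add, h3, zero_add, map_smul, smul_eq_mul]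
          refine mul_ne_zero ?_ h2
          rw [← hv, map_smul, smul_eq_mul]
          exact mul_ne_zero hc hh
  -- all lines
  by_cases hall : ∀ h : H, φ (h • a0) = 0
  · have hD : n.ker = ⊤ := by
      apply L.gen
      intro h a ha
      obtain ⟨c, hc⟩ := L.lamc a ha
      apply nl _ _ (L.lvec_of ha h)
      rw [L.act, hc, smul_comm h, map_smul, hall, smul_zero]
    have h1 : n m = 0 := by
      have : m ∈ n.ker := by rw [hD]; trivial
      exact this
    rw [hn, hm, map_zero, add_zero] at h1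
    have h2 := eq_neg_of_add_eq_zero_left h1
    rwa [L.two'] at h2
  · push Not at hall
    obtain ⟨h, hh⟩ := hall
    let g : M →+ M :=
      (n.comp ((DistribSMul.toAddMonoidHom M h).comp (σ.comp (AddMonoidHom.mulLeft (φ (h • a0))⁻¹)))).comp
        (φ.toAddMonoidHom.comp π)
    have hg : ∀ y, g y = n (h • σ ((φ (h • a0))⁻¹ * φ (π y))) := fun y => rfl
    let D : AddSubgroup M := n.eqLocus g
    have hD : D = ⊤ := by
      apply L.gen
      intro h' a ha
      show n (h' • a) = g (h' • a)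
      rw [hg]
      by_cases h0 : φ (π (h' • a)) = 0
      · rw [h0, mul_zero, map_zero, smul_zero, map_zero]
        exact nl _ _ (L.lvec_of ha h') h0
      · symm
        apply claim2 h _ _ _ (L.lvec_of ha h') (mul_ne_zero (inv_ne_zero hh) h0) hh
        rw [map_smul, smul_eq_mul, mul_comm, ← mul_assoc, mul_inv_cancel₀ hh, one_mul]
    have h1 : n m = g m := by
      have : m ∈ D := by rw [hD]; trivial
      exact this
    rw [hg, hn, hm, map_zero, add_zero, mul_zero, map_zero, smul_zero, map_zero] at h1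
    have h2 := eq_neg_of_add_eq_zero_left h1
    rwa [L.two'] at h2

/-- the plane over `a₀`, `h • a₀` -/
theorem plane {σ : F →+ M} (hσ : ∀ c, σ c ∈ lam) (hσ' : ∀ c, π (σ c) = c • a0) {φ : Q →ₗ[F] F} (hφ : Tr H π a0 φ)
    {h : H} (hh : φ (h • a0) = 1) : ∃ (u l : F → H) (s : F → F → M), Pl π.ker u l s ∧ (∀ t, IsE H π a0 (t • φ) (u t)) ∧
      (∀ x, s x 0 = σ x) ∧ ∀ y, π (s 0 y) = y • h • a0 := by
  obtain ⟨ψ₀, hψ₀, hψ₁⟩ := L.exists_join hφ (h := h) (by rw [hh]; exact one_ne_zero)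
  obtain ⟨ψ, hψ, hψ1⟩ : ∃ ψ : Q →ₗ[F] F, Tr H π (h • a0) ψ ∧ ψ a0 = 1 :=
    ⟨(ψ₀ a0)⁻¹ • ψ₀, hψ₀.smul _, by rw [LinearMap.smul_apply, smul_eq_mul, inv_mul_cancel₀ hψ₁]⟩
  have hne : h • a0 ≠ 0 := fun e => by rw [e, map_zero] at hh; exact zero_ne_one hh
  have φ0 : φ a0 = 0 := hφ.ker L.ne
  have ψ0 : ψ (h • a0) = 0 := hψ.ker hne
  choose u hu using hφ
  choose l hl using hψ
  have hs : ∀ x y : F, ∃ m, LVec H π lam (x • a0 + y • h • a0) m := by
    intro x y
    by_cases hx : x = 0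
    · refine ⟨h • σ y, h, σ y, hσ y, rfl, ?_⟩
      rw [L.act, hσ', hx, zero_smul, zero_add, smul_comm h]
    · refine ⟨l (y * x⁻¹) • σ x, l (y * x⁻¹), σ x, hσ x, rfl, ?_⟩
      rw [L.act, hσ', (hl _).1, LinearMap.smul_apply, map_smul, hψ1, smul_eq_mul, smul_eq_mul, mul_one, mul_assoc,
        inv_mul_cancel₀ hx, mul_one]
  choose s hs using hs
  have sπ : ∀ x y, π (s x y) = x • a0 + y • h • a0 := fun x y => by
    obtain ⟨_, _, _, _, h1⟩ := hs x y
    exact h1
  have sx : ∀ x, s x 0 = σ x := by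
    intro x
    refine L.lvec_uniq (hs x 0) ?_
    have h1 : x • a0 + (0 : F) • h • a0 = π (σ x) := by rw [hσ', zero_smul, add_zero]
    rw [h1]; exact L.lvec_lam (hσ x)
  have sy : ∀ y, s 0 y = h • σ y := by
    intro y
    refine L.lvec_uniq (hs 0 y) ?_
    have h1 : (0 : F) • a0 + y • h • a0 = π (h • σ y) := by rw [L.act, hσ', zero_smul, zero_add, smul_comm h]
    rw [h1]; exact L.lvec_of (hσ y) h
  refine ⟨u, l, s, ⟨L.two, ?_, ?_, ?_, ?_, ?_, ?_, ?_⟩, hu, sx, fun y => by rw [sπ, zero_smul, zero_add]⟩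
  · intro x x'
    rw [sx, sx, sx, map_add]
  · intro y y'
    rw [sy, sy, sy, map_add, smul_add]
  · intro x y x' y'
    rw [AddMonoidHom.mem_ker, map_add, map_add, sπ, sπ, sπ, add_smul, add_smul]
    have e : x • a0 + y • h • a0 + (x' • a0 + y' • h • a0) + (x • a0 + x' • a0 + (y • h • a0 + y' • h • a0)) =
      (x • a0 + x' • a0 + y • h • a0 + y' • h • a0) + (x • a0 + x' • a0 + y • h • a0 + y' • h • a0) := by abel
    rw [e, v_add_v F]
  · intro t x y
    refine L.lvec_uniq (L.lvec_smul (hs x y) _) ?_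
    have e : u t • (x • a0 + y • h • a0) = (x + t * y) • a0 + y • h • a0 := by
      rw [(hu t).1, LinearMap.smul_apply, map_add, map_smul, map_smul, φ0, hh, smul_zero, zero_add, smul_eq_mul,
        smul_eq_mul, mul_one, add_smul, add_right_comm]
    rw [e]; exact hs _ _
  · intro t x y
    refine L.lvec_uniq (L.lvec_smul (hs x y) _) ?_
    have e : l t • (x • a0 + y • h • a0) = x • a0 + (y + t * x) • h • a0 := by
      rw [(hl t).1, LinearMap.smul_apply, map_add, map_smul, map_smul, ψ0, hψ1, smul_zero, add_zero, smul_eq_mul,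
        smul_eq_mul, mul_one, add_smul, add_assoc]
    rw [e]; exact hs _ _
  · intro t n hn
    exact (hu t).2 n hn
  · intro t n hn
    exact (hl t).2 n hn

/-- **the value of a commutator** -/
theorem val {σ : F →+ M} (hσ : ∀ c, σ c ∈ lam) (hσ' : ∀ c, π (σ c) = c • a0) {φ : Q →ₗ[F] F} (hφ : Tr H π a0 φ)
    {h : H} (hh : φ (h • a0) = 1) : ∃ k : F →+ M, (∀ z, π (k z) = 0) ∧ ∀ (t : F) (e : H), IsE H π a0 (t • φ) e →
      ∀ m, e • m + m = σ (t * φ (π m)) + k (t * φ (π m) ^ 2) := by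
  obtain ⟨u, l, s, P, hu, sx, sy⟩ := L.plane hσ hσ' hφ hh
  obtain ⟨k, hk0, hk⟩ := P.exists_kap
  refine ⟨k, fun z => hk0 z, fun t e he m => ?_⟩
  rw [L.act_eq he (hu t), ← sx]
  refine P.val hk (φ.toAddMonoidHom.comp π) (fun y => ?_) (fun m hm => ?_) m
  · show φ (π (s 0 y)) = y
    rw [sy, map_smul, hh, smul_eq_mul, mul_one]
  · have hm' : φ (π m) = 0 := hm
    apply L.fix hσ hσ' (hφ.smul t) (hu t)
    rw [LinearMap.smul_apply, hm', smul_zero]

omit [CharP F 2] [Finite Q] [Finite F] in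
/-- a line outside `ker φ` -/
theorem exists_line (hs : Function.Surjective π) {φ : Q →ₗ[F] F} (hφ : φ ≠ 0) : ∃ h : H, φ (h • a0) ≠ 0 := by
  by_contra hc
  push Not at hc
  have hD : (φ.toAddMonoidHom.comp π).ker = ⊤ := by
    apply L.gen
    intro h a ha
    obtain ⟨c, hc'⟩ := L.lamc a ha
    show φ (π (h • a)) = 0
    rw [L.act, hc', smul_comm h, map_smul, hc, smul_zero]
  apply hφ
  ext v
  obtain ⟨m, rfl⟩ := hs v
  have hm : m ∈ (φ.toAddMonoidHom.comp π).ker := by rw [hD]; trivial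
  exact hm

/-- for all `φ` with `Tr a₀ φ` : `[m, e] = σ (φ m) + ν (φ m)` for `e` of type `φ` -/
theorem val' (hs : Function.Surjective π) {σ : F →+ M} (hσ : ∀ c, σ c ∈ lam) (hσ' : ∀ c, π (σ c) = c • a0)
    {φ : Q →ₗ[F] F} (hφ : Tr H π a0 φ) : ∃ k : F →+ M, (∀ z, π (k z) = 0) ∧ ∀ (t : F) (e : H), t ≠ 0 →
      IsE H π a0 (t • φ) e → ∀ m, e • m + m = σ (t * φ (π m)) + k ((t * φ (π m)) ^ 2 / t) := by
  by_cases h0 : φ = 0
  · refine ⟨0, fun z => by rw [AddMonoidHom.zero_apply, map_zero], fun t e _ he m => ?_⟩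
    have h1 : IsE H π a0 (0 : Q →ₗ[F] F) (1 : H) := by
      refine ⟨fun v => ?_, fun m _ => one_smul _ _⟩
      rw [one_smul, LinearMap.zero_apply, zero_smul, add_zero]
    rw [h0, smul_zero] at he
    rw [L.act_eq he h1, one_smul, L.two, h0, LinearMap.zero_apply, mul_zero, map_zero, AddMonoidHom.zero_apply,
      add_zero]
  · obtain ⟨h, hh⟩ := L.exists_line hs h0
    obtain ⟨c, hc⟩ : ∃ c, c = φ (h • a0) := ⟨_, rfl⟩
    rw [← hc] at hh
    obtain ⟨k, hk, hv⟩ := L.val hσ hσ' (hφ.smul c⁻¹) (h := h) (by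
      rw [LinearMap.smul_apply, smul_eq_mul, ← hc, inv_mul_cancel₀ hh])
    refine ⟨k.comp (AddMonoidHom.mulLeft c⁻¹), fun z => hk _, fun t e ht he m => ?_⟩
    have h1 := hv (t * c) e (by rwa [smul_smul, mul_assoc, mul_inv_cancel₀ hh, mul_one]) m
    rw [h1, LinearMap.smul_apply, smul_eq_mul]
    have e1 : t * c * (c⁻¹ * φ (π m)) = t * φ (π m) := by field_simp
    have e2 : t * c * (c⁻¹ * φ (π m)) ^ 2 = c⁻¹ * ((t * φ (π m)) ^ 2 / t) := by field_simp
    rw [e1, e2]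
    rfl

omit [Finite Q] [Finite F] in
/-- an element of type `(a₀, φ)` fixes `lam + ker π` -/
theorem fix_sum {σ : F →+ M} (hσ : ∀ c, σ c ∈ lam) (hσ' : ∀ c, π (σ c) = c • a0) {φ : Q →ₗ[F] F} {e : H}
    (he : IsE H π a0 φ e) (h0 : φ a0 = 0) (c : F) {z : M} (hz : π z = 0) : e • (σ c + z) = σ c + z := by
  have h1 : e • (1 : H) • σ c = (1 : H) • σ c := L.fix_line he (hσ c) (by
    rw [one_smul, hσ', map_smul, h0, smul_zero])
  rw [one_smul] at h1
  rw [smul_add, he.2 z hz, h1]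

/-- **two independent functionals ⟹ `[M, A] ≤ lam`** -/
theorem le_lam (h4 : 4 ≤ Nat.card F) (hs : Function.Surjective π)
    (hd : ∀ φ₀ : Q →ₗ[F] F, ∃ φ : Q →ₗ[F] F, Tr H π a0 φ ∧ ∀ c : F, φ ≠ c • φ₀)
    {φ : Q →ₗ[F] F} (hφ : Tr H π a0 φ) {e : H} (he : IsE H π a0 φ e) (m : M) : e • m + m ∈ lam := by
  obtain ⟨σ, hσ, hσ'⟩ := L.exists_sec
  obtain ⟨φ', hφ', hc'⟩ := hd φ
  by_cases h0 : φ = 0
  · have h1 : IsE H π a0 (0 : Q →ₗ[F] F) (1 : H) := by
      refine ⟨fun v => ?_, fun m _ => one_smul _ _⟩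
      rw [one_smul, LinearMap.zero_apply, zero_smul, add_zero]
    rw [h0] at he
    rw [L.act_eq he h1, one_smul, L.two]
    exact zero_mem _
  obtain ⟨k, hk0, hk⟩ := L.val' hs hσ hσ' hφ
  obtain ⟨k', hk0', hk'⟩ := L.val' hs hσ hσ' hφ'
  -- `(φ, φ')` is onto `F²`
  obtain ⟨v0, hv0⟩ : ∃ v, φ v ≠ 0 := by
    by_contra hc
    push Not at hc
    exact h0 (LinearMap.ext hc)
  obtain ⟨v1, hv1, hv1'⟩ : ∃ v, φ v = 0 ∧ φ' v ≠ 0 := by
    by_contra hc
    push Not at hc
    apply hc' (φ' v0 / φ v0)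
    ext v
    have h1 := hc (v - (φ v / φ v0) • v0) (by
      rw [map_sub, map_smul, smul_eq_mul, div_mul_cancel₀ _ hv0, sub_self])
    rw [map_sub, map_smul, smul_eq_mul, sub_eq_zero] at h1
    rw [h1, LinearMap.smul_apply, smul_eq_mul]
    ring
  have hsurj : ∀ x x' : F, ∃ m, φ (π m) = x ∧ φ' (π m) = x' := by
    intro x x'
    obtain ⟨m, hm⟩ := hs ((x / φ v0) • v0 + ((x' - (x / φ v0) * φ' v0) / φ' v1) • v1)
    refine ⟨m, ?_, ?_⟩
    · rw [hm, map_add, map_smul, map_smul, hv1, smul_zero, add_zero, smul_eq_mul, div_mul_cancel₀ _ hv0]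
    · rw [hm, map_add, map_smul, map_smul, smul_eq_mul, smul_eq_mul, div_mul_cancel₀ _ hv1']
      ring
  have kz : k = 0 := by
    refine kap_zero_of_two h4 L.two (σ := σ) (k' := k') fun t t' ht ht' => ?_
    obtain ⟨k'', -, hk''⟩ := L.val' hs hσ hσ' ((hφ.smul t).add (hφ'.smul t') L.ne)
    obtain ⟨e1, he1⟩ := hφ t
    obtain ⟨e2, he2⟩ := hφ' t'
    have p0 : φ a0 = 0 := hφ.ker L.ne
    have p0' : φ' a0 = 0 := hφ'.ker L.ne
    have q1 : (t • φ) a0 = 0 := by rw [LinearMap.smul_apply, p0, smul_zero]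
    have h12 := he1.mul he2 q1
    refine ⟨fun y => k'' (y ^ 2), fun x x' => ?_⟩
    obtain ⟨m, hm, hm'⟩ := hsurj (x / t) (x' / t')
    have a1 := hk t e1 ht he1 m
    have a2 := hk' t' e2 ht' he2 m
    have a3 := hk'' 1 (e1 * e2) one_ne_zero (by rwa [one_smul]) m
    rw [hm, mul_div_cancel₀ _ ht] at a1
    rw [hm', mul_div_cancel₀ _ ht'] at a2
    rw [one_mul, div_one, LinearMap.add_apply, LinearMap.smul_apply, LinearMap.smul_apply, smul_eq_mul, smul_eq_mul,
      hm, hm', mul_div_cancel₀ _ ht, mul_div_cancel₀ _ ht'] at a3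
    rw [← a1, ← a3, mul_smul]
    have a4 : e2 • m = (σ x' + k' (x' ^ 2 / t')) + m := by
      rw [← a2, add_assoc, L.two, add_zero]
    rw [a4, smul_add, L.fix_sum hσ hσ' he1 q1 x' (hk0' _)]
    abel
  have h5 := hk 1 e one_ne_zero (by rwa [one_smul]) m
  rw [h5, kz, AddMonoidHom.zero_apply, add_zero]
  exact hσ _

end Lv

end Cfsg.Agent.Omega.NO3S.FullQ

end
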