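import Cfsg.Agent.Mrg.Omega.NO3S.MidB.No.Main
import Cfsg.Agent.Mrg.Omega.NO3S.MidB.Front
import Cfsg.Agent.Mrg.Omega.NO3S.MidB.Main
import Cfsg.Agent.Mrg.Omega.NO3S.FarQ.Free.FullG
import Cfsg.Agent.Mrg.Omega.NO3S.FarQ.Free.FullDual


/-!
# FullB (`q ≥ 4`), `n = 2`: THE FRONT (#21966 section 0, #22114 (T3)), no fullness

Over `h : Mid S P V Z` (helper475's frame), the geometry `Pt Z`, `Pt V` (`geom`):

* `crit_iff` : `Crit inc W 2 a b ↔ ∃ r, Cr V Z a r b`; `cr_of` : for a given middle point;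
* `exP` : every critical pair is exact, both sides (`ExP`), from `NoOver`;
* `exists_bad` : (NO), `q ≥ 4`, not TYPE N, `[W_p, W_q] ≰ R_r` : every `f ∈ W_q` moving `W_p` has a mover `k` with helper404's
  `Bad inc R W 2 p q r l f k` (no (D));
* `typN_of_lines` : `[W_a, W_b] ≤ V_l`, `l` the first line, for every critical pair `(a, b)`, gives TYPE N;
* `false_of_lines` : hence there is no critical pair.
-/

set_option autoImplicit false
set_option linter.unusedSectionVars false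

namespace Cfsg.Agent.Omega.NO3S.FullQ.Two

open Subgroup Cfsg Cfsg.Agent.ZN Cfsg.Agent.Omega.NOThree.Pts Cfsg.Agent.Omega.NO3S.PT
open Cfsg.Agent.Omega.NO3S.MidQ (Adj Cr TypN)
open Cfsg.Agent.Omega.NO3S.MidB (Mid)
open Cfsg.Agent.Omega.NO3S.PtGeom (Pt inc)
open Cfsg.Agent.Omega.NOThree.LemmaM (NoOver)
open Cfsg.Agent.Omega.NO3S.FarQ.Asm (ExP)

universe u

variable {G : Type u} [Group G] [Finite G] {S : Sylow 2 G} {P V Z : Subgroup G}

section

variable (h : Mid S P V Z)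
include h

/-- the geometry -/
theorem geom : Geom (inc (Z := Z) (V := V)) (fun x => x.sg) (fun x => ws V x.sg) (fun l => l.sg) (Nat.card Z)
    ((IV V Z).relIndex (ws V Z)) := PB.Geom.geom h.pl h.hf h.hO

omit h in
theorem com_iff {a b : Pt Z} : Com (fun x : Pt Z => ws V x.sg) a b ↔ MidQ.Com V a.sg b.sg := by
  constructor
  · intro e x hx
    rw [mem_centralizer_iff]
    exact fun y hy => (e x hx y hy).symm
  · intro e x hx y hy
    exact (mem_centralizer_iff.1 (e hx) y hy).symm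

omit h in
theorem walk_zero {a b : Pt Z} (hw : Walk (inc (Z := Z) (V := V)) 0 a b) : a = b := by
  cases hw
  rfl

omit h in
theorem walk_one {a b : Pt Z} (hw : Walk (inc (Z := Z) (V := V)) 1 a b) : ∃ l : Pt V, inc a l ∧ inc b l := by
  cases hw with
  | @step k x y z l h1 hy hz =>
    cases h1
    exact ⟨l, hy, hz⟩

omit h in
theorem adj_of_walk {a b : Pt Z} (hw : Walk (inc (Z := Z) (V := V)) 1 a b) (hne : a ≠ b) :
    Adj V Z a.sg b.sg := by
  obtain ⟨l, ha, hb⟩ := walk_one hw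
  exact ⟨a.isCj, b.isCj, fun e => hne (Pt.ext e), l.sg, l.isCj, ha, hb⟩

omit h in
theorem walk_of_adj {a b : Pt Z} (hA : Adj V Z a.sg b.sg) : Walk (inc (Z := Z) (V := V)) 1 a b := by
  obtain ⟨L, hL, haL, hbL⟩ := hA.line
  exact Walk.one (l := Pt.mk hL) haL hbL

/-- `W_a`, `W_b` commute at distance `≤ 1` -/
theorem com_of_lt {k : ℕ} (hk : k < 2) {a b : Pt Z} (hw : Walk (inc (Z := Z) (V := V)) k a b) :
    Com (fun x : Pt Z => ws V x.sg) a b := by
  have h0 : ∀ a : Pt Z, Com (fun x : Pt Z => ws V x.sg) a a := fun a =>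
    com_iff.2 (h.com_self a.isCj)
  match k, hk with
  | 0, _ =>
    rw [walk_zero hw]
    exact h0 _
  | 1, _ =>
    by_cases hab : a = b
    · rw [hab]
      exact h0 _
    · exact com_iff.2 (h.com _ _ (adj_of_walk hw hab))

/-- a critical pair with a given middle point -/
theorem cr_of {a b r : Pt Z} (hne : ¬ Com (fun x : Pt Z => ws V x.sg) a b) (h1 : Walk (inc (Z := Z) (V := V)) 1 a r)
    (h2 : Walk (inc (Z := Z) (V := V)) 1 r b) : Cr V Z a.sg r.sg b.sg := by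
  refine ⟨adj_of_walk h1 ?_, adj_of_walk h2 ?_, fun e => hne (com_iff.2 e)⟩
  · rintro rfl
    exact hne (com_of_lt h (by norm_num) h2)
  · rintro rfl
    exact hne (com_of_lt h (by norm_num) h1)

/-- **critical pairs** -/
theorem crit_iff {a b : Pt Z} : Crit (inc (Z := Z) (V := V)) (fun x : Pt Z => ws V x.sg) 2 a b ↔
    ∃ r : Pt Z, Cr V Z a.sg r.sg b.sg := by
  constructor
  · intro hc
    have h0 := hc.walk
    cases h0 with
    | @step k x r y l2 h1 hr hy => exact ⟨r, cr_of h hc.ne h1 (Walk.one hr hy)⟩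
  · rintro ⟨r, hc⟩
    refine ⟨(walk_of_adj hc.l).trans (walk_of_adj hc.r), fun e => hc.ne (com_iff.1 e), fun k hk a b hw => com_of_lt h hk hw⟩

theorem crit_of {A R B : Subgroup G} (hc : Cr V Z A R B) :
    Crit (inc (Z := Z) (V := V)) (fun x : Pt Z => ws V x.sg) 2 (Pt.mk hc.l.left) (Pt.mk hc.r.right) :=
  (crit_iff h).2 ⟨Pt.mk hc.l.right, hc⟩

/-- **(X) and exactness**, both sides -/
theorem exP (hNO : NoOver (inc (Z := Z) (V := V)) (fun x => x.sg) (fun x => ws V x.sg) (fun l => l.sg)) {a b : Pt Z}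
    (hc : Crit (inc (Z := Z) (V := V)) (fun x : Pt Z => ws V x.sg) 2 a b) :
    ExP (inc (Z := Z) (V := V)) (fun x => x.sg) (fun x => ws V x.sg) (fun l => l.sg) 2 a b := by
  obtain ⟨r, hr⟩ := (crit_iff h).1 hc
  exact ExP.of_good (geom h) hNO hc le_rfl (fun x hx hx' => h.cent_of_mod hr hx hx')
    (fun x hx hx' => h.cent_of_mod hr.symm hx hx')

/-- **no (D)**: the movers of a critical pair which is not of type N are bad -/
theorem exists_bad (hNO : MidB.No.NOg V Z) (hq : 4 ≤ Nat.card Z) (hT : ¬ TypN V Z) {p q r : Pt Z} {l : Pt V}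
    (hc : Crit (inc (Z := Z) (V := V)) (fun x : Pt Z => ws V x.sg) 2 p q) (hpl : inc p l) (hrl : inc r l)
    (hw : Walk (inc (Z := Z) (V := V)) 1 r q)
    (hne : ¬ ∀ a ∈ ws V p.sg, ∀ b ∈ ws V q.sg, a * b * a⁻¹ * b⁻¹ ∈ r.sg) {f : G} (hf : f ∈ ws V q.sg)
    (hf1 : ¬ ∀ x ∈ ws V p.sg, f * x = x * f) :
    ∃ k ∈ centralizer (p.sg : Set G),
      FarQ.Free.Bad (inc (Z := Z) (V := V)) (fun x => x.sg) (fun x => ws V x.sg) 2 p q r l f k := by
  have hcr := cr_of h hc.ne (Walk.one hpl hrl) hw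
  obtain ⟨k, m⟩ := MidB.No.exists_mv h hcr hf hf1
  have hk1 : k ^ 1 ≠ 1 := by
    rw [pow_one]
    exact m.ne
  have efk : f • k • r = k⁻¹ • r := Pt.ext (m.f_cj h)
  refine ⟨k, mem_centralizer_iff.2 fun z hz => (m.cent z hz).symm, hc, by norm_num, hpl, hrl, hw, hf,
    fun z hz => m.cent z hz, m.odd, m.inv, ?_, ?_⟩
  · intro e
    rw [efk] at e
    have e1 : cj k⁻¹ r.sg = cj k r.sg := congrArg Pt.sg e
    refine m.not_le' h ?_ ?_ ?_ ?_ (L := cj k l.sg)
    · exact l.isCj.cj k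
    · rw [← m.cj_A]
      exact cj_le_cj.2 hpl
    · exact cj_le_cj.2 hrl
    · rw [e1]
      exact cj_le_cj.2 hrl
  · intro hd
    apply hT
    have hdd : MidB.No.DD V p.sg r.sg k 1 := by
      rintro x ⟨h1, h2⟩
      refine hd x ?_ ?_
      · have h3 : x ∈ ws V (cj (k ^ 1) r.sg) := h1
        rw [pow_one] at h3
        exact h3
      · have h3 : x ∈ ws V (cj (k⁻¹ ^ 1) r.sg) := h2
        rw [pow_one] at h3
        show x ∈ ws V (f • k • r).sg
        rw [efk]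
        exact h3
    obtain ⟨C, hcC, hflat, w, hw', u, hu, hwu, hb, ha⟩ := MidB.No.Mv.flat_of h m hk1 hdd hNO (MidB.No.innN_of h hq hNO) hne
    exact MidB.Mid.typN_of_flat' h hcC hflat hw' hu hwu hb ha

/-- `[W_a, W_b] ≤ V_l` (`l` the first line) for every critical pair gives TYPE N -/
theorem typN_of_lines (hl : ∀ (a b r : Pt Z) (l : Pt V),
    Crit (inc (Z := Z) (V := V)) (fun x : Pt Z => ws V x.sg) 2 a b → Walk (inc (Z := Z) (V := V)) 1 r b →
      inc r l → inc a l → ∀ x ∈ ws V a.sg, ∀ y ∈ ws V b.sg, x * y * x⁻¹ * y⁻¹ ∈ l.sg) : TypN V Z := by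
  intro X R Y hc x hx y hy
  obtain ⟨L, hL, hXL, hRL⟩ := hc.l.line
  have h1 := hl (Pt.mk hc.l.left) (Pt.mk hc.r.right) (Pt.mk hc.l.right) (Pt.mk hL) (crit_of h hc)
    (walk_of_adj hc.r) hRL hXL x hx y hy
  exact h.line_inf hc hL hXL hRL h1 (h.comm_mem hc hx hy).2

/-- **the end**: there is no critical pair at distance 2 -/
theorem false_of_lines (hl : ∀ (a b r : Pt Z) (l : Pt V),
    Crit (inc (Z := Z) (V := V)) (fun x : Pt Z => ws V x.sg) 2 a b → Walk (inc (Z := Z) (V := V)) 1 r b →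
      inc r l → inc a l → ∀ x ∈ ws V a.sg, ∀ y ∈ ws V b.sg, x * y * x⁻¹ * y⁻¹ ∈ l.sg) {a b : Pt Z}
    (hc : Crit (inc (Z := Z) (V := V)) (fun x : Pt Z => ws V x.sg) 2 a b) : False := by
  obtain ⟨r, hr⟩ := (crit_iff h).1 hc
  exact h.no_typN (typN_of_lines h hl) ⟨_, _, _, hr⟩

end

end Cfsg.Agent.Omega.NO3S.FullQ.Two
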