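import Cfsg.Agent.Mrg.Omega.NO3S.FullQ.PlugF
import Cfsg.Agent.Mrg.Omega.NO3S.FullQ.TwoFront
import Cfsg.Agent.Mrg.Omega.NO3S.MidB.Base
import Cfsg.Agent.Mrg.Omega.NO3S.MidB.Front
import Cfsg.Agent.Mrg.Omega.Node.NO3SWF


/-!
# FullB (`q ≥ 4`): the plug, `n = 2`, and the socket `WF` (helper973)

* `bd_two` : the movers;
* `two_false` : over the `(R, B)`-frame with (F1) there is no critical pair at distance 2;
* `no_crit` : **`HypF S P`, `FrB`, (F1): no critical pair at distance `n ≥ 2`**;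
* `wF` : **the socket `WF K`** (hence `WB K`) from (ML).
-/

set_option autoImplicit false
set_option linter.unusedSectionVars false

namespace Cfsg.Agent.Omega.NO3S.FullQ

open Subgroup Cfsg Cfsg.Agent.ZN Cfsg.Agent.Omega.NOThree.Pts Cfsg.Agent.Omega.NO3S.PT
open Cfsg.Agent.Omega.NO3S.FarQ Cfsg.Agent.Omega.NO3S.FarQ.Glue Cfsg.Agent.Omega.NO3S.FarQ.Free
open Cfsg.Agent.Omega.NO3S.FarQ.Asm (ExP)
open Cfsg.Agent.Omega.ML.Final (MLK)
open Cfsg.Agent.Omega.NO3S.PtGeom (Pt inc)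
open Cfsg.Agent.Omega.NO3S.MidQ (Adj Cr TypN)
open Cfsg.Agent.Omega.NO3S.MidB (Mid)
open Cfsg.Agent.Omega.MinPar Cfsg.Agent.Omega.Frame Cfsg.Agent.Omega.FrameNOFF Cfsg.Agent.Omega.NatPair

universe u

variable {G : Type u} [Group G] [Finite G] {S : Sylow 2 G} {B P V Z : Subgroup G}
variable {Fd : Type} [Field Fd] [Finite Fd] [CharP Fd 2]

/-- the movers, `n = 2`: `[W_a, W_b] ≤ R_r` for the middle point `r`, or no (D) -/
theorem bd_two (h : Mid S P V Z) (hNO : MidB.No.NOg V Z) (hq : 4 ≤ Nat.card Z) (hT : ¬ TypN V Z) :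
    Bd (inc (Z := Z) (V := V)) (fun x => x.sg) (fun x => ws V x.sg) (fun l => l.sg) 2 := by
  intro p q r l hc hpl hrl hw
  by_cases hne : ∀ a ∈ ws V p.sg, ∀ b ∈ ws V q.sg, a * b * a⁻¹ * b⁻¹ ∈ r.sg
  · exact Or.inl fun x hx y hy => hrl (hne x hx y hy)
  · right
    intro f hf hf1
    obtain ⟨k, -, hb⟩ := Two.exists_bad h hNO hq hT hc hpl hrl hw hne hf hf1
    exact ⟨k, hb⟩

/-- **`n = 2`**: over the `(R, B)`-frame with (F1) there is no critical pair at distance 2. -/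
theorem two_false (h : PB S B P V Z) (hf : ¬ kx V Z ≤ centralizer (V : Set G)) (hO : OmB B V) (hq : 4 ≤ Nat.card Z)
    (hML : MLK.{u, u}) (hG : IsKProper G) (hC : centralizer (Z : Set G) ≠ ⊤)
    (hNO : KNO.{u} (fun H _ => Img (centralizer (Z : Set G)) H))
    (C : Fld.Crd Fd (S : Subgroup G) P V) (hcard : Nat.card Z = Nat.card Fd) {x y : Pt Z}
    (hc : Crit (inc (Z := Z) (V := V)) (fun x : Pt Z => ws V x.sg) 2 x y) : False := by
  obtain ⟨hm, hex⟩ := MidB.mid_of_crit h hf hO hc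
  have hT : ¬ TypN V Z := fun hT => hm.no_typN hT hex
  obtain ⟨H, M, K, iH, iM, iA, iK, ρ, π, ζ, T, lam, U, Kh, F⟩ := exists_frm h hf hO hq hNO
  have D := PB.Geom.geom h hf hO
  obtain ⟨iF, hc1, hS⟩ := exists_fs h C hcard F.toRD rfl rfl (h.V_le_ws h.ZV)
  exact false_of_bd hML (kg_of F hG hC) D F le_rfl (fun _ _ e => Pt.ext e) (WQ.t6 h hO)
    (fun a b hc => Two.exP hm (F.noOver D) hc)
    (bd_two hm (MidB.No.nog_of_mlk hm hq hG hC hML) hq hT) hS hc1
    (fun hl => Two.false_of_lines hm (fun a b r l hc hw hrl hal => hl a b r l hc hal hrl hw) hc) hc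

/-- **No critical pair at distance `n ≥ 2`.** -/
theorem no_crit (hML : MLK.{u, u}) {P B R : Subgroup G} (h : HypF S P) {F : Type} [Field F] [Finite F] [CharP F 2]
    (hF : 4 ≤ Nat.card F) (N : NatP F (zl (S : Subgroup G) P) P) (hB : FrB F S P B R)
    (hf : ¬ kx (zl (S : Subgroup G) P) R ≤ centralizer (zl (S : Subgroup G) P : Set G)) {n : ℕ} (hn : 2 ≤ n) {y : G}
    (hc : Cfsg.Agent.Omega.NoFF.Lines.Crit R (normalizer (R : Set G)) {P} n 1 y) : False := by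
  have hq : 4 ≤ Nat.card R := hB.card.symm ▸ hF
  obtain ⟨C⟩ := Fld.exists_crd h.toHyp N
  have hC := FarB.centralizer_ne_top h.toHyp hB.pb.Zne
  have hNO := kno h.toHyp hB.pb.Zne hML
  have hc' := PB.Geom.crit hB.pb hB.pb.V_eq hc
  rcases Nat.lt_or_ge 2 n with h3 | h3
  · exact far_false hB.pb hf hB.om hq hML h.toHyp.ctx.kproper hC hNO C hB.card h3 hc'
  · obtain rfl : n = 2 := by omega
    exact two_false hB.pb hf hB.om hq hML h.toHyp.ctx.kproper hC hNO C hB.card hc'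

/-- **The socket `WF`** from (ML). -/
theorem wF {K : Cls.{u}} (hML : MLK.{u, u}) : NO3S.WF K := by
  intro G _ _ _ S P h F _ _ _ hF N B R hB hf n y hn hc
  exact (no_crit hML h hF N hB hf hn hc).elim

theorem wB {K : Cls.{u}} (hML : MLK.{u, u}) : NO3S.WB K := (wF hML).wB

end Cfsg.Agent.Omega.NO3S.FullQ
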